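import Groth.Agent.H83.Quasi.Diag
import Groth.Agent.H83.MultType.BaseChange
import Groth.Agent.S2969
import Groth.Agent.S9435

/-! Groups of multiplicative type and finite type are quasi-isotrivial. -/

set_option autoImplicit false

universe u

open TensorProduct

namespace Groth.Agent.H83.Quasi

open MultType

theorem exists_fraction {R₁ k' : Type u} [CommRing R₁] [Field k'] [Algebra R₁ k']
    (h : Subfield.closure (Set.range (algebraMap R₁ k')) = ⊤) (z : k') :
    ∃ a b : R₁, algebraMap R₁ k' b ≠ 0 ∧ z * algebraMap R₁ k' b = algebraMap R₁ k' a := by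
  have hz : z ∈ Subfield.closure (Set.range (algebraMap R₁ k')) := by rw [h]; trivial
  induction hz using Subfield.closure_induction with
  | mem x hx => obtain ⟨a, rfl⟩ := hx; exact ⟨a, 1, by simp, by simp⟩
  | one => exact ⟨1, 1, by simp, by simp⟩
  | add x y _ _ hx hy =>
    obtain ⟨a, b, hb, hab⟩ := hx
    obtain ⟨c, d, hd, hcd⟩ := hy
    refine ⟨a * d + c * b, b * d, by rw [map_mul]; exact mul_ne_zero hb hd, ?_⟩
    simp only [map_mul, map_add, ← hab, ← hcd]
    ring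
  | neg x _ hx =>
    obtain ⟨a, b, hb, hab⟩ := hx
    exact ⟨-a, b, hb, by rw [neg_mul, hab, map_neg]⟩
  | inv x _ hx =>
    obtain ⟨a, b, hb, hab⟩ := hx
    rcases eq_or_ne x 0 with rfl | hx0
    · exact ⟨0, 1, by simp, by simp⟩
    refine ⟨b, a, by rw [← hab]; exact mul_ne_zero hx0 hb, ?_⟩
    rw [← hab, ← mul_assoc, inv_mul_cancel₀ hx0, one_mul]
  | mul x y _ _ hx hy =>
    obtain ⟨a, b, hb, hab⟩ := hx
    obtain ⟨c, d, hd, hcd⟩ := hy
    refine ⟨a * c, b * d, by rw [map_mul]; exact mul_ne_zero hb hd, ?_⟩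
    simp only [map_mul, ← hab, ← hcd]
    ring

theorem exists_denominator {R₁ k' A : Type u} [CommRing R₁] [Field k'] [Algebra R₁ k'] [CommRing A] [Algebra R₁ A]
    (h : Subfield.closure (Set.range (algebraMap R₁ k')) = ⊤) (z : k' ⊗[R₁] A) :
    ∃ c : k', c ≠ 0 ∧ ∃ x : A, c • z = (1 : k') ⊗ₜ[R₁] x := by
  induction z using TensorProduct.induction_on with
  | zero => exact ⟨1, one_ne_zero, 0, by simp⟩
  | tmul s a =>
    obtain ⟨u, v, hv, huv⟩ := exists_fraction h s
    refine ⟨algebraMap R₁ k' v, hv, u • a, ?_⟩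
    rw [TensorProduct.smul_tmul', smul_eq_mul, mul_comm, huv, ← TensorProduct.smul_tmul, Algebra.smul_def, mul_one]
  | add p q hp hq =>
    obtain ⟨c, hc, x, hx⟩ := hp
    obtain ⟨d, hd, y, hy⟩ := hq
    obtain ⟨u, v, hv, huv⟩ := exists_fraction h c
    obtain ⟨u', v', hv', huv'⟩ := exists_fraction h d
    refine ⟨c * d * (algebraMap R₁ k' v * algebraMap R₁ k' v'), mul_ne_zero (mul_ne_zero hc hd) (mul_ne_zero hv hv'),
      (u' * v) • x + (u * v') • y, ?_⟩
    rw [smul_add, show c * d * (algebraMap R₁ k' v * algebraMap R₁ k' v') = (algebraMap R₁ k' (u' * v)) * c by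
        rw [map_mul, ← huv']; ring, mul_smul, hx, show algebraMap R₁ k' (u' * v) * c = algebraMap R₁ k' (u * v') * d by
        rw [map_mul, map_mul, ← huv, ← huv']; ring, mul_smul, hy, TensorProduct.tmul_add, TensorProduct.smul_tmul',
      TensorProduct.smul_tmul', TensorProduct.tmul_smul, TensorProduct.tmul_smul, TensorProduct.smul_tmul',
      TensorProduct.smul_tmul', smul_eq_mul, smul_eq_mul, Algebra.smul_def, Algebra.smul_def]

theorem exists_lattice_hom {ι : Type u} [Fintype ι] [DecidableEq ι] {H : Type u} [CommGroup H] (v : ι → H) :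
    ∃ f : (ι → Multiplicative ℤ) →* H, ∀ i, f (Pi.mulSingle i (Multiplicative.ofAdd 1)) = v i := by
  refine ⟨∏ i : ι, (zpowersHom H (v i)).comp (Pi.evalMonoidHom (fun _ : ι => Multiplicative ℤ) i), fun i => ?_⟩
  rw [MonoidHom.finsetProd_apply, Finset.prod_eq_single i]
  · simp [zpowersHom_apply]
  · intro b _ hb
    simp [Pi.mulSingle_eq_of_ne hb, zpowersHom_apply]
  · intro h; exact absurd (Finset.mem_univ i) h

set_option maxHeartbeats 1600000 in
set_option synthInstance.maxHeartbeats 200000 in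
/-- The characters at a point extend to an etale neighbourhood. -/
theorem exists_nbhd_hom {R : Type u} [CommRing R] {A : Type u} [CommRing A] [HopfAlgebra R A]
    (hft : Algebra.FiniteType R A) {S : Type u} [CommRing S] [Algebra R S] [Module.FaithfullyFlat R S] {M : Type u}
    [CommGroup M] (e : (S ⊗[R] A) ≃ₐc[S] MonoidAlgebra S M) {κ : Type u} [Field κ] [Algebra R κ]
    (hκ : ∀ z : κ ⊗[R] A, ∃ c : κ, c ≠ 0 ∧ ∃ x : A, c • z = (1 : κ) ⊗ₜ[R] x)
    {M₀ : Type u} [CommGroup M₀] [Group.FG M₀] (e₀ : (κ ⊗[R] A) ≃ₐc[κ] MonoidAlgebra κ M₀) :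
    ∃ (N : Nbhd R κ) (χ : M₀ →* N.R' ⊗[R] A), (∀ m, IsGroupLikeElem N.R' (χ m)) ∧
      ∀ m, e₀ (coeffMap N.φ (χ m)) = MonoidAlgebra.single m 1 := by
  classical
  let ι₀ : M₀ → κ ⊗[R] A := fun m => e₀.symm (MonoidAlgebra.single m 1)
  have hι₀ : ∀ m, IsGroupLikeElem κ (ι₀ m) := fun m => (groupLike_single m).map e₀.symm
  obtain ⟨gen, hgenM⟩ := Group.fg_iff.mp (inferInstance : Group.FG M₀) |> fun ⟨G, hG, hfin⟩ => (⟨hfin.toFinset, by simpa using hG⟩ :
    ∃ G : Finset M₀, Subgroup.closure (G : Set M₀) = ⊤)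
  obtain ⟨N₁, hN₁⟩ := exists_nbhd_lift hft e hκ (gen.image ι₀)
    (by intro z hz; obtain ⟨m, -, rfl⟩ := Finset.mem_image.mp hz; exact hι₀ m)
  choose w hw hwι using fun m : gen => hN₁ (ι₀ m.1) (Finset.mem_image_of_mem ι₀ m.2)
  let F := gen → Multiplicative ℤ
  let wg : gen → GroupLike N₁.R' (N₁.R' ⊗[R] A) := fun m => ⟨w m, hw m⟩
  letI cg₁ : CommGroup (GroupLike N₁.R' (N₁.R' ⊗[R] A)) := GroupLike.instCommGroup
  obtain ⟨χ₀, hχ₀e⟩ := exists_lattice_hom wg
  obtain ⟨π, hπe⟩ := exists_lattice_hom (fun m : gen => m.1)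
  have hπ : Function.Surjective π := by
    rw [← MonoidHom.range_eq_top, eq_top_iff, ← hgenM, Subgroup.closure_le]
    exact fun m hm => ⟨_, hπe ⟨m, hm⟩⟩
  have hcompat : ∀ f : F, coeffMap N₁.φ (χ₀ f).val = ι₀ (π f) := by
    let lhs : F →* κ ⊗[R] A :=
      { toFun := fun f => coeffMap N₁.φ (χ₀ f).val
        map_one' := by rw [map_one]; exact map_one _
        map_mul' := fun a b => by rw [map_mul]; exact map_mul _ _ _ }
    let rhs : F →* κ ⊗[R] A :=
      ((e₀.symm : MonoidAlgebra κ M₀ →ₐc[κ] κ ⊗[R] A).toAlgHom.toMonoidHom.comp (MonoidAlgebra.of κ M₀)).comp π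
    suffices h : lhs = rhs from fun f => DFunLike.congr_fun h f
    apply MonoidHom.pi_ext
    intro m z
    have h1 : lhs (Pi.mulSingle m (Multiplicative.ofAdd 1)) = rhs (Pi.mulSingle m (Multiplicative.ofAdd 1)) := by
      show coeffMap N₁.φ (χ₀ _).val = ι₀ (π _)
      rw [hχ₀e, hπe]
      exact hwι m
    have h2 : Multiplicative.ofAdd (1 : ℤ) ^ z.toAdd = z := by
      apply Multiplicative.toAdd.injective
      simp
    have h3 : lhs.toHomUnits (Pi.mulSingle m z) = rhs.toHomUnits (Pi.mulSingle m z) := by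
      rw [← h2, show Pi.mulSingle m (Multiplicative.ofAdd (1 : ℤ) ^ z.toAdd) =
          (MonoidHom.mulSingle (fun _ : gen => Multiplicative ℤ) m) (Multiplicative.ofAdd (1 : ℤ) ^ z.toAdd) from rfl,
        map_zpow, map_zpow, map_zpow]
      congr 1
      exact Units.ext h1
    exact congrArg Units.val h3
  obtain ⟨ker, hker⟩ : ∃ ker : Finset F, Subgroup.closure (ker : Set F) = π.ker := by
    haveI : Module.Finite ℤ (Additive F) := Module.Finite.iff_addGroup_fg.mpr
      (AddGroup.fg_iff_addMonoid_fg.mpr inferInstance)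
    haveI : IsNoetherian ℤ (Additive F) := inferInstance
    obtain ⟨t, ht⟩ := IsNoetherian.noetherian (AddSubgroup.toIntSubmodule (Subgroup.toAddSubgroup π.ker))
    refine ⟨t.map Additive.toMul.toEmbedding, ?_⟩
    apply Subgroup.toAddSubgroup.injective
    rw [Subgroup.toAddSubgroup_closure]
    apply AddSubgroup.toIntSubmodule.injective
    rw [← ht, ← Submodule.span_int_eq_addSubgroupClosure]
    ext x
    simp
  have heq : ∀ f ∈ ker, ∃ g : N₁.R', N₁.φ g ≠ 0 ∧ g • (χ₀ f).val = g • (1 : N₁.R' ⊗[R] A) := fun f hf => by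
    refine exists_away_eq e N₁.φ (χ₀ f).2 IsGroupLikeElem.one ?_
    rw [hcompat, map_one, show π f = 1 from (hker ▸ Subgroup.subset_closure hf : f ∈ π.ker)]
    exact map_one e₀.symm
  choose gs hgs hgsm using heq
  let g : N₁.R' := ∏ f ∈ ker.attach, gs f.1 f.2
  have hg : N₁.φ g ≠ 0 := by
    rw [map_prod]
    exact Finset.prod_ne_zero_iff.mpr fun f _ => hgs _ _
  obtain ⟨N₂, j, hj, hju⟩ := exists_nbhd_away N₁ hg
  let jG : GroupLike N₁.R' (N₁.R' ⊗[R] A) →* GroupLike N₂.R' (N₂.R' ⊗[R] A) :=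
    { toFun := fun a => ⟨coeffMap j a.val, groupLike_coeffMap j a.2⟩
      map_one' := GroupLike.val_injective (map_one (coeffMap (A := A) j))
      map_mul' := fun a b => GroupLike.val_injective (map_mul (coeffMap (A := A) j) a.val b.val) }
  have hkill : π.ker ≤ MonoidHom.ker (jG.comp χ₀) := by
    rw [← hker, Subgroup.closure_le]
    intro f hf
    obtain ⟨c, hc⟩ : gs f hf ∣ g := Finset.dvd_prod_of_mem (fun f : {f // f ∈ ker} => gs f.1 f.2) (Finset.mem_attach ker ⟨f, hf⟩)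
    have hu : IsUnit (j (gs f hf)) := isUnit_of_mul_isUnit_left (y := j c) (by rw [← map_mul, ← hc]; exact hju)
    refine GroupLike.val_injective ?_
    show coeffMap j (χ₀ f).val = 1
    rw [← hu.smul_left_cancel, ← smul_coeffMap, hgsm, smul_coeffMap, map_one]
  let χG : M₀ →* GroupLike N₂.R' (N₂.R' ⊗[R] A) := MonoidHom.liftOfSurjective π hπ ⟨_, hkill⟩
  let χ : M₀ →* N₂.R' ⊗[R] A := (GroupLike.valMonoidHom N₂.R' (N₂.R' ⊗[R] A)).comp χG
  have hχπ : ∀ f, χ (π f) = coeffMap j (χ₀ f).val := fun f =>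
    congrArg GroupLike.val (MonoidHom.liftOfRightInverse_comp_apply π _ (Function.rightInverse_surjInv hπ) ⟨_, hkill⟩ f)
  have hχgl : ∀ m, IsGroupLikeElem N₂.R' (χ m) := fun m => (χG m).2
  refine ⟨N₂, χ, hχgl, fun m => ?_⟩
  obtain ⟨f, rfl⟩ := hπ m
  rw [hχπ, coeffMap_comp, hj, hcompat]
  exact e₀.apply_symm_apply _

set_option maxHeartbeats 1600000 in
set_option synthInstance.maxHeartbeats 200000 in
/-- Around any point the group becomes diagonalisable on an etale neighbourhood. -/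
theorem exists_etale_nhd_diag {R : Type u} [CommRing R] {A : Type u} [CommRing A] [HopfAlgebra R A]
    (hft : Algebra.FiniteType R A) {S : Type u} [CommRing S] [Algebra R S] [Module.FaithfullyFlat R S] {M : Type u}
    [CommGroup M] (e : (S ⊗[R] A) ≃ₐc[S] MonoidAlgebra S M) (p : Ideal R) [p.IsPrime] :
    ∃ (R' : Type u) (_ : CommRing R') (_ : Algebra R R') (_ : Algebra.Etale R R') (q : Ideal R'), q.IsPrime ∧
      q.comap (algebraMap R R') = p ∧ SGA3b.IsDiag R' (R' ⊗[R] A) := by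
  classical
  have hmt : SGA3b.IsMultType R A := isMultType_of_diag S ⟨M, inferInstance, ⟨e⟩⟩
  obtain ⟨k', _, _, _, _, M₀, _, hM₀, ⟨d⟩⟩ := Groth.Agent.S2969.result p.ResidueField (p.ResidueField ⊗[R] A)
    (by haveI := hft; infer_instance) (isMultType_baseChange p.ResidueField hmt)
  haveI := hM₀
  letI : Algebra R k' := Algebra.compHom k' (algebraMap R p.ResidueField)
  haveI : IsScalarTower R p.ResidueField k' := IsScalarTower.of_algebraMap_eq fun _ => rfl
  obtain ⟨R₁, _, _, _, ψ₁, hgen⟩ := Groth.Agent.S9435.result R p k'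
  letI : Algebra R₁ k' := ψ₁.toRingHom.toAlgebra
  haveI : IsScalarTower R R₁ k' := IsScalarTower.of_algebraMap_eq fun r => (ψ₁.commutes r).symm
  let A₁ := R₁ ⊗[R] A
  let S₁ := R₁ ⊗[R] S
  obtain ⟨e', -⟩ := exists_diag_map (Algebra.TensorProduct.includeRight : S →ₐ[R] S₁) e
  obtain ⟨T₁, -⟩ := exists_towerEquiv R R₁ S₁ A
  let e₁ : (S₁ ⊗[R₁] A₁) ≃ₐc[S₁] MonoidAlgebra S₁ M := T₁.symm.trans e'
  obtain ⟨Tp, -⟩ := exists_towerEquiv R p.ResidueField k' A
  obtain ⟨Tk, -⟩ := exists_towerEquiv R R₁ k' A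
  let d₁ : (k' ⊗[R₁] A₁) ≃ₐc[k'] MonoidAlgebra k' M₀ := Tk.symm.trans (Tp.trans d)
  haveI : Algebra.FiniteType R₁ A₁ := by haveI := hft; infer_instance
  have hκ := exists_denominator (R₁ := R₁) (A := A₁) (show Subfield.closure (Set.range (algebraMap R₁ k')) = ⊤ from hgen)
  obtain ⟨N₂, χ, hχgl, hχd⟩ := exists_nbhd_hom (inferInstance : Algebra.FiniteType R₁ A₁) e₁ hκ d₁
  letI : Algebra N₂.R' k' := N₂.φ.toRingHom.toAlgebra
  haveI : IsScalarTower R₁ N₂.R' k' := IsScalarTower.of_algebraMap_eq fun r => (N₂.φ.commutes r).symm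
  let A₂ := N₂.R' ⊗[R₁] A₁
  let S₂ := N₂.R' ⊗[R₁] S₁
  obtain ⟨e₁', -⟩ := exists_diag_map (Algebra.TensorProduct.includeRight : S₁ →ₐ[R₁] S₂) e₁
  obtain ⟨T₂, -⟩ := exists_towerEquiv R₁ N₂.R' S₂ A₁
  obtain ⟨Tk₂, hTk₂⟩ := exists_towerEquiv R₁ N₂.R' k' A₁
  haveI : Algebra.FiniteType N₂.R' A₂ := inferInstance
  obtain ⟨g₂, hg₂, hdiag⟩ := exists_diag_away (κ := k') (inferInstance : Algebra.FiniteType N₂.R' A₂) (T₂.symm.trans e₁')
    (Tk₂.symm.trans d₁) χ hχgl (fun m => by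
      show d₁ (Tk₂.symm ((1 : k') ⊗ₜ[N₂.R'] χ m)) = _
      rw [← towerEquiv_coeffMap Tk₂ hTk₂, show IsScalarTower.toAlgHom R₁ N₂.R' k' = N₂.φ from AlgHom.ext fun _ => rfl,
        show Tk₂.symm (Tk₂ (coeffMap N₂.φ (χ m))) = _ from Tk₂.symm_apply_apply _]
      exact hχd m)
  let R₃ := Localization.Away g₂
  haveI : Algebra.Etale N₂.R' R₃ := Algebra.Etale.of_isLocalizationAway g₂
  haveI : Algebra.Etale R₁ R₃ := Algebra.Etale.comp R₁ N₂.R' R₃
  letI : Algebra R R₃ := Algebra.compHom R₃ (algebraMap R R₁)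
  haveI : IsScalarTower R R₁ R₃ := IsScalarTower.of_algebraMap_eq fun _ => rfl
  haveI : Algebra.Etale R R₃ := Algebra.Etale.comp R R₁ R₃
  let φ₃ : R₃ →ₐ[R₁] k' := IsLocalization.liftAlgHom (M := Submonoid.powers g₂) (f := N₂.φ)
    (by
      rintro ⟨_, n, rfl⟩
      show IsUnit (N₂.φ (g₂ ^ n))
      rw [map_pow]
      exact (IsUnit.mk0 _ hg₂).pow n)
  refine ⟨R₃, inferInstance, inferInstance, inferInstance, RingHom.ker φ₃.toRingHom, RingHom.ker_isPrime _, ?_, ?_⟩
  · ext r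
    rw [Ideal.mem_comap, RingHom.mem_ker]
    show φ₃ (algebraMap R R₃ r) = 0 ↔ _
    rw [IsScalarTower.algebraMap_apply R R₁ R₃, φ₃.commutes, ← IsScalarTower.algebraMap_apply R R₁ k',
      IsScalarTower.algebraMap_apply R p.ResidueField k', map_eq_zero, Ideal.algebraMap_residueField_eq_zero]
  · obtain ⟨U₁, -⟩ := exists_towerEquiv R R₁ R₃ A
    obtain ⟨U₂, -⟩ := exists_towerEquiv R₁ N₂.R' R₃ A₁
    obtain ⟨M', _, ⟨eM⟩⟩ := hdiag
    exact ⟨M', inferInstance, ⟨U₁.trans (U₂.trans eM)⟩⟩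

set_option maxHeartbeats 800000 in
set_option synthInstance.maxHeartbeats 200000 in
/-- A group of multiplicative type and of finite type is quasi-isotrivial. -/
theorem isQuasiIsotrivial_of_finiteType {R : Type u} [CommRing R] {A : Type u} [CommRing A] [HopfAlgebra R A]
    (hft : Algebra.FiniteType R A) (h : SGA3b.IsMultType R A) : SGA3b.IsQuasiIsotrivial R A := by
  classical
  obtain ⟨s, hs, hc⟩ := h
  refine ⟨{f | SGA3b.IsQuasiIsotrivialConst (Localization.Away f) (Localization.Away f ⊗[R] A)}, ?_, fun f hf => hf⟩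
  by_contra hne
  obtain ⟨p, hp, hle⟩ := Ideal.exists_le_maximal _ hne
  haveI := hp.isPrime
  obtain ⟨f₀, hf₀, hf₀p⟩ : ∃ f₀ ∈ s, f₀ ∉ p := by
    by_contra h
    simp only [not_exists, not_and, not_not] at h
    exact hp.ne_top (top_le_iff.mp (hs ▸ Ideal.span_le.mpr h))
  let R₀ := Localization.Away f₀
  obtain ⟨S, _, _, hff, M, _, ⟨e⟩⟩ := hc f₀ hf₀
  haveI : Module.FaithfullyFlat R₀ S := hff
  obtain ⟨P, hP⟩ : (⟨p, inferInstance⟩ : PrimeSpectrum R) ∈ Set.range (PrimeSpectrum.comap (algebraMap R R₀)) := by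
    rw [PrimeSpectrum.localization_away_comap_range R₀ f₀]
    exact hf₀p
  haveI : Algebra.FiniteType R₀ (R₀ ⊗[R] A) := by haveI := hft; infer_instance
  obtain ⟨R', _, _, _, q, hq, hqP, hdiag⟩ := exists_etale_nhd_diag (inferInstance : Algebra.FiniteType R₀ (R₀ ⊗[R] A)) e P.asIdeal
  letI : Algebra R R' := Algebra.compHom R' (algebraMap R R₀)
  haveI : IsScalarTower R R₀ R' := IsScalarTower.of_algebraMap_eq fun _ => rfl
  haveI : Algebra.Etale R R₀ := Algebra.Etale.of_isLocalizationAway f₀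
  haveI : Algebra.Etale R R' := Algebra.Etale.comp R R₀ R'
  haveI : Algebra.HasGoingDown R R' := Algebra.HasGoingDown.of_flat
  have hopen := PrimeSpectrum.isOpenMap_comap_of_hasGoingDown_of_finitePresentation (R := R) (S := R')
  have hmem : (⟨p, inferInstance⟩ : PrimeSpectrum R) ∈ Set.range (PrimeSpectrum.comap (algebraMap R R')) := by
    refine ⟨⟨q, hq⟩, ?_⟩
    rw [← hP, IsScalarTower.algebraMap_eq R R₀ R', PrimeSpectrum.comap_comp_apply]
    congr 1
    exact PrimeSpectrum.ext hqP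
  obtain ⟨_, ⟨_, ⟨f, rfl⟩, rfl⟩, hfp, hfsub⟩ := PrimeSpectrum.isBasis_basic_opens.exists_subset_of_mem_open hmem hopen.isOpen_range
  apply hfp
  refine hle (Ideal.subset_span ?_)
  let Rf := Localization.Away f
  let R'f := Localization.Away (algebraMap R R' f)
  have hu : IsUnit (algebraMap R R'f f) := by
    rw [IsScalarTower.algebraMap_apply R R' R'f]
    exact IsLocalization.Away.algebraMap_isUnit (algebraMap R R' f)
  letI : Algebra Rf R'f := (IsLocalization.Away.lift f (g := algebraMap R R'f) hu).toAlgebra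
  haveI : IsScalarTower R Rf R'f := IsScalarTower.of_algebraMap_eq fun r => (IsLocalization.Away.lift_eq f hu r).symm
  haveI : Algebra.Etale R' R'f := Algebra.Etale.of_isLocalizationAway (algebraMap R R' f)
  haveI : Algebra.Etale R R'f := Algebra.Etale.comp R R' R'f
  haveI : Algebra.Etale R Rf := Algebra.Etale.of_isLocalizationAway f
  haveI : Algebra.Etale Rf R'f := Algebra.Etale.of_restrictScalars R Rf R'f
  haveI : Module.FaithfullyFlat Rf R'f := by
    refine Module.FaithfullyFlat.of_comap_surjective fun Q => ?_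
    have hQ : PrimeSpectrum.comap (algebraMap R Rf) Q ∈ PrimeSpectrum.basicOpen f := by
      rw [← SetLike.mem_coe, ← PrimeSpectrum.localization_away_comap_range Rf f]
      exact ⟨Q, rfl⟩
    obtain ⟨Q', hQ'⟩ := hfsub hQ
    obtain ⟨Q'', hQ''⟩ : Q' ∈ Set.range (PrimeSpectrum.comap (algebraMap R' R'f)) := by
      rw [PrimeSpectrum.localization_away_comap_range R'f (algebraMap R R' f)]
      show algebraMap R R' f ∉ Q'.asIdeal
      have h2 : f ∉ (PrimeSpectrum.comap (algebraMap R R') Q').asIdeal := hQ' ▸ hQ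
      exact h2
    refine ⟨Q'', PrimeSpectrum.localization_comap_injective Rf (Submonoid.powers f) ?_⟩
    rw [← PrimeSpectrum.comap_comp_apply, ← IsScalarTower.algebraMap_eq, IsScalarTower.algebraMap_eq R R' R'f,
      PrimeSpectrum.comap_comp_apply, hQ'', hQ']
  obtain ⟨M', _, ⟨eM⟩⟩ := hdiag
  obtain ⟨U₀, -⟩ := exists_towerEquiv R R₀ R' A
  obtain ⟨e', -⟩ := exists_diag_map (IsScalarTower.toAlgHom R R' R'f) (U₀.trans eM)
  obtain ⟨U₁, -⟩ := exists_towerEquiv R Rf R'f A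
  exact ⟨R'f, inferInstance, inferInstance, inferInstance, inferInstance, M', inferInstance, ⟨U₁.symm.trans e'⟩⟩

end Groth.Agent.H83.Quasi
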