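import Groth.Agent.H83.MultType.Functorial
import Groth.Agent.Lib.OT67.MultFinite

/-! Group-like elements of a finite group of multiplicative type extend to an etale algebra. -/

set_option autoImplicit false

universe u

open TensorProduct WithConv

namespace Groth.Agent.H83.Quasi

open MultType

theorem eq_sum_dual {R : Type u} [CommRing R] {B : Type u} [AddCommGroup B] [Module R B] {ι : Type} [Fintype ι]
    (b : ι → B) (ψ : ι → B →ₗ[R] R) (hsum : ∀ a : B, a = ∑ i, ψ i a • b i) (z : B ⊗[R] B) :
    z = ∑ i, ∑ j, LinearMap.mul' R R (TensorProduct.map (ψ i) (ψ j) z) • (b i ⊗ₜ[R] b j) := by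
  induction z using TensorProduct.induction_on with
  | zero => simp
  | add p q hp hq =>
    simp only [map_add, add_smul, Finset.sum_add_distrib]
    rw [← hp, ← hq]
  | tmul p q =>
    conv_lhs => rw [hsum p, hsum q]
    rw [TensorProduct.sum_tmul]
    refine Finset.sum_congr rfl fun i _ => ?_
    rw [TensorProduct.tmul_sum]
    refine Finset.sum_congr rfl fun j _ => ?_
    rw [TensorProduct.smul_tmul_smul, TensorProduct.map_tmul, LinearMap.mul'_apply]

/-- A group-like element over any algebra comes from an etale algebra. -/
theorem exists_etale_point {R : Type u} [CommRing R] {B : Type u} [CommRing B] [HopfAlgebra R B]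
    (hB : SGA3b.IsMultType R B) [Module.Finite R B] {κ : Type u} [CommRing κ] [Algebra R κ] {z : κ ⊗[R] B}
    (hz : IsGroupLikeElem κ z) :
    ∃ (R' : Type u) (_ : CommRing R') (_ : Algebra R R') (_ : Algebra.Etale R R') (φ : R' →ₐ[R] κ) (g : R' ⊗[R] B),
      IsGroupLikeElem R' g ∧ coeffMap φ g = z := by
  classical
  haveI := Groth.Agent.Lib.OT67.MultFinite.isCocomm hB
  haveI := Groth.Agent.Lib.OT67.MultFinite.projective hB
  haveI := Groth.Agent.Lib.OT67.MultFinite.etale_dual hB
  obtain ⟨n, f, g, -, -, hfg⟩ := Module.Finite.exists_comp_eq_id_of_projective R B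
  let b : Fin n → B := fun i => f (Pi.single i 1)
  let ψ : Fin n → CartDual.D R B := fun i => toConv ((LinearMap.proj i).comp g)
  have hsum : ∀ a : B, a = ∑ i, (ψ i).ofConv a • b i := by
    intro a
    have h1 := LinearMap.congr_fun hfg a
    simp only [LinearMap.comp_apply, LinearMap.id_apply] at h1
    conv_lhs => rw [← h1, pi_eq_sum_univ' (g a), map_sum]
    exact Finset.sum_congr rfl fun i _ => map_smul f _ _
  have hD : ∀ x : CartDual.D R B, x = ∑ i, x.ofConv (b i) • ψ i := by
    intro x
    apply WithConv.ofConv_injective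
    refine LinearMap.ext fun a => ?_
    conv_lhs => rw [hsum a, map_sum]
    simp [mul_comm]
  let ev : CartDual.D R B →ₗ[R] κ :=
    { toFun := fun x => TensorProduct.rid R κ (LinearMap.lTensor κ x.ofConv z)
      map_add' := fun x y => by
        rw [WithConv.ofConv_add, LinearMap.lTensor_add, LinearMap.add_apply, map_add]
      map_smul' := fun r x => by
        rw [WithConv.ofConv_smul, LinearMap.lTensor_smul, LinearMap.smul_apply, map_smul, RingHom.id_apply] }
  obtain ⟨hz1, hz2⟩ := (groupLike_iff z).mp hz
  have hev1 : ev 1 = 1 := by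
    rw [← hz2]
    show TensorProduct.rid R κ (LinearMap.lTensor κ (1 : CartDual.D R B).ofConv z) = _
    clear hz hz1 hz2
    induction z using TensorProduct.induction_on with
    | zero => simp
    | add p q hp hq => simp only [map_add, hp, hq]
    | tmul s a =>
      rw [LinearMap.lTensor_tmul, TensorProduct.rid_tmul, TensorProduct.counit_tmul, CommSemiring.counit_apply]
      simp [Algebra.smul_def, mul_comm]
  have hevmul : ∀ x y, ev (x * y) = ev x * ev y := by
    intro x y
    let P : B ⊗[R] B →ₗ[R] R := LinearMap.mul' R R ∘ₗ TensorProduct.map x.ofConv y.ofConv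
    have h1 : ∀ w : κ ⊗[R] B, TensorProduct.rid R κ (LinearMap.lTensor κ P (comulS κ w)) =
        TensorProduct.rid R κ (LinearMap.lTensor κ (x * y).ofConv w) := by
      intro w
      induction w using TensorProduct.induction_on with
      | zero => simp
      | add p q hp hq => simp only [map_add, hp, hq]
      | tmul s a => rfl
    have h2 : ∀ v w : κ ⊗[R] B, TensorProduct.rid R κ (LinearMap.lTensor κ P (inlS κ v * inrS κ w)) =
        TensorProduct.rid R κ (LinearMap.lTensor κ x.ofConv v) * TensorProduct.rid R κ (LinearMap.lTensor κ y.ofConv w) := by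
      intro v w
      induction v using TensorProduct.induction_on with
      | zero => simp
      | add p q hp hq => simp only [map_add, add_mul, hp, hq]
      | tmul s a =>
        induction w using TensorProduct.induction_on with
        | zero => simp
        | add p q hp hq => simp only [map_add, mul_add, hp, hq]
        | tmul t c =>
          simp only [inlS, inrS, Algebra.TensorProduct.map_tmul, AlgHom.id_apply, Algebra.TensorProduct.includeLeft_apply,
            Algebra.TensorProduct.includeRight_apply, Algebra.TensorProduct.tmul_mul_tmul, mul_one, one_mul,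
            LinearMap.lTensor_tmul, TensorProduct.rid_tmul]
          show (x.ofConv a * y.ofConv c) • (s * t) = _
          rw [smul_mul_smul_comm]
    show TensorProduct.rid R κ (LinearMap.lTensor κ (x * y).ofConv z) = _
    rw [← h1, hz1, h2]
    rfl
  let φ : CartDual.D R B →ₐ[R] κ := AlgHom.ofLinearMap ev hev1 hevmul
  refine ⟨CartDual.D R B, inferInstance, inferInstance, inferInstance, φ, ∑ i, ψ i ⊗ₜ[R] b i, ?_, ?_⟩
  · rw [groupLike_iff]
    constructor
    · simp only [map_sum]
      rw [Finset.sum_mul_sum]
      have h1 : ∀ k, comulS (CartDual.D R B) (ψ k ⊗ₜ[R] b k) =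
          ∑ i, ∑ j, ((ψ i * ψ j).ofConv (b k) • ψ k) ⊗ₜ[R] (b i ⊗ₜ[R] b j) := by
        intro k
        show ψ k ⊗ₜ[R] (CoalgebraStruct.comul (R := R) (b k)) = _
        conv_lhs => rw [eq_sum_dual b (fun i => (ψ i).ofConv) hsum (CoalgebraStruct.comul (R := R) (b k))]
        simp only [TensorProduct.tmul_sum, TensorProduct.tmul_smul]
        refine Finset.sum_congr rfl fun i _ => Finset.sum_congr rfl fun j _ => ?_
        rw [← TensorProduct.smul_tmul' ((ψ i * ψ j).ofConv (b k)) (ψ k) (b i ⊗ₜ[R] b j)]
        rfl
      simp only [h1]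
      rw [Finset.sum_comm]
      refine Finset.sum_congr rfl fun i _ => ?_
      rw [Finset.sum_comm]
      refine Finset.sum_congr rfl fun j _ => ?_
      rw [← TensorProduct.sum_tmul, ← hD (ψ i * ψ j)]
      simp [inlS, inrS]
    · simp only [map_sum, TensorProduct.counit_tmul, CommSemiring.counit_apply]
      refine Eq.trans ?_ (hD 1).symm
      refine Finset.sum_congr rfl fun i _ => ?_
      rfl
  · simp only [map_sum, coeffMap_tmul]
    show ∑ i, ev (ψ i) ⊗ₜ[R] b i = z
    show ∑ i, (TensorProduct.rid R κ (LinearMap.lTensor κ (ψ i).ofConv z)) ⊗ₜ[R] b i = z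
    clear hev1 hevmul φ hz hz1 hz2 ev
    induction z using TensorProduct.induction_on with
    | zero => simp
    | add p q hp hq => simp only [map_add, TensorProduct.add_tmul, Finset.sum_add_distrib, hp, hq]
    | tmul s a =>
      simp only [LinearMap.lTensor_tmul, TensorProduct.rid_tmul, TensorProduct.smul_tmul, ← TensorProduct.tmul_sum]
      rw [← hsum]

end Groth.Agent.H83.Quasi
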