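import Groth.Agent.H83.MultType.Finite
import Groth.Agent.H83.MultType.Density
import Groth.Agent.Lib.OT67.MultFinite

/-! The kernels of the power maps as closed subgroups. -/

set_option autoImplicit false

universe u

open TensorProduct WithConv

namespace Groth.Agent.H83.Quasi

open MultType

/-- The `n`-th power map of a commutative group, as a homomorphism. -/
noncomputable def powHom (R : Type u) [CommRing R] (A : Type u) [CommRing A] [HopfAlgebra R A] [Coalgebra.IsCocomm R A]
    (n : ℕ) : A →ₐc[R] A :=
  ((toConv (BialgHom.id R A)) ^ n).ofConv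

theorem powHom_apply (R : Type u) [CommRing R] (A : Type u) [CommRing A] [HopfAlgebra R A] [Coalgebra.IsCocomm R A]
    (n : ℕ) (a : A) : powHom R A n a = SGA3b.powConv R A n a :=
  congrArg (fun f : WithConv (A →ₐ[R] A) => f.ofConv a) (BialgHom.toAlgHom_convPow (toConv (BialgHom.id R A)) n)

theorem antipode_powConv {R : Type u} [CommRing R] {A : Type u} [CommRing A] [HopfAlgebra R A] [Coalgebra.IsCocomm R A]
    (n : ℕ) (a : A) :
    HopfAlgebraStruct.antipode R (SGA3b.powConv R A n a) = SGA3b.powConv R A n (HopfAlgebraStruct.antipode R a) := by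
  have h : ((toConv (HopfAlgebra.antipodeAlgHom R A) : WithConv (A →ₐ[R] A)) ^ n) = ((toConv (AlgHom.id R A)) ^ n)⁻¹ := by
    rw [← inv_pow]
    congr 1
  have h1 := Groth.Agent.Lib.OT67.comp_pow (HopfAlgebra.antipodeAlgHom R A) (toConv (AlgHom.id R A)) n
  rw [ofConv_toConv, AlgHom.comp_id, h] at h1
  exact DFunLike.congr_fun h1 a

/-- The ideal of the kernel of a power map is a Hopf ideal. -/
theorem isHopfIdeal_torsionIdeal {R : Type u} [CommRing R] {A : Type u} [CommRing A] [HopfAlgebra R A]
    [Coalgebra.IsCocomm R A] (n : ℕ) : (SGA3b.torsionIdeal R A n).IsHopfIdeal R := by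
  let J := SGA3b.torsionIdeal R A n
  let mk : A →ₐ[R] A ⧸ J := Ideal.Quotient.mkₐ R J
  have hmk : ∀ a : A, mk (powHom R A n a) = algebraMap R (A ⧸ J) (Bialgebra.counitAlgHom R A a) := by
    intro a
    rw [powHom_apply]
    have h0 : a - algebraMap R A (Bialgebra.counitAlgHom R A a) ∈ RingHom.ker (Bialgebra.counitAlgHom R A) := by
      rw [RingHom.mem_ker, map_sub, AlgHom.commutes]; simp
    have h2 : SGA3b.powConv R A n (a - algebraMap R A (Bialgebra.counitAlgHom R A a)) ∈ J :=
      Ideal.mem_map_of_mem _ h0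
    rw [map_sub, AlgHom.commutes, ← Ideal.Quotient.eq] at h2
    exact h2
  let ξ : A →ₐ[R] (A ⧸ J) ⊗[R] (A ⧸ J) := (Algebra.TensorProduct.map mk mk).comp (Bialgebra.comulAlgHom R A)
  have hξ : J ≤ RingHom.ker ξ := by
    refine Ideal.map_le_iff_le_comap.mpr fun b hb => ?_
    rw [Ideal.mem_comap, RingHom.mem_ker]
    show Algebra.TensorProduct.map mk mk (CoalgebraStruct.comul (R := R) (SGA3b.powConv R A n b)) = 0
    rw [← powHom_apply, ← CoalgHomClass.map_comp_comul_apply]
    have key : ∀ z : A ⊗[R] A,
        Algebra.TensorProduct.map mk mk (TensorProduct.map (powHom R A n : A →ₗ[R] A) (powHom R A n : A →ₗ[R] A) z) =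
          algebraMap R _ (LinearMap.mul' R R (TensorProduct.map (CoalgebraStruct.counit (R := R) (A := A))
            (CoalgebraStruct.counit (R := R) (A := A)) z)) := by
      intro z
      induction z using TensorProduct.induction_on with
      | zero => simp
      | add p q hp hq => simp only [map_add, hp, hq]
      | tmul p q =>
        simp only [TensorProduct.map_tmul, Algebra.TensorProduct.map_tmul, LinearMap.mul'_apply]
        show mk (powHom R A n p) ⊗ₜ[R] mk (powHom R A n q) = _
        rw [hmk, hmk, map_mul, Algebra.TensorProduct.algebraMap_apply, Algebra.TensorProduct.algebraMap_apply',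
          Algebra.TensorProduct.tmul_mul_tmul, mul_one, one_mul]
        rfl
    refine (key _).trans ?_
    have h1 : LinearMap.mul' R R (TensorProduct.map (CoalgebraStruct.counit (R := R) (A := A))
        (CoalgebraStruct.counit (R := R) (A := A)) (CoalgebraStruct.comul (R := R) b)) = CoalgebraStruct.counit (R := R) b := by
      rw [← LinearMap.rTensor_comp_lTensor, LinearMap.comp_apply]
      simp [Coalgebra.lTensor_counit_comul]
    rw [h1, show CoalgebraStruct.counit (R := R) b = (0 : R) from hb, map_zero]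
  haveI : (J.restrictScalars R).IsCoideal := by
    refine ⟨fun x hx => ?_, fun x hx => ?_⟩
    · have : J ≤ RingHom.ker (Bialgebra.counitAlgHom R A) := Ideal.map_le_iff_le_comap.mpr fun b hb => by
        rw [Ideal.mem_comap, RingHom.mem_ker, ← powHom_apply]
        exact (CoalgHomClass.counit_comp_apply (powHom R A n) b).trans hb
      exact this hx
    · have h0 : ξ x = 0 := hξ hx
      refine Eq.trans ?_ h0
      show _ = Algebra.TensorProduct.map mk mk (CoalgebraStruct.comul (R := R) x)
      generalize CoalgebraStruct.comul (R := R) x = z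
      induction z using TensorProduct.induction_on with
      | zero => simp; rfl
      | add p q hp hq => simp only [map_add, hp, hq]; rfl
      | tmul p q => rfl
  refine { antipode_mem := fun x hx => ?_ }
  have : J ≤ Ideal.comap (HopfAlgebra.antipodeAlgHom R A) J := by
    refine Ideal.map_le_iff_le_comap.mpr fun b hb => ?_
    rw [Ideal.mem_comap, Ideal.mem_comap]
    show HopfAlgebraStruct.antipode R (SGA3b.powConv R A n b) ∈ J
    rw [antipode_powConv]
    refine Ideal.mem_map_of_mem _ ?_
    rw [RingHom.mem_ker] at hb ⊢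
    exact (HopfAlgebra.counit_antipode b).trans hb
  exact this hx

theorem modPow_single {S : Type u} [CommRing S] {P : Type u} [CommGroup P] (n : ℕ) (p : P) (r : S) :
    modPow S P n (MonoidAlgebra.single p r) =
      MonoidAlgebra.single (QuotientGroup.mk p : P ⧸ (powMonoidHom n : P →* P).range) r := by
  simp [modPow]

/-- A diagonalisation induces one of the kernel of a power map. -/
theorem exists_quotEquiv {R : Type u} [CommRing R] {A : Type u} [CommRing A] [HopfAlgebra R A] {S : Type u} [CommRing S]
    [Algebra R S] {P : Type u} [CommGroup P] (e : (S ⊗[R] A) ≃ₐc[S] MonoidAlgebra S P) (n : ℕ) (J : Ideal A)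
    [J.IsHopfIdeal R] (hJ : J = SGA3b.torsionIdeal R A n) :
    ∃ E : (S ⊗[R] (A ⧸ J)) ≃ₐc[S] MonoidAlgebra S (P ⧸ (powMonoidHom n : P →* P).range),
      ∀ x, E (Algebra.TensorProduct.map (AlgHom.id S S) (Ideal.Quotient.mkₐ R J) x) = modPow S P n (e x) := by
  classical
  let qb : S ⊗[R] A →ₐc[S] S ⊗[R] (A ⧸ J) :=
    Bialgebra.TensorProduct.map (BialgHom.id S S) (Bialgebra.Quotient.mkBialgHom (R := R) J)
  have hqb : ∀ x, qb x = Algebra.TensorProduct.map (AlgHom.id S S) (Ideal.Quotient.mkₐ R J) x := fun x => by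
    induction x using TensorProduct.induction_on with
    | zero => simp
    | tmul t a => simp [qb]
    | add a b ha hb => rw [map_add, map_add, ha, hb]
  let γ : P →* S ⊗[R] (A ⧸ J) :=
    (qb : S ⊗[R] A →ₐ[S] S ⊗[R] (A ⧸ J)).toMonoidHom.comp
      ((e.symm : MonoidAlgebra S P →ₐc[S] S ⊗[R] A).toAlgHom.toMonoidHom.comp (MonoidAlgebra.of S P))
  have hN : (powMonoidHom n : P →* P).range ≤ MonoidHom.ker γ := by
    rintro _ ⟨p, rfl⟩
    show qb (e.symm (MonoidAlgebra.single (p ^ n) 1)) = 1
    rw [hqb]
    exact tmul_mk_pow_eq_one e n J hJ.ge p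
  let γ' : P ⧸ (powMonoidHom n : P →* P).range →* S ⊗[R] (A ⧸ J) := QuotientGroup.lift _ γ hN
  have hgl : ∀ c, IsGroupLikeElem S (γ' c) := by
    intro c
    induction c using QuotientGroup.induction_on with
    | H p =>
      show IsGroupLikeElem S (qb (e.symm (MonoidAlgebra.single p 1)))
      have h1 : IsGroupLikeElem S (MonoidAlgebra.single p (1 : S)) := ⟨by simp, by simp⟩
      exact (h1.map e.symm).map qb
  let ψa : MonoidAlgebra S (P ⧸ (powMonoidHom n : P →* P).range) →ₐ[S] S ⊗[R] (A ⧸ J) := MonoidAlgebra.lift S _ _ γ'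
  let ψ : MonoidAlgebra S (P ⧸ (powMonoidHom n : P →* P).range) →ₐc[S] S ⊗[R] (A ⧸ J) := BialgHom.ofAlgHom ψa
    (by
      ext q
      simp [ψa, (hgl q).counit_eq_one])
    (by
      ext q
      simp [ψa, (hgl q).comul_eq_tmul_self])
  have hμψ : ∀ x : S ⊗[R] A, ψ (modPow S P n (e x)) = qb x := by
    intro x
    conv_rhs => rw [← e.symm_apply_apply x]
    generalize e x = y
    induction y using MonoidAlgebra.induction_linear with
    | zero => simp
    | add a b ha hb => simp only [map_add, ha, hb]
    | single p r =>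
      show ψa _ = _
      rw [modPow_single]
      simp only [ψa, MonoidAlgebra.lift_single]
      rw [show MonoidAlgebra.single p r = r • MonoidAlgebra.single p (1 : S) by rw [MonoidAlgebra.smul_single, smul_eq_mul, mul_one],
        map_smul, map_smul]
      rfl
  let ξ : A →ₐ[R] MonoidAlgebra S (P ⧸ (powMonoidHom n : P →* P).range) :=
    (((modPow S P n).comp (e : (S ⊗[R] A) →ₐc[S] MonoidAlgebra S P).toAlgHom).restrictScalars R).comp
      Algebra.TensorProduct.includeRight
  have hξ : ∀ a, ξ a = modPow S P n (e ((1 : S) ⊗ₜ[R] a)) := fun a => rfl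
  have hJξ : ∀ a ∈ J, ξ a = 0 := fun a ha => by
    rw [hξ]
    exact modPow_torsion (e : (S ⊗[R] A) →ₐc[S] MonoidAlgebra S P) n (hJ ▸ ha)
  let χ : S ⊗[R] (A ⧸ J) →ₐ[S] MonoidAlgebra S (P ⧸ (powMonoidHom n : P →* P).range) :=
    Algebra.TensorProduct.lift (Algebra.ofId S _) (Ideal.Quotient.liftₐ J ξ hJξ) (fun _ _ => by exact Commute.all _ _)
  have h1 : ∀ x : S ⊗[R] A, χ (qb x) = modPow S P n (e x) := fun x => by
    induction x using TensorProduct.induction_on with
    | zero => simp
    | add a b ha hb => simp only [map_add, ha, hb]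
    | tmul t a =>
      rw [show qb (t ⊗ₜ[R] a) = t ⊗ₜ[R] Ideal.Quotient.mk J a from rfl,
        show t ⊗ₜ[R] a = t • ((1 : S) ⊗ₜ[R] a) by rw [TensorProduct.smul_tmul', smul_eq_mul, mul_one],
        map_smul, map_smul, ← hξ]
      simp [χ, Algebra.smul_def]
      first | done | congr 1
  have hsurj : Function.Surjective ψ := by
    intro z
    induction z using TensorProduct.induction_on with
    | zero => exact ⟨0, map_zero _⟩
    | tmul t c =>
      obtain ⟨a, rfl⟩ := Ideal.Quotient.mk_surjective c
      exact ⟨modPow S P n (e (t ⊗ₜ a)), by rw [hμψ]; simp [qb]⟩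
    | add a b ha hb =>
      obtain ⟨x, rfl⟩ := ha; obtain ⟨y, rfl⟩ := hb
      exact ⟨x + y, map_add ψ x y⟩
  have hleft : Function.LeftInverse χ ψ := by
    intro w
    induction w using MonoidAlgebra.induction_linear with
    | zero => simp
    | add a b ha hb => rw [map_add, map_add, ha, hb]
    | single c r =>
      induction c using QuotientGroup.induction_on with
      | H p =>
        rw [show MonoidAlgebra.single (QuotientGroup.mk p : P ⧸ (powMonoidHom n : P →* P).range) r =
            modPow S P n (e (e.symm (MonoidAlgebra.single p r))) by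
          rw [show e (e.symm (MonoidAlgebra.single p r)) = _ from e.apply_symm_apply _, modPow_single],
          hμψ, h1]
  let Ψ := BialgEquiv.ofBijective ψ ⟨hleft.injective, hsurj⟩
  refine ⟨Ψ.symm, fun x => ?_⟩
  apply EquivLike.injective Ψ
  refine (Ψ.apply_symm_apply _).trans ?_
  rw [← hqb]
  exact (hμψ x).symm

end Groth.Agent.H83.Quasi
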