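import Groth.Agent.H83.Quasi.Algebra
import Groth.Agent.H83.Quasi.Torsion
import Groth.Agent.H83.Quasi.Point
import Groth.Agent.H83.MultType.Functorial

/-! Group-like elements near a point of the base. -/

set_option autoImplicit false

universe u

open TensorProduct

namespace Groth.Agent.H83.Quasi

open MultType

/-- A flat local algebra with a point over a given point of the base, on which a given faithfully flat
algebra maps. -/
theorem exists_localPoint (R κ S : Type u) [CommRing R] [Field κ] [Algebra R κ] [CommRing S] [Algebra R S]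
    [Module.FaithfullyFlat R S] :
    ∃ (L : Type u) (_ : CommRing L) (_ : Algebra R L) (_ : Module.Flat R L) (_ : IsLocalRing L) (_ : S →ₐ[R] L)
      (K : Type u) (_ : Field K) (_ : Algebra R K) (ρ : L →ₐ[R] K) (_ : κ →ₐ[R] K), ∀ l : L, ρ l ≠ 0 → IsUnit l := by
  haveI : Nontrivial (κ ⊗[R] S) := inferInstance
  obtain ⟨m, hm⟩ := Ideal.exists_maximal (κ ⊗[R] S)
  let K := (κ ⊗[R] S) ⧸ m
  letI : Field K := Ideal.Quotient.field m
  let mk : κ ⊗[R] S →ₐ[R] K := Ideal.Quotient.mkₐ R m
  let γ : S →ₐ[R] K := mk.comp Algebra.TensorProduct.includeRight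
  let P : Ideal S := RingHom.ker γ
  haveI : P.IsPrime := RingHom.ker_isPrime γ
  let L := Localization.AtPrime P
  have hP : ∀ s : P.primeCompl, IsUnit (γ s) := fun s => IsUnit.mk0 _ s.2
  let ρ : L →ₐ[R] K := IsLocalization.liftAlgHom (M := P.primeCompl) (f := γ) hP
  haveI : Module.Flat R L := Module.Flat.trans R S L
  refine ⟨L, inferInstance, inferInstance, inferInstance, inferInstance, IsScalarTower.toAlgHom R S L, K,
    inferInstance, inferInstance, ρ, mk.comp Algebra.TensorProduct.includeLeft, fun l hl => ?_⟩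
  obtain ⟨a, s, rfl⟩ := IsLocalization.exists_mk'_eq P.primeCompl l
  by_contra h
  apply hl
  have ha : a ∈ P := by
    by_contra ha
    exact h ((IsLocalization.AtPrime.isUnit_mk'_iff L P a s).mpr ha)
  have h1 : ρ (IsLocalization.mk' L a s) * ρ (algebraMap S L s) = ρ (algebraMap S L a) := by
    rw [← map_mul, IsLocalization.mk'_spec]
  have h2 : ∀ t : S, ρ (algebraMap S L t) = γ t := fun t => IsLocalization.lift_eq _ t
  rw [h2, h2, show γ a = 0 from ha] at h1
  rcases mul_eq_zero.mp h1 with h3 | h3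
  · exact h3
  · exact absurd h3 s.2

/-- Over a local ring a group-like element of a group algebra is a member of the group. -/
theorem groupLike_eq_single {S : Type u} [CommRing S] [IsLocalRing S] {P : Type u} [CommGroup P] {y : MonoidAlgebra S P}
    (hy : IsGroupLikeElem S y) : ∃ p : P, y = MonoidAlgebra.single p 1 := by
  classical
  have h1 : (∑ p ∈ y.coeff.support, coeffAt S p y) = 1 := by rw [← counit_eq_sum, hy.counit_eq_one]
  obtain ⟨p, hp⟩ : ∃ p, IsUnit (coeffAt S p y) := by
    by_contra h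
    simp only [not_exists] at h
    have h2 : (∑ p ∈ y.coeff.support, coeffAt S p y) ∈ IsLocalRing.maximalIdeal S :=
      Ideal.sum_mem _ fun p _ => h p
    rw [h1] at h2
    exact (IsLocalRing.maximalIdeal.isMaximal S).ne_top ((Ideal.eq_top_iff_one _).mpr h2)
  refine ⟨p, (MonoidAlgebra.coeffLinearEquiv S).injective (Finsupp.ext fun q => ?_)⟩
  show coeffAt S q y = coeffAt S q (MonoidAlgebra.single p 1)
  rw [coeffAt_single]
  split_ifs with h
  · subst h
    have h2 := groupLike_coeff_mul hy p p
    rw [if_pos rfl] at h2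
    exact hp.mul_left_cancel (by rw [h2, mul_one])
  · have h2 := groupLike_coeff_mul hy p q
    rw [if_neg h] at h2
    exact hp.mul_right_eq_zero.mp h2

theorem coeffAt_coeffGroup {k : Type u} [CommRing k] {S T : Type u} [CommRing S] [Algebra k S] [CommRing T] [Algebra k T]
    (f : S →ₐ[k] T) {P : Type u} [CommGroup P] (p : P) (y : MonoidAlgebra S P) :
    coeffAt T p (coeffGroup f P y) = f (coeffAt S p y) := by
  classical
  induction y using MonoidAlgebra.induction_linear with
  | zero => simp
  | add a b ha hb => simp only [map_add, ha, hb]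
  | single q r => rw [coeffGroup_single, coeffAt_single, coeffAt_single]; split_ifs <;> simp

theorem groupLike_single {S : Type u} [CommRing S] {P : Type u} [CommGroup P] (p : P) :
    IsGroupLikeElem S (MonoidAlgebra.single p (1 : S)) := ⟨by simp, by simp⟩

theorem single_eq_single {S : Type u} [CommRing S] [Nontrivial S] {P : Type u} [CommGroup P] {p q : P}
    (h : MonoidAlgebra.single p (1 : S) = MonoidAlgebra.single q 1) : p = q :=
  MonoidAlgebra.single_left_injective one_ne_zero h

/-- Reduction modulo an ideal of the group, after extension of scalars. -/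
noncomputable abbrev quotMap {R : Type u} [CommRing R] {A : Type u} [CommRing A] [Algebra R A] (J : Ideal A)
    (T : Type u) [CommRing T] [Algebra R T] : T ⊗[R] A →ₐ[T] T ⊗[R] (A ⧸ J) :=
  Algebra.TensorProduct.map (AlgHom.id T T) (Ideal.Quotient.mkₐ R J)

theorem quotMap_coeffMap {R : Type u} [CommRing R] {A : Type u} [CommRing A] [HopfAlgebra R A] (J : Ideal A) [J.IsHopfIdeal R]
    {T U : Type u} [CommRing T] [Algebra R T] [CommRing U] [Algebra R U] (f : T →ₐ[R] U) (x : T ⊗[R] A) :
    coeffMap f (quotMap J T x) = quotMap J U (coeffMap f x) := by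
  induction x using TensorProduct.induction_on with
  | zero => simp
  | tmul s a => rfl
  | add a b ha hb => simp only [map_add, ha, hb]

theorem quotMap_surjective {R : Type u} [CommRing R] {A : Type u} [CommRing A] [Algebra R A] (J : Ideal A)
    (T : Type u) [CommRing T] [Algebra R T] : Function.Surjective (quotMap (R := R) J T) := by
  intro z
  induction z using TensorProduct.induction_on with
  | zero => exact ⟨0, map_zero _⟩
  | tmul t c =>
    obtain ⟨a, rfl⟩ := Ideal.Quotient.mk_surjective c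
    exact ⟨t ⊗ₜ a, by simp⟩
  | add a b ha hb =>
    obtain ⟨x, rfl⟩ := ha; obtain ⟨y, rfl⟩ := hb
    exact ⟨x + y, map_add _ x y⟩

theorem groupLike_quotMap {R : Type u} [CommRing R] {A : Type u} [CommRing A] [HopfAlgebra R A] (J : Ideal A) [J.IsHopfIdeal R]
    {T : Type u} [CommRing T] [Algebra R T] {x : T ⊗[R] A} (hx : IsGroupLikeElem T x) :
    IsGroupLikeElem T (quotMap J T x) := by
  let qb : T ⊗[R] A →ₐc[T] T ⊗[R] (A ⧸ J) :=
    Bialgebra.TensorProduct.map (BialgHom.id T T) (Bialgebra.Quotient.mkBialgHom (R := R) J)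
  have hqb : qb x = quotMap J T x := by
    clear hx
    induction x using TensorProduct.induction_on with
    | zero => simp
    | tmul t a => simp [qb]
    | add a b ha hb => rw [map_add, map_add, ha, hb]
  rw [← hqb]
  exact hx.map qb

/-- The comultiplication cuts out every homogeneous part. -/
theorem exists_slice {R : Type u} [CommRing R] {A : Type u} [CommRing A] [HopfAlgebra R A] {S : Type u} [CommRing S]
    [Algebra R S] {P : Type u} [CommGroup P] (e : (S ⊗[R] A) ≃ₐc[S] MonoidAlgebra S P) (a : A) (F : Finset (A × A))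
    (hF : CoalgebraStruct.comul (R := R) a = ∑ i ∈ F, i.1 ⊗ₜ[R] i.2) (p : P) :
    e (∑ i ∈ F, coeffAt S p (e ((1 : S) ⊗ₜ[R] i.1)) • ((1 : S) ⊗ₜ[R] i.2)) =
      coeffAt S p (e ((1 : S) ⊗ₜ[R] a)) • MonoidAlgebra.single p (1 : S) := by
  classical
  let Ψ : MonoidAlgebra S P ⊗[S] MonoidAlgebra S P →ₗ[S] MonoidAlgebra S P :=
    TensorProduct.lift ((LinearMap.lsmul S (MonoidAlgebra S P)).comp (coeffAt S p))
  have hΨ : ∀ y : MonoidAlgebra S P, Ψ (CoalgebraStruct.comul (R := S) y) = coeffAt S p y • MonoidAlgebra.single p (1 : S) := by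
    intro y
    induction y using MonoidAlgebra.induction_linear with
    | zero => simp
    | add u v hu hv => simp only [map_add, add_smul, hu, hv]
    | single q r =>
      rw [MonoidAlgebra.comul_single]
      simp only [CommSemiring.comul_apply, TensorProduct.map_tmul, Ψ, TensorProduct.lift.tmul, LinearMap.comp_apply,
        LinearMap.lsmul_apply, MonoidAlgebra.lsingle_apply, coeffAt_single]
      split_ifs with h
      · subst h; simp [MonoidAlgebra.smul_single]
      · simp
  rw [← hΨ, ← CoalgHomClass.map_comp_comul_apply e, TensorProduct.comul_tmul, CommSemiring.comul_apply, hF]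
  simp [TensorProduct.tmul_sum, Ψ, map_sum]

/-- An element supported on a set separated by the powers is group-like as soon as its reduction is. -/
theorem groupLike_of_modPow {S : Type u} [CommRing S] {P : Type u} [CommGroup P] (N : ℕ) (T : Finset P)
    (hT : Set.InjOn (QuotientGroup.mk : P → P ⧸ (powMonoidHom N : P →* P).range) T) {y : MonoidAlgebra S P}
    (hy : ∀ p ∉ T, coeffAt S p y = 0) (hgl : IsGroupLikeElem S (modPow S P N y)) : IsGroupLikeElem S y := by
  classical
  have hyT : y = ∑ t ∈ T, MonoidAlgebra.single t (coeffAt S t y) := by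
    apply (MonoidAlgebra.coeffLinearEquiv S).injective
    ext p
    show coeffAt S p y = coeffAt S p _
    rw [map_sum]
    simp only [coeffAt_single]
    rw [Finset.sum_ite_eq']
    split_ifs with h
    · rfl
    · exact hy p h
  have hc : ∀ t ∈ T, coeffAt S (QuotientGroup.mk t) (modPow S P N y) = coeffAt S t y := by
    intro t ht
    conv_lhs => rw [hyT, map_sum, map_sum]
    rw [Finset.sum_eq_single t]
    · rw [modPow_single, coeffAt_single, if_pos rfl]
    · intro t' ht' hne
      rw [modPow_single, coeffAt_single, if_neg fun h => hne (hT ht' ht h)]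
    · exact fun h => absurd ht h
  have hmul : ∀ t ∈ T, ∀ t' ∈ T, coeffAt S t y * coeffAt S t' y = if t = t' then coeffAt S t y else 0 := by
    intro t ht t' ht'
    rw [← hc t ht, ← hc t' ht', groupLike_coeff_mul hgl]
    by_cases h : t = t'
    · rw [if_pos h, if_pos (by rw [h])]
    · rw [if_neg h, if_neg fun h' => h (hT ht ht' h')]
  constructor
  · rw [← hgl.counit_eq_one]
    clear hyT hc hmul hgl hy
    induction y using MonoidAlgebra.induction_linear with
    | zero => simp
    | add a b ha hb => simp only [map_add, ha, hb]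
    | single q r => rw [modPow_single]; simp
  · rw [hyT, map_sum, TensorProduct.sum_tmul]
    refine Finset.sum_congr rfl fun t ht => ?_
    rw [MonoidAlgebra.comul_single, TensorProduct.tmul_sum]
    have h1 : ∀ t' : P, MonoidAlgebra.single t (coeffAt S t y) ⊗ₜ[S] MonoidAlgebra.single t' (coeffAt S t' y) =
        (coeffAt S t y * coeffAt S t' y) • (MonoidAlgebra.single t (1 : S) ⊗ₜ[S] MonoidAlgebra.single t' (1 : S)) := by
      intro t'
      rw [← TensorProduct.smul_tmul_smul, MonoidAlgebra.smul_single, MonoidAlgebra.smul_single, smul_eq_mul, mul_one,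
        smul_eq_mul, mul_one]
    simp only [h1]
    rw [Finset.sum_eq_single t]
    · rw [hmul t ht t ht, if_pos rfl, CommSemiring.comul_apply, TensorProduct.map_tmul, TensorProduct.smul_tmul',
        MonoidAlgebra.lsingle_apply, MonoidAlgebra.lsingle_apply, MonoidAlgebra.smul_single, smul_eq_mul, mul_one]
      conv_lhs => rw [← mul_one (coeffAt S t y), ← smul_eq_mul, ← MonoidAlgebra.smul_single, TensorProduct.tmul_smul,
        TensorProduct.smul_tmul', MonoidAlgebra.smul_single, smul_eq_mul, mul_one]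
    · intro t' ht' hne
      rw [hmul t ht t' ht', if_neg hne.symm, zero_smul]
    · exact fun h => absurd ht h

theorem smul_coeffMap {R : Type u} [CommRing R] {A : Type u} [CommRing A] [HopfAlgebra R A] {S T : Type u} [CommRing S]
    [Algebra R S] [CommRing T] [Algebra R T] (f : S →ₐ[R] T) (s : S) (z : S ⊗[R] A) :
    coeffMap f (s • z) = f s • coeffMap f z := by
  induction z using TensorProduct.induction_on with
  | zero => simp
  | tmul t a => simp [coeffMap_tmul, TensorProduct.smul_tmul']
  | add a b ha hb => simp only [smul_add, map_add, ha, hb]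

theorem coeffMap_injective_field {R : Type u} [CommRing R] {A : Type u} [CommRing A] [HopfAlgebra R A] [Module.Flat R A]
    {κ K : Type u} [Field κ] [Algebra R κ] [CommRing K] [Nontrivial K] [Algebra R K] (α : κ →ₐ[R] K) :
    Function.Injective (coeffMap (A := A) α) :=
  Module.Flat.rTensor_preserves_injective_linearMap (M := A) α.toLinearMap α.toRingHom.injective

theorem flat_of_equiv {R : Type u} [CommRing R] {A : Type u} [CommRing A] [HopfAlgebra R A] (S : Type u) [CommRing S]
    [Algebra R S] [Module.FaithfullyFlat R S] {M : Type u} [CommGroup M] (e : (S ⊗[R] A) ≃ₐc[S] MonoidAlgebra S M) :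
    Module.Flat R A := by
  haveI : Module.Free S (MonoidAlgebra S M) := Module.Free.of_equiv (MonoidAlgebra.coeffLinearEquiv S).symm
  haveI : Module.Free S (S ⊗[R] A) := Module.Free.of_equiv e.toAlgEquiv.toLinearEquiv.symm
  exact Module.Flat.of_flat_tensorProduct R A S

/-- A group which becomes diagonalisable after a faithfully flat extension is commutative. -/
theorem isCocomm_of_equiv {R : Type u} [CommRing R] {A : Type u} [CommRing A] [HopfAlgebra R A] (S : Type u) [CommRing S]
    [Algebra R S] [Module.FaithfullyFlat R S] {M : Type u} [CommGroup M] (e : (S ⊗[R] A) ≃ₐc[S] MonoidAlgebra S M) :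
    Coalgebra.IsCocomm R A := by
  haveI hS : Coalgebra.IsCocomm S (S ⊗[R] A) := by
    refine ⟨LinearMap.ext fun x => ?_⟩
    obtain ⟨y, rfl⟩ := EquivLike.surjective e.symm x
    simp only [LinearMap.comp_apply, LinearEquiv.coe_coe]
    rw [← CoalgHomClass.map_comp_comul_apply e.symm]
    conv_rhs => rw [← Coalgebra.comm_comul (R := S) y]
    generalize CoalgebraStruct.comul (R := S) y = z
    induction z using TensorProduct.induction_on with
    | zero => simp
    | tmul p q => rw [TensorProduct.map_tmul, TensorProduct.comm_tmul, TensorProduct.comm_tmul, TensorProduct.map_tmul]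
    | add p q hp hq => simp only [map_add, hp, hq]
  refine ⟨LinearMap.ext fun a => ?_⟩
  rw [← sub_eq_zero]
  refine (Module.FaithfullyFlat.one_tmul_eq_zero_iff (R := R) (A := S) _ _).1 ?_
  let Φ := TensorProduct.AlgebraTensorModule.distribBaseChange R S A A
  apply Φ.injective
  rw [map_zero, TensorProduct.tmul_sub, map_sub, sub_eq_zero]
  have h1 : ∀ z : A ⊗[R] A, Φ ((1 : S) ⊗ₜ (TensorProduct.comm R A A z)) =
      TensorProduct.comm S (S ⊗[R] A) (S ⊗[R] A) (Φ ((1 : S) ⊗ₜ z)) := fun z => by
    induction z using TensorProduct.induction_on with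
    | zero => simp
    | tmul p q => simp [Φ]
    | add p q hp hq => simp only [map_add, TensorProduct.tmul_add, hp, hq]
  have h2 : Φ ((1 : S) ⊗ₜ CoalgebraStruct.comul (R := R) a) = CoalgebraStruct.comul (R := S) ((1 : S) ⊗ₜ[R] a) := by
    rw [TensorProduct.comul_tmul, CommSemiring.comul_apply]
    generalize CoalgebraStruct.comul (R := R) a = z
    induction z using TensorProduct.induction_on with
    | zero => simp
    | tmul p q => simp [Φ]
    | add p q hp hq => simp only [map_add, TensorProduct.tmul_add, hp, hq]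
  show Φ ((1 : S) ⊗ₜ (TensorProduct.comm R A A (CoalgebraStruct.comul a))) = Φ ((1 : S) ⊗ₜ CoalgebraStruct.comul a)
  rw [h1, h2, Coalgebra.comm_comul]

theorem coeffMap_mem_span {R : Type u} [CommRing R] {A : Type u} [CommRing A] [HopfAlgebra R A] {T U : Type u}
    [CommRing T] [Algebra R T] [CommRing U] [Algebra R U] (f : T →ₐ[R] U) (W : Set A) {z : T ⊗[R] A}
    (hz : z ∈ Submodule.span T ((fun w => (1 : T) ⊗ₜ[R] w) '' W)) :
    coeffMap f z ∈ Submodule.span U ((fun w => (1 : U) ⊗ₜ[R] w) '' W) := by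
  induction hz using Submodule.span_induction with
  | mem v hv =>
    obtain ⟨a, ha, rfl⟩ := hv
    exact Submodule.subset_span ⟨a, ha, by simp [coeffMap_tmul]⟩
  | zero => simp
  | add a b _ _ ha hb => rw [map_add]; exact add_mem ha hb
  | smul r a _ ha => rw [smul_coeffMap]; exact Submodule.smul_mem _ _ ha

set_option maxHeartbeats 1600000 in
set_option synthInstance.maxHeartbeats 200000 in
/-- A group-like element at a point extends to an etale neighbourhood of that point. -/
theorem exists_lift_groupLike {R : Type u} [CommRing R] {A : Type u} [CommRing A] [HopfAlgebra R A]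
    (hft : Algebra.FiniteType R A) {S : Type u} [CommRing S] [Algebra R S] [Module.FaithfullyFlat R S] {M : Type u}
    [CommGroup M] (e : (S ⊗[R] A) ≃ₐc[S] MonoidAlgebra S M) {κ : Type u} [Field κ] [Algebra R κ]
    (hκ : ∀ z : κ ⊗[R] A, ∃ c : κ, c ≠ 0 ∧ ∃ x : A, c • z = (1 : κ) ⊗ₜ[R] x)
    {x₀ : κ ⊗[R] A} (hx₀ : IsGroupLikeElem κ x₀) :
    ∃ (R' : Type u) (_ : CommRing R') (_ : Algebra R R') (_ : Algebra.Etale R R') (φ : R' →ₐ[R] κ) (w : R' ⊗[R] A),
      IsGroupLikeElem R' w ∧ coeffMap φ w = x₀ := by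
  classical
  haveI := flat_of_equiv S e
  haveI : Nontrivial R := (algebraMap R κ).domain_nontrivial
  haveI : Nontrivial S := (FaithfulSMul.algebraMap_injective R S).nontrivial
  haveI := fg_of_finiteType hft e
  have hmt : SGA3b.IsMultType R A := isMultType_of_diag S ⟨M, inferInstance, ⟨e⟩⟩
  haveI := isCocomm_of_equiv S e
  obtain ⟨c, hc, x, hx⟩ := hκ x₀
  obtain ⟨F, hF⟩ := TensorProduct.exists_finset (CoalgebraStruct.comul (R := R) x)
  let W : Set A := ↑(insert x (F.image Prod.snd))
  let T : Finset M := (insert x (F.image Prod.snd)).biUnion fun w => (e ((1 : S) ⊗ₜ[R] w)).coeff.support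
  obtain ⟨N, hN, hNsep⟩ := exists_exponent_avoiding ((T ×ˢ T).image fun q => q.1⁻¹ * q.2)
  have hT : Set.InjOn (QuotientGroup.mk : M → M ⧸ (powMonoidHom N : M →* M).range) T := by
    intro a ha b hb hab
    by_contra hne
    refine hNsep (a⁻¹ * b) (Finset.mem_image.mpr ⟨(a, b), Finset.mem_product.mpr ⟨ha, hb⟩, rfl⟩) ?_ (QuotientGroup.eq.mp hab)
    exact fun h => hne (inv_mul_eq_one.mp h)
  have hsupp : ∀ {U : Type u} [CommRing U] [Algebra R U] (f : S →ₐ[R] U) (e' : (U ⊗[R] A) ≃ₐc[U] MonoidAlgebra U M),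
      (∀ y, e' (coeffMap f y) = coeffGroup f M (e y)) →
      ∀ v ∈ Submodule.span U ((fun w => (1 : U) ⊗ₜ[R] w) '' W), ∀ p ∉ T, coeffAt U p (e' v) = 0 := by
    intro U _ _ f e' he' v hv p hp
    induction hv using Submodule.span_induction with
    | mem v hv =>
      obtain ⟨w, hw, rfl⟩ := hv
      show coeffAt U p (e' ((1 : U) ⊗ₜ[R] w)) = 0
      rw [show (1 : U) ⊗ₜ[R] w = coeffMap f ((1 : S) ⊗ₜ[R] w) by rw [coeffMap_tmul, map_one], he', coeffAt_coeffGroup]
      have h0 : coeffAt S p (e ((1 : S) ⊗ₜ[R] w)) = 0 := by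
        by_contra h
        exact hp (Finset.mem_biUnion.mpr ⟨w, hw, Finsupp.mem_support_iff.mpr h⟩)
      rw [h0, map_zero]
    | zero => simp
    | add a b _ _ ha hb => simp only [map_add, ha, hb, add_zero]
    | smul r a _ ha => rw [map_smul, map_smul, ha, smul_zero]
  obtain ⟨J, hJ⟩ : ∃ J : Ideal A, J = SGA3b.torsionIdeal R A N := ⟨_, rfl⟩
  haveI : J.IsHopfIdeal R := hJ ▸ isHopfIdeal_torsionIdeal N
  haveI : Module.Finite R (A ⧸ J) := finite_quotient hft hmt N hN J hJ.ge
  obtain ⟨R', _, _, _, φ, y, hy, hyz⟩ :=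
    exists_etale_point (isMultType_quotient_torsion hmt N J hJ) (groupLike_quotMap J hx₀)
  obtain ⟨L, _, _, _, _, σ₀, K, _, _, ρ₀, α₀, hloc⟩ := @exists_localPoint R' κ (R' ⊗[R] S) _ _ φ.toRingHom.toAlgebra _ _ _
  letI : Algebra R' κ := φ.toRingHom.toAlgebra
  letI : Algebra R L := Algebra.compHom L (algebraMap R R')
  letI : Algebra R K := Algebra.compHom K (algebraMap R R')
  haveI : IsScalarTower R R' L := IsScalarTower.of_algebraMap_eq fun _ => rfl
  haveI : IsScalarTower R R' K := IsScalarTower.of_algebraMap_eq fun _ => rfl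
  haveI : IsScalarTower R R' κ := IsScalarTower.of_algebraMap_eq fun r => (φ.commutes r).symm
  let σ : S →ₐ[R] L := (σ₀.restrictScalars R).comp Algebra.TensorProduct.includeRight
  let ρ : L →ₐ[R] K := ρ₀.restrictScalars R
  let α : κ →ₐ[R] K := α₀.restrictScalars R
  let ι : R' →ₐ[R] L := IsScalarTower.toAlgHom R R' L
  have hsq : ρ.comp ι = α.comp φ := AlgHom.ext fun r => (ρ₀.commutes r).trans (α₀.commutes r).symm
  obtain ⟨eL, heL⟩ := exists_diag_map σ e
  obtain ⟨eK, heK⟩ := exists_diag_map ρ eL
  obtain ⟨EL, hEL⟩ := exists_quotEquiv eL N J hJ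
  obtain ⟨EK, hEK⟩ := exists_quotEquiv eK N J hJ
  have heσ : ∀ z, eK (coeffMap (ρ.comp σ) z) = coeffGroup (ρ.comp σ) M (e z) := by
    intro z
    rw [← coeffMap_comp, heK, heL]
    generalize e z = v
    induction v using MonoidAlgebra.induction_linear with
    | zero => simp
    | add a b ha hb => simp only [map_add, ha, hb]
    | single p r => simp [coeffGroup_single]
  obtain ⟨t₀, ht₀⟩ := groupLike_eq_single ((groupLike_coeffMap α hx₀).map eK)
  have hone : coeffMap ρ ((1 : L) ⊗ₜ[R] x) = coeffMap α ((1 : κ) ⊗ₜ[R] x) := by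
    rw [coeffMap_tmul, coeffMap_tmul, map_one, map_one]
  have hρx : ρ (coeffAt L t₀ (eL ((1 : L) ⊗ₜ[R] x))) = α c := by
    rw [← coeffAt_coeffGroup, ← heK, hone, ← hx, smul_coeffMap, map_smul, ht₀, map_smul, coeffAt_single, if_pos rfl,
      smul_eq_mul, mul_one]
  have hunit : IsUnit (coeffAt L t₀ (eL ((1 : L) ⊗ₜ[R] x))) :=
    hloc _ (by
      show ρ _ ≠ 0
      rw [hρx]
      exact (map_ne_zero_iff α α.toRingHom.injective).mpr hc)
  have hxW : x ∈ W := Finset.mem_insert_self _ _
  have ht₀T : t₀ ∈ T := by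
    by_contra h
    exact hunit.ne_zero (hsupp σ eL heL _ (Submodule.subset_span ⟨x, hxW, rfl⟩) t₀ h)
  obtain ⟨wL, hwL, hwLt⟩ : ∃ v ∈ Submodule.span L ((fun w => (1 : L) ⊗ₜ[R] w) '' W),
      eL v = MonoidAlgebra.single t₀ (1 : L) := by
    refine ⟨(↑hunit.unit⁻¹ : L) • ∑ i ∈ F, coeffAt L t₀ (eL ((1 : L) ⊗ₜ[R] i.1)) • ((1 : L) ⊗ₜ[R] i.2), ?_, ?_⟩
    · refine Submodule.smul_mem _ _ (Submodule.sum_mem _ fun i hi => Submodule.smul_mem _ _ (Submodule.subset_span ?_))
      exact ⟨i.2, Finset.mem_insert_of_mem (Finset.mem_image.mpr ⟨i, hi, rfl⟩), rfl⟩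
    · rw [map_smul, exists_slice eL x F hF t₀, smul_smul, IsUnit.val_inv_mul, one_smul]
  have hEcompat : ∀ u : L ⊗[R] (A ⧸ J), EK (coeffMap ρ u) = coeffGroup ρ _ (EL u) := by
    intro u
    obtain ⟨v, rfl⟩ := quotMap_surjective J L u
    rw [quotMap_coeffMap, hEK, heK, hEL]
    generalize eL v = z
    induction z using MonoidAlgebra.induction_linear with
    | zero => simp
    | add a b ha hb => simp only [map_add, ha, hb]
    | single p r => rw [modPow_single, coeffGroup_single, modPow_single, coeffGroup_single]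
  have hyL : coeffMap ι y = quotMap J L wL := by
    obtain ⟨d, hd⟩ := groupLike_eq_single ((groupLike_coeffMap ι hy).map EL)
    apply EquivLike.injective EL
    rw [hd, hEL, hwLt, modPow_single]
    have h1 : EK (coeffMap ρ (coeffMap ι y)) = MonoidAlgebra.single d 1 := by
      rw [hEcompat, hd, coeffGroup_single, map_one]
    rw [coeffMap_comp, hsq, ← coeffMap_comp, hyz, quotMap_coeffMap, hEK, ht₀, modPow_single] at h1
    rw [single_eq_single h1]
  let Θ : L ⊗[R'] (R' ⊗[R] (A ⧸ J)) ≃ₐ[L] L ⊗[R] (A ⧸ J) := Algebra.TensorProduct.cancelBaseChange R R' L L (A ⧸ J)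
  have hΘ : ∀ v : R' ⊗[R] (A ⧸ J), Θ ((1 : L) ⊗ₜ[R'] v) = coeffMap ι v := by
    intro v
    induction v using TensorProduct.induction_on with
    | zero => simp
    | add a b ha hb => simp only [TensorProduct.tmul_add, map_add, ha, hb]
    | tmul r b => simp [Θ, coeffMap_tmul, ι, Algebra.smul_def]
  let U : Submodule R' (R' ⊗[R] (A ⧸ J)) :=
    (Submodule.span R' ((fun w => (1 : R') ⊗ₜ[R] w) '' W)).map (quotMap J R').toLinearMap
  have hmem : (1 : L) ⊗ₜ[R'] y ∈ Submodule.span L ((fun v => (1 : L) ⊗ₜ[R'] v) '' U) := by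
    have h1 : (1 : L) ⊗ₜ[R'] y = Θ.symm (quotMap J L wL) := by rw [← hyL, ← hΘ, AlgEquiv.symm_apply_apply]
    rw [h1]
    clear h1 hyL hwLt
    induction hwL using Submodule.span_induction with
    | mem v hv =>
      obtain ⟨w, hw, rfl⟩ := hv
      refine Submodule.subset_span ⟨quotMap J R' ((1 : R') ⊗ₜ[R] w),
        ⟨_, Submodule.subset_span ⟨w, hw, rfl⟩, rfl⟩, ?_⟩
      apply Θ.injective
      rw [hΘ, AlgEquiv.apply_symm_apply]
      simp [coeffMap_tmul]
    | zero => simp
    | add a b _ _ ha hb => simp only [map_add]; exact add_mem ha hb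
    | smul r a _ ha => rw [map_smul, map_smul]; exact Submodule.smul_mem _ _ ha
  obtain ⟨g, hg, u, hu, hug⟩ := exists_smul_mem ρ₀.toRingHom U hmem
  have hφg : φ g ≠ 0 := by
    intro h0
    apply hg
    show ρ₀ (algebraMap R' L g) = 0
    rw [ρ₀.commutes, ← α₀.commutes g]
    exact (congrArg α₀ h0).trans (map_zero α₀)
  let R'' := Localization.Away g
  haveI : Algebra.Etale R' R'' := Algebra.Etale.of_isLocalizationAway g
  haveI : Algebra.Etale R R'' := Algebra.Etale.comp R R' R''
  let φ' : R'' →ₐ[R] κ := IsLocalization.liftAlgHom (M := Submonoid.powers g) (f := φ)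
    (by
      rintro ⟨_, n, rfl⟩
      show IsUnit (φ (g ^ n))
      rw [map_pow]
      exact (IsUnit.mk0 _ hφg).pow n)
  let j : R' →ₐ[R] R'' := IsScalarTower.toAlgHom R R' R''
  have hφ' : φ'.comp j = φ := AlgHom.ext fun r => IsLocalization.lift_eq _ r
  have hgu : IsUnit (j g) := IsLocalization.Away.algebraMap_isUnit g
  let w : R'' ⊗[R] A := (↑hgu.unit⁻¹ : R'') • coeffMap j u
  have hw : w ∈ Submodule.span R'' ((fun w => (1 : R'') ⊗ₜ[R] w) '' W) := by
    exact Submodule.smul_mem _ _ (coeffMap_mem_span j W hu)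
  have hwy : quotMap J R'' w = coeffMap j y := by
    show quotMap J R'' ((↑hgu.unit⁻¹ : R'') • coeffMap j u) = _
    rw [map_smul, ← quotMap_coeffMap, show quotMap J R' u = g • y from hug, smul_coeffMap, smul_smul,
      IsUnit.val_inv_mul, one_smul]
  let S'' := R'' ⊗[R] S
  let f₁ : R'' →ₐ[R] S'' := Algebra.TensorProduct.includeLeft
  let f₂ : S →ₐ[R] S'' := Algebra.TensorProduct.includeRight
  have hf₁ : Function.Injective f₁ := fun a b hab => by
    have h1 : (TensorProduct.comm R R'' S) (a ⊗ₜ[R] (1 : S)) = (TensorProduct.comm R R'' S) (b ⊗ₜ[R] (1 : S)) :=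
      congrArg _ hab
    simp only [TensorProduct.comm_tmul] at h1
    rw [← sub_eq_zero, ← TensorProduct.tmul_sub, Module.FaithfullyFlat.one_tmul_eq_zero_iff, sub_eq_zero] at h1
    exact h1
  obtain ⟨e'', he''⟩ := exists_diag_map f₂ e
  obtain ⟨E'', hE''⟩ := exists_quotEquiv e'' N J hJ
  have hspan : ∀ {U : Type u} [CommRing U] [Algebra R U] (f : R'' →ₐ[R] U),
      coeffMap f w ∈ Submodule.span U ((fun w => (1 : U) ⊗ₜ[R] w) '' W) := by
    intro U _ _ f
    exact coeffMap_mem_span f W hw
  have hgl : IsGroupLikeElem R'' w := by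
    refine groupLike_of_coeffMap f₁ hf₁ ?_
    have h2 : IsGroupLikeElem S'' (e'' (coeffMap f₁ w)) := by
      refine groupLike_of_modPow N T hT (hsupp f₂ e'' he'' _ (hspan f₁)) ?_
      rw [← hE'', ← quotMap_coeffMap, hwy, coeffMap_comp]
      exact (groupLike_coeffMap _ hy).map E''
    have h3 := h2.map e''.symm
    rwa [show e''.symm (e'' (coeffMap f₁ w)) = coeffMap f₁ w from e''.symm_apply_apply _] at h3
  refine ⟨R'', inferInstance, inferInstance, inferInstance, φ', w, hgl, coeffMap_injective_field α (EquivLike.injective eK ?_)⟩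
  rw [ht₀, coeffMap_comp]
  obtain ⟨t, ht⟩ := groupLike_eq_single ((groupLike_coeffMap (α.comp φ') hgl).map eK)
  rw [ht]
  have htT : t ∈ T := by
    by_contra h
    have h0 := hsupp (ρ.comp σ) eK heσ _ (hspan (α.comp φ')) t h
    rw [ht, coeffAt_single, if_pos rfl] at h0
    exact one_ne_zero h0
  have hmod : modPow K M N (eK (coeffMap (α.comp φ') w)) = MonoidAlgebra.single (QuotientGroup.mk t₀) 1 := by
    rw [← hEK, ← quotMap_coeffMap, hwy, coeffMap_comp, AlgHom.comp_assoc, hφ', ← coeffMap_comp, hyz, quotMap_coeffMap,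
      hEK, ht₀, modPow_single]
  rw [ht, modPow_single] at hmod
  rw [hT htT ht₀T (single_eq_single hmod)]

end Groth.Agent.H83.Quasi
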