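import Groth.Agent.H83.Quasi.Pair
import Groth.Agent.H83.LiftGrp.Prod
import Groth.Agent.H83.MultType.KerType
import Groth.Agent.H83.MultType.BaseChange
import Groth.Agent.Lib.Henselian.Pair
import Groth.Agent.Lib.Henselian.FiniteEtale

/-! Isotriviality lifts along henselian pairs. -/

set_option autoImplicit false

universe u

open TensorProduct

namespace Groth.Agent.H83.Quasi

open MultType

set_option maxHeartbeats 800000 in
set_option synthInstance.maxHeartbeats 200000 in
/-- A finite family of diagonalisations of one type gives one over the product. -/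
theorem exists_pi_diag {R : Type u} [CommRing R] {A : Type u} [CommRing A] [HopfAlgebra R A] {ι : Type u} [Fintype ι]
    [DecidableEq ι] {S : ι → Type u} [∀ i, CommRing (S i)] [∀ i, Algebra R (S i)] {M : Type u} [CommGroup M]
    (e : ∀ i, (S i ⊗[R] A) ≃ₐc[S i] MonoidAlgebra (S i) M) : SGA3b.IsDiag (Π j, S j) ((Π j, S j) ⊗[R] A) := by
  classical
  let pr : ∀ i, (Π j, S j) →ₐ[R] S i := fun i => LiftGrp.prj i
  have hext : ∀ {x y : (Π j, S j) ⊗[R] A}, (∀ i, coeffMap (pr i) x = coeffMap (pr i) y) → x = y := by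
    intro x y h
    exact LiftGrp.eq_of_prj_tensor (R := R) fun i => by
      rw [← LiftGrp.coeffMap_eq_rTensor, ← LiftGrp.coeffMap_eq_rTensor]; exact h i
  have hext₂ : ∀ {x y : (Π j, S j) ⊗[R] (A ⊗[R] A)},
      (∀ i, Algebra.TensorProduct.map (pr i) (AlgHom.id R (A ⊗[R] A)) x =
        Algebra.TensorProduct.map (pr i) (AlgHom.id R (A ⊗[R] A)) y) → x = y := by
    intro x y h
    refine LiftGrp.eq_of_prj_tensor (R := R) fun i => ?_
    exact h i
  choose z hz using fun m : M => LiftGrp.exists_prj_tensor (R := R) (S := S)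
    fun i => (e i).symm (MonoidAlgebra.single m 1)
  let γ : M →* (Π j, S j) ⊗[R] A :=
    { toFun := z
      map_one' := hext fun i => by
        rw [map_one]
        exact (hz 1 i).trans (map_one (e i).symm)
      map_mul' := fun a b => hext fun i => by
        rw [map_mul]
        refine (hz (a * b) i).trans ?_
        rw [show coeffMap (pr i) (z a) = _ from hz a i, show coeffMap (pr i) (z b) = _ from hz b i, ← map_mul,
          MonoidAlgebra.single_mul_single, mul_one] }
  have hgl : ∀ m, IsGroupLikeElem (Π j, S j) (γ m) := by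
    intro m
    have hi : ∀ i, IsGroupLikeElem (S i) (coeffMap (pr i) (γ m)) := fun i => by
      rw [show coeffMap (pr i) (γ m) = _ from hz m i]
      exact (groupLike_single m).map (e i).symm
    rw [groupLike_iff]
    refine ⟨hext₂ fun i => ?_, funext fun i => ?_⟩
    · obtain ⟨h1, h2, h3⟩ := coeffMap₂_comulS (pr i) (γ m)
      rw [map_mul, h1, h2, h3]
      exact ((groupLike_iff _).mp (hi i)).1
    · have h := counit_coeffMap (pr i) (γ m)
      rw [((groupLike_iff _).mp (hi i)).2] at h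
      exact h.symm
  let ψa : MonoidAlgebra (Π j, S j) M →ₐ[Π j, S j] (Π j, S j) ⊗[R] A := MonoidAlgebra.lift _ _ M γ
  have hψ : ∀ i y, e i (coeffMap (pr i) (ψa y)) = coeffGroup (pr i) M y := by
    intro i y
    induction y using MonoidAlgebra.induction_linear with
    | zero => simp
    | add a b ha hb => simp only [map_add, ha, hb]
    | single m r =>
      rw [show ψa (MonoidAlgebra.single m r) = r • γ m by simp [ψa], smul_coeffMap, map_smul, coeffGroup_single,
        show coeffMap (pr i) (γ m) = _ from hz m i, show e i ((e i).symm (MonoidAlgebra.single m 1)) = _ from (e i).apply_symm_apply _,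
        MonoidAlgebra.smul_single, smul_eq_mul, mul_one]
  let ψ : MonoidAlgebra (Π j, S j) M →ₐc[Π j, S j] (Π j, S j) ⊗[R] A := BialgHom.ofAlgHom ψa
    (by
      ext q
      simp [ψa, (hgl q).counit_eq_one])
    (by
      ext q
      simp [ψa, (hgl q).comul_eq_tmul_self])
  have hb : Function.Bijective ψ := by
    refine ⟨fun a b hab => LiftGrp.eq_of_prj (R := R) fun i => ?_, fun v => ?_⟩
    · show coeffGroup (pr i) M a = coeffGroup (pr i) M b
      rw [← hψ, ← hψ]
      exact congrArg (fun t => e i (coeffMap (pr i) t)) hab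
    · obtain ⟨y, hy⟩ := LiftGrp.exists_prj (R := R) fun i => e i (coeffMap (pr i) v)
      refine ⟨y, hext fun i => EquivLike.injective (e i) ?_⟩
      exact (hψ i y).trans (hy i)
  exact ⟨M, inferInstance, ⟨(BialgEquiv.ofBijective ψ hb).symm⟩⟩

set_option maxHeartbeats 1600000 in
set_option synthInstance.maxHeartbeats 200000 in
/-- A group of multiplicative type whose closed fibres over `I` have one type has one type. -/
theorem exists_global_chart {R : Type u} [CommRing R] {A : Type u} [CommRing A] [HopfAlgebra R A] (h : SGA3b.IsMultType R A)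
    (I : Ideal R) (hI : I ≤ Ideal.jacobson ⊥) {M₀ : Type u} [CommGroup M₀]
    (e₀ : ((R ⧸ I) ⊗[R] A) ≃ₐc[R ⧸ I] MonoidAlgebra (R ⧸ I) M₀) :
    ∃ (S : Type u) (_ : CommRing S) (_ : Algebra R S) (M : Type u) (_ : CommGroup M),
      Module.FaithfullyFlat R S ∧ Nonempty ((S ⊗[R] A) ≃ₐc[S] MonoidAlgebra S M) := by
  classical
  obtain ⟨s₀, hs₀, hc⟩ := h
  obtain ⟨s₁, hsub, hs₁⟩ := (Ideal.span_eq_top_iff_finite s₀).mp hs₀
  let s : Finset R := s₁.filter fun f => ∃ m : Ideal R, m.IsMaximal ∧ f ∉ m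
  have hs : ∀ m : Ideal R, m.IsMaximal → ∃ f ∈ s, f ∉ m := by
    intro m hm
    by_contra hcon
    simp only [not_exists, not_and, not_not] at hcon
    refine hm.ne_top (top_le_iff.mp (hs₁ ▸ Ideal.span_le.mpr fun f hf => ?_))
    by_contra hfm
    exact hfm (hcon f (Finset.mem_filter.mpr ⟨hf, m, hm, hfm⟩))
  have hloc : ∀ f : {f // f ∈ s}, ∃ (S : Type u) (_ : CommRing S) (_ : Algebra R S), Module.Flat R S ∧
      (∀ p : PrimeSpectrum R, f.1 ∉ p.asIdeal → p ∈ Set.range (PrimeSpectrum.comap (algebraMap R S))) ∧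
      Nonempty ((S ⊗[R] A) ≃ₐc[S] MonoidAlgebra S M₀) := by
    rintro ⟨f, hf⟩
    obtain ⟨hf₁, m, hm, hfm⟩ := Finset.mem_filter.mp hf
    obtain ⟨S, _, _, hff, P, _, ⟨e⟩⟩ := hc f (hsub hf₁)
    let L := Localization.Away f
    haveI : Module.FaithfullyFlat L S := hff
    letI : Algebra R S := Algebra.compHom S (algebraMap R L)
    haveI : IsScalarTower R L S := IsScalarTower.of_algebraMap_eq fun _ => rfl
    obtain ⟨T, -⟩ := exists_towerEquiv R L S A
    have hrange : ∀ p : PrimeSpectrum R, f ∉ p.asIdeal → p ∈ Set.range (PrimeSpectrum.comap (algebraMap R S)) := by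
      intro p hp
      obtain ⟨p', rfl⟩ : p ∈ Set.range (PrimeSpectrum.comap (algebraMap R L)) := by
        rw [PrimeSpectrum.localization_away_comap_range L f]; exact hp
      obtain ⟨q, rfl⟩ := PrimeSpectrum.comap_surjective_of_faithfullyFlat (B := S) p'
      exact ⟨q, by rw [IsScalarTower.algebraMap_eq R L S, PrimeSpectrum.comap_comp_apply]⟩
    obtain ⟨q, hq⟩ := hrange ⟨m, hm.isPrime⟩ hfm
    let K := q.asIdeal.ResidueField
    have hIK : ∀ r ∈ I, algebraMap R K r = 0 := by
      intro r hr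
      have hrm : r ∈ m := (le_trans hI (sInf_le ⟨bot_le, hm⟩)) hr
      rw [IsScalarTower.algebraMap_apply R S K, Ideal.algebraMap_residueField_eq_zero]
      have h1 : r ∈ (PrimeSpectrum.comap (algebraMap R S) q).asIdeal := by rw [hq]; exact hrm
      exact h1
    obtain ⟨eP, -⟩ := exists_diag_map (IsScalarTower.toAlgHom R S K) (T.trans e)
    obtain ⟨eM, -⟩ := exists_diag_map (Ideal.Quotient.liftₐ I (Algebra.ofId R K) hIK) e₀
    obtain ⟨μ⟩ := nonempty_mulEquiv_of_bialgEquiv (eP.symm.trans eM)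
    let up : MonoidAlgebra S P →ₐc[S] MonoidAlgebra S M₀ := MonoidAlgebra.mapDomainBialgHom S μ.toMonoidHom
    have hup : Function.Bijective up := by
      refine Function.bijective_iff_has_inverse.mpr ⟨MonoidAlgebra.mapDomainBialgHom S μ.symm.toMonoidHom, fun x => ?_, fun x => ?_⟩
      · rw [MonoidAlgebra.mapDomainBialgHom_mapDomainBialgHom, show μ.symm.toMonoidHom.comp μ.toMonoidHom = MonoidHom.id P from
          MonoidHom.ext fun a => μ.symm_apply_apply a, MonoidAlgebra.mapDomainBialgHom_id]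
        rfl
      · rw [MonoidAlgebra.mapDomainBialgHom_mapDomainBialgHom, show μ.toMonoidHom.comp μ.symm.toMonoidHom = MonoidHom.id M₀ from
          MonoidHom.ext fun a => μ.apply_symm_apply a, MonoidAlgebra.mapDomainBialgHom_id]
        rfl
    exact ⟨S, inferInstance, inferInstance, Module.Flat.trans R L S, hrange,
      ⟨(T.trans e).trans (BialgEquiv.ofBijective up hup)⟩⟩
  choose S cS aS hflat hrange hdiag using hloc
  obtain ⟨M, cM, ⟨e⟩⟩ := exists_pi_diag (S := S) fun i => (hdiag i).some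
  haveI : Module.Flat R (Π i, S i) := Module.Flat.of_linearEquiv
    (DirectSum.linearEquivFunOnFintype R {f // f ∈ s} S).symm
  haveI : Module.FaithfullyFlat R (Π i, S i) := by
    refine Module.FaithfullyFlat.of_comap_surjective fun p => ?_
    obtain ⟨m, hm, hpm⟩ := Ideal.exists_le_maximal p.asIdeal p.isPrime.ne_top
    obtain ⟨f, hf, hfm⟩ := hs m hm
    obtain ⟨q, hq⟩ := hrange ⟨f, hf⟩ p fun hfp => hfm (hpm hfp)
    refine ⟨PrimeSpectrum.comap (Pi.evalRingHom S ⟨f, hf⟩) q, ?_⟩
    rw [← hq, ← PrimeSpectrum.comap_comp_apply]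
    rfl
  exact ⟨Π i, S i, inferInstance, inferInstance, M, cM, inferInstance, ⟨e⟩⟩

set_option maxHeartbeats 1600000 in
set_option synthInstance.maxHeartbeats 200000 in
/-- Diagonalisability lifts along a henselian pair. -/
theorem isDiag_of_pair {R : Type u} [CommRing R] {A : Type u} [CommRing A] [HopfAlgebra R A]
    (hft : Algebra.FiniteType R A) (h : SGA3b.IsMultType R A) (I : Ideal R) [HenselianRing R I]
    (h0 : SGA3b.IsDiag (R ⧸ I) ((R ⧸ I) ⊗[R] A)) : SGA3b.IsDiag R A := by
  classical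
  rcases subsingleton_or_nontrivial R with hR | hR
  · haveI := Module.subsingleton R A
    let ψ : MonoidAlgebra R PUnit.{u + 1} →ₐ[R] A := MonoidAlgebra.lift R A PUnit.{u + 1} 1
    haveI := Module.subsingleton R (MonoidAlgebra R PUnit.{u + 1})
    exact isDiag_of_bijective (1 : PUnit.{u + 1} →* A) (fun _ => ⟨Subsingleton.elim _ _, Subsingleton.elim _ _⟩)
      ⟨fun a b _ => Subsingleton.elim _ _, fun a => ⟨0, Subsingleton.elim _ _⟩⟩
  obtain ⟨M₀, _, ⟨e₀⟩⟩ := h0
  have hI : I ≤ Ideal.jacobson ⊥ := HenselianRing.jac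
  obtain ⟨S, _, _, M, _, hff, ⟨e⟩⟩ := exists_global_chart h I hI e₀
  haveI : Nontrivial (R ⧸ I) := Ideal.Quotient.nontrivial_iff.mpr fun htop => by
    obtain ⟨m, hm⟩ := Ideal.exists_maximal R
    exact hm.ne_top (top_le_iff.mp (htop ▸ le_trans hI (sInf_le ⟨bot_le, hm⟩)))
  haveI : Algebra.FiniteType (R ⧸ I) ((R ⧸ I) ⊗[R] A) := by haveI := hft; infer_instance
  obtain ⟨T₀, -⟩ := exists_towerEquiv R (R ⧸ I) (R ⧸ I) A
  haveI : Group.FG M₀ := fg_of_finiteType (inferInstance : Algebra.FiniteType (R ⧸ I) ((R ⧸ I) ⊗[R] A)) (T₀.symm.trans e₀)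
  have hlift : ∀ m : M₀, ∃ w : A, IsGroupLikeElem R w ∧ e₀ ((1 : R ⧸ I) ⊗ₜ[R] w) = MonoidAlgebra.single m 1 := by
    intro m
    obtain ⟨x, hx⟩ := TensorProduct.mk_surjective R A (R ⧸ I) Ideal.Quotient.mk_surjective (e₀.symm (MonoidAlgebra.single m 1))
    have hgl : IsGroupLikeElem (R ⧸ I) ((1 : R ⧸ I) ⊗ₜ[R] x) := by
      rw [show (1 : R ⧸ I) ⊗ₜ[R] x = _ from hx]
      exact (groupLike_single m).map e₀.symm
    obtain ⟨h1, h2⟩ := (groupLike_iff _).mp hgl
    have hd : glDefect (R := R) x ∈ I • (⊤ : Submodule R (A ⊗[R] A)) := by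
      apply mem_of_tmul_eq_zero
      rw [glDefect, TensorProduct.tmul_sub, sub_eq_zero]
      refine (show comulS (R ⧸ I) ((1 : R ⧸ I) ⊗ₜ[R] x) = _ from h1).trans ?_
      simp [inlS, inrS]
    have hc : CoalgebraStruct.counit (R := R) x - 1 ∈ I := by
      rw [TensorProduct.counit_tmul, CommSemiring.counit_apply, Algebra.smul_def, mul_one, Ideal.Quotient.algebraMap_eq,
        ← map_one (Ideal.Quotient.mk I), Ideal.Quotient.eq] at h2
      exact h2
    obtain ⟨w, hw, hwx⟩ := exists_groupLike_pair hft e I hd hc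
    refine ⟨w, hw, ?_⟩
    have h3 := tmul_eq_zero_of_mem hwx
    rw [TensorProduct.tmul_sub, sub_eq_zero] at h3
    rw [h3, show (1 : R ⧸ I) ⊗ₜ[R] x = _ from hx]
    exact e₀.apply_symm_apply _
  choose w hw hwe using hlift
  have huniq : ∀ {u : A}, IsGroupLikeElem R u → ∀ m, e₀ ((1 : R ⧸ I) ⊗ₜ[R] u) = MonoidAlgebra.single m 1 → w m = u := by
    intro u hu m hum
    refine groupLike_eq_pair e I hI (hw m) hu (mem_of_tmul_eq_zero ?_)
    rw [TensorProduct.tmul_sub, sub_eq_zero]
    exact EquivLike.injective e₀ ((hwe m).trans hum.symm)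
  let χ : M₀ →* A :=
    { toFun := w
      map_one' := huniq IsGroupLikeElem.one 1 (by
        rw [← Algebra.TensorProduct.one_def, map_one]; rfl)
      map_mul' := fun a b => huniq ((hw a).mul (hw b)) (a * b) (by
        rw [show (1 : R ⧸ I) ⊗ₜ[R] (w a * w b) = ((1 : R ⧸ I) ⊗ₜ[R] w a) * ((1 : R ⧸ I) ⊗ₜ[R] w b) by
          rw [Algebra.TensorProduct.tmul_mul_tmul, one_mul], map_mul, hwe, hwe, MonoidAlgebra.single_mul_single, mul_one]) }
  refine isDiag_of_bijective χ hw (bijective_of_away _ (s := {g | Function.Bijective (Algebra.TensorProduct.map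
    (AlgHom.id (Localization.Away g) (Localization.Away g)) (MonoidAlgebra.lift R A M₀ χ))}) ?_ fun g hg => hg)
  by_contra hne
  obtain ⟨m, hm, hle⟩ := Ideal.exists_le_maximal _ hne
  letI : Field (R ⧸ m) := Ideal.Quotient.field m
  let red : R ⧸ I →ₐ[R] R ⧸ m := Ideal.Quotient.factorₐ R (le_trans hI (sInf_le ⟨bot_le, hm⟩))
  obtain ⟨em, hem⟩ := exists_diag_map red e₀
  obtain ⟨g, hg, hbij⟩ := exists_bijective_lift hft e em χ hw fun a => by
    rw [show (1 : R ⧸ m) ⊗ₜ[R] χ a = coeffMap red ((1 : R ⧸ I) ⊗ₜ[R] w a) by rw [coeffMap_tmul, map_one]; rfl, hem, hwe,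
      coeffGroup_single, map_one]
  apply hg
  rw [Ideal.Quotient.algebraMap_eq, Ideal.Quotient.eq_zero_iff_mem]
  exact hle (Ideal.subset_span hbij)

set_option maxHeartbeats 1600000 in
set_option synthInstance.maxHeartbeats 200000 in
/-- Isotriviality lifts along a henselian pair. -/
theorem isIsotrivial_of_pair {R : Type u} [CommRing R] {A : Type u} [CommRing A] [HopfAlgebra R A]
    (hft : Algebra.FiniteType R A) (h : SGA3b.IsMultType R A) (I : Ideal R) [HenselianRing R I]
    (h0 : SGA3b.IsIsotrivial (R ⧸ I) ((R ⧸ I) ⊗[R] A)) : SGA3b.IsIsotrivial R A := by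
  classical
  obtain ⟨C, _, _, _, _, _, M₀, _, ⟨eC⟩⟩ := h0
  obtain ⟨B, _, _, _, _, ⟨ε⟩⟩ := Lib.Henselian.FiniteEtale.exists_finite_etale_lift I C
  haveI : Algebra.IsIntegral R B := Algebra.IsIntegral.of_finite R B
  let IB : Ideal B := I.map (algebraMap R B)
  haveI : HenselianRing B IB := Lib.Henselian.Pair.henselianRing_of_isIntegral I B
  haveI : Module.FaithfullyFlat R B := by
    haveI : Module.Flat R B := inferInstance
    refine Module.FaithfullyFlat.of_comap_surjective fun p => ?_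
    obtain ⟨m, hm, hpm⟩ := Ideal.exists_le_maximal p.asIdeal p.isPrime.ne_top
    have hIm : I ≤ m := le_trans HenselianRing.jac (sInf_le ⟨bot_le, hm⟩)
    haveI : (m.map (Ideal.Quotient.mk I)).IsMaximal :=
      Ideal.IsMaximal.map_of_surjective_of_ker_le Ideal.Quotient.mk_surjective (by rwa [Ideal.mk_ker])
    obtain ⟨Q, hQ⟩ := PrimeSpectrum.comap_surjective_of_faithfullyFlat (B := C)
      (⟨m.map (Ideal.Quotient.mk I), inferInstance⟩ : PrimeSpectrum (R ⧸ I))
    let π : B →+* C := ε.toAlgHom.toRingHom.comp (Algebra.TensorProduct.includeRight : B →ₐ[R] (R ⧸ I) ⊗[R] B).toRingHom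
    have hπ : π.comp (algebraMap R B) = (algebraMap (R ⧸ I) C).comp (Ideal.Quotient.mk I) := by
      ext r
      show ε ((1 : R ⧸ I) ⊗ₜ[R] algebraMap R B r) = _
      rw [← Algebra.TensorProduct.algebraMap_apply', IsScalarTower.algebraMap_apply R (R ⧸ I) ((R ⧸ I) ⊗[R] B), AlgEquiv.commutes]
      rfl
    let Q' : PrimeSpectrum B := PrimeSpectrum.comap π Q
    have hQ' : PrimeSpectrum.comap (algebraMap R B) Q' = ⟨m, hm.isPrime⟩ := by
      rw [← PrimeSpectrum.comap_comp_apply, hπ, PrimeSpectrum.comap_comp_apply, hQ]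
      ext1
      show (m.map (Ideal.Quotient.mk I)).comap (Ideal.Quotient.mk I) = m
      rw [Ideal.comap_map_of_surjective' _ Ideal.Quotient.mk_surjective, Ideal.mk_ker, sup_eq_left]
      exact hIm
    haveI : Q'.asIdeal.LiesOver m := ⟨(congrArg PrimeSpectrum.asIdeal hQ').symm⟩
    obtain ⟨P, -, hP, hPover⟩ := Ideal.exists_ideal_le_liesOver_of_le (p := p.asIdeal) (q := m) Q'.asIdeal hpm
    exact ⟨⟨P, hP⟩, PrimeSpectrum.ext hPover.over.symm⟩
  refine ⟨B, inferInstance, inferInstance, inferInstance, inferInstance, inferInstance, ?_⟩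
  refine isDiag_of_pair (by haveI := hft; infer_instance) (isMultType_baseChange B h) IB ?_
  let π : C →ₐ[R ⧸ I] (R ⧸ I) ⊗[R] B := ε.symm.toAlgHom
  let q : (R ⧸ I) ⊗[R] B →ₐ[R] B ⧸ IB := Algebra.TensorProduct.lift
    (Ideal.Quotient.liftₐ I (Algebra.ofId R (B ⧸ IB)) (fun r hr => by
      show algebraMap R (B ⧸ IB) r = 0
      rw [IsScalarTower.algebraMap_apply R B (B ⧸ IB), Ideal.Quotient.algebraMap_eq, Ideal.Quotient.eq_zero_iff_mem]
      exact Ideal.mem_map_of_mem _ hr))
    (Ideal.Quotient.mkₐ R IB) (fun _ _ => by exact Commute.all _ _)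
  letI : Algebra R C := Algebra.compHom C (algebraMap R (R ⧸ I))
  haveI : IsScalarTower R (R ⧸ I) C := IsScalarTower.of_algebraMap_eq fun _ => rfl
  obtain ⟨TC, -⟩ := exists_towerEquiv R (R ⧸ I) C A
  obtain ⟨e', -⟩ := exists_diag_map (q.comp (π.restrictScalars R)) (TC.trans eC)
  obtain ⟨TB, -⟩ := exists_towerEquiv R B (B ⧸ IB) A
  exact ⟨M₀, inferInstance, ⟨TB.symm.trans e'⟩⟩

end Groth.Agent.H83.Quasi
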