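import Groth.Agent.H83.MultType.GroupLike

/-! Commutative algebra around a point of the base, tested on a flat algebra. -/

set_option autoImplicit false

universe u

open TensorProduct

namespace Groth.Agent.H83.Quasi

/-- An element killed in a flat algebra with a point is killed by a scalar invertible at that point. -/
theorem exists_smul_eq_zero {R : Type u} [CommRing R] {L : Type u} [CommRing L] [Algebra R L] [Module.Flat R L]
    {K : Type u} [CommRing K] [Nontrivial K] (ρ : L →+* K) {Q : Type u} [AddCommGroup Q] [Module R Q] {z : Q}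
    (hz : (1 : L) ⊗ₜ[R] z = 0) : ∃ g : R, ρ (algebraMap R L g) ≠ 0 ∧ g • z = 0 := by
  have h1 := MultType.mem_map_ker_of_tmul_eq_zero L hz
  by_contra h
  have h2 : Ideal.map (algebraMap R L) (LinearMap.ker (LinearMap.toSpanSingleton R Q z)) ≤ RingHom.ker ρ := by
    refine Ideal.map_le_iff_le_comap.mpr fun r hr => ?_
    rw [Ideal.mem_comap, RingHom.mem_ker]
    by_contra h3
    exact h ⟨r, h3, hr⟩
  have h3 := h2 h1
  rw [RingHom.mem_ker, map_one] at h3
  exact one_ne_zero h3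

/-- An element which lies in a submodule after a flat extension with a point does so after multiplication
by a scalar invertible at that point. -/
theorem exists_smul_mem {R : Type u} [CommRing R] {L : Type u} [CommRing L] [Algebra R L] [Module.Flat R L]
    {K : Type u} [CommRing K] [Nontrivial K] (ρ : L →+* K) {C : Type u} [AddCommGroup C] [Module R C]
    (U : Submodule R C) {z : C} (hz : (1 : L) ⊗ₜ[R] z ∈ Submodule.span L ((fun c => (1 : L) ⊗ₜ[R] c) '' U)) :
    ∃ g : R, ρ (algebraMap R L g) ≠ 0 ∧ g • z ∈ U := by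
  have h0 : (1 : L) ⊗ₜ[R] U.mkQ z = 0 := by
    have hle : Submodule.span L ((fun c => (1 : L) ⊗ₜ[R] c) '' U) ≤ LinearMap.ker (U.mkQ.baseChange L) := by
      rw [Submodule.span_le]
      rintro _ ⟨c, hc, rfl⟩
      rw [SetLike.mem_coe, LinearMap.mem_ker, LinearMap.baseChange_tmul, Submodule.mkQ_apply,
        (Submodule.Quotient.mk_eq_zero U).mpr hc, TensorProduct.tmul_zero]
    exact hle hz
  obtain ⟨g, hg, hgz⟩ := exists_smul_eq_zero ρ h0
  refine ⟨g, hg, ?_⟩
  rwa [Submodule.mkQ_apply, ← Submodule.Quotient.mk_smul, Submodule.Quotient.mk_eq_zero] at hgz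

/-- In a localisation away from `g`, a module element vanishes if and only if a power of `g` kills it. -/
theorem away_tmul_eq_zero_iff {R : Type u} [CommRing R] (g : R) {Q : Type u} [AddCommGroup Q] [Module R Q] (z : Q) :
    (1 : Localization.Away g) ⊗ₜ[R] z = 0 ↔ ∃ n : ℕ, g ^ n • z = 0 := by
  constructor
  · intro hz
    obtain ⟨⟨_, n, rfl⟩, hn⟩ := (IsLocalizedModule.eq_zero_iff (Submonoid.powers g)
      (TensorProduct.mk R (Localization.Away g) Q 1)).mp hz
    exact ⟨n, hn⟩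
  · rintro ⟨n, hn⟩
    exact (IsLocalizedModule.eq_zero_iff (Submonoid.powers g)
      (TensorProduct.mk R (Localization.Away g) Q 1)).mpr ⟨⟨_, n, rfl⟩, hn⟩

/-- An element of a localised module is a fraction. -/
theorem away_surj {R : Type u} [CommRing R] (g : R) {Q : Type u} [AddCommGroup Q] [Module R Q]
    (z : Localization.Away g ⊗[R] Q) :
    ∃ (n : ℕ) (q : Q), (g ^ n : R) • z = (1 : Localization.Away g) ⊗ₜ[R] q := by
  obtain ⟨⟨q, ⟨_, n, rfl⟩⟩, hq⟩ := IsLocalizedModule.surj (Submonoid.powers g)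
    (TensorProduct.mk R (Localization.Away g) Q 1) z
  exact ⟨n, q, hq⟩

theorem away_smul_cancel {R : Type u} [CommRing R] (g : R) (n : ℕ) {M : Type u} [AddCommGroup M]
    [Module R M] [Module (Localization.Away g) M] [IsScalarTower R (Localization.Away g) M] {x y : M}
    (h : g ^ n • x = g ^ n • y) : x = y := by
  rw [← algebraMap_smul (Localization.Away g) (g ^ n) x, ← algebraMap_smul (Localization.Away g) (g ^ n) y,
    map_pow] at h
  exact ((IsLocalization.Away.algebraMap_isUnit g).pow n).smul_left_cancel.mp h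

theorem map_rsmul {R L X Y : Type u} [CommRing R] [CommRing L] [Algebra R L] [CommRing X] [Algebra R X] [Algebra L X]
    [IsScalarTower R L X] [CommRing Y] [Algebra R Y] [Algebra L Y] [IsScalarTower R L Y] (f : X →ₐ[L] Y) (r : R) (x : X) :
    f (r • x) = r • f x :=
  (f.restrictScalars R).toLinearMap.map_smul r x

/-- A homomorphism of algebras which becomes bijective in a flat algebra with a point is bijective on a
neighbourhood of that point. -/
theorem exists_bijective_away {R : Type u} [CommRing R] {B C : Type u} [CommRing B] [Algebra R B] [CommRing C]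
    [Algebra R C] [Algebra.FinitePresentation R B] [Algebra.FinitePresentation R C] (ψ : B →ₐ[R] C)
    {L : Type u} [CommRing L] [Algebra R L] [Module.Flat R L] {K : Type u} [CommRing K] [IsDomain K] (ρ : L →+* K)
    (hψ : Function.Bijective (Algebra.TensorProduct.map (AlgHom.id L L) ψ)) :
    ∃ g : R, ρ (algebraMap R L g) ≠ 0 ∧
      Function.Bijective (Algebra.TensorProduct.map (AlgHom.id (Localization.Away g) (Localization.Away g)) ψ) := by
  classical
  obtain ⟨t, ht⟩ := (inferInstance : Algebra.FiniteType R C).out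
  have hsm : ∀ c : C, ∃ g : R, ρ (algebraMap R L g) ≠ 0 ∧ g • c ∈ LinearMap.range ψ.toLinearMap := by
    intro c
    refine exists_smul_mem ρ _ ?_
    obtain ⟨w, hw⟩ := hψ.2 ((1 : L) ⊗ₜ[R] c)
    rw [← hw]
    clear hw
    induction w using TensorProduct.induction_on with
    | zero => simp
    | add a b ha hb => rw [map_add]; exact add_mem ha hb
    | tmul l b =>
      rw [Algebra.TensorProduct.map_tmul, AlgHom.id_apply,
        show l ⊗ₜ[R] ψ b = l • ((1 : L) ⊗ₜ[R] ψ b) by rw [TensorProduct.smul_tmul', smul_eq_mul, mul_one]]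
      exact Submodule.smul_mem _ _ (Submodule.subset_span ⟨ψ b, ⟨b, rfl⟩, rfl⟩)
  choose gg hgg hggm using hsm
  set g₁ : R := ∏ c ∈ t, gg c with hg₁
  let L₁ := Localization.Away g₁
  let ψ₁ : L₁ ⊗[R] B →ₐ[L₁] L₁ ⊗[R] C := Algebra.TensorProduct.map (AlgHom.id L₁ L₁) ψ
  have hsurj : Function.Surjective ψ₁ := by
    have hgen : ∀ c ∈ t, (1 : L₁) ⊗ₜ[R] c ∈ ψ₁.range := by
      intro c hc
      have hunit : IsUnit (algebraMap R L₁ (gg c)) :=
        isUnit_of_dvd_unit (map_dvd _ (Finset.dvd_prod_of_mem gg hc)) (IsLocalization.Away.algebraMap_isUnit g₁)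
      obtain ⟨b, hb⟩ := hggm c
      refine ⟨(↑hunit.unit⁻¹ : L₁) • ((1 : L₁) ⊗ₜ[R] b), ?_⟩
      rw [AlgHom.toRingHom_eq_coe, RingHom.coe_coe, map_smul]
      simp only [ψ₁, Algebra.TensorProduct.map_tmul, AlgHom.id_apply, TensorProduct.smul_tmul', smul_eq_mul, mul_one]
      rw [show ψ b = gg c • c from hb, ← TensorProduct.smul_tmul, Algebra.smul_def, IsUnit.mul_val_inv]
    rw [← AlgHom.range_eq_top, eq_top_iff, ← Algebra.TensorProduct.adjoin_one_tmul_image_eq_top (t : Set C) ht, Algebra.adjoin_le_iff]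
    rintro _ ⟨c, hc, rfl⟩
    exact hgen c hc
  obtain ⟨s, hs⟩ := Algebra.FinitePresentation.ker_fG_of_surjective ψ₁ hsurj
  have hk : ∀ k : L₁ ⊗[R] B, ψ₁ k = 0 → ∃ h : R, ρ (algebraMap R L h) ≠ 0 ∧ h • k = 0 := by
    intro k hk0
    obtain ⟨n, b, hb⟩ := away_surj g₁ k
    have h1 : (1 : L₁) ⊗ₜ[R] ψ b = 0 := by
      rw [show (1 : L₁) ⊗ₜ[R] ψ b = ψ₁ ((1 : L₁) ⊗ₜ[R] b) from rfl, ← hb, map_rsmul, hk0, smul_zero]
    obtain ⟨m, hm⟩ := (away_tmul_eq_zero_iff g₁ _).mp h1
    have h2 : (1 : L) ⊗ₜ[R] (g₁ ^ m • b) = 0 := hψ.1 (by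
      rw [map_zero, Algebra.TensorProduct.map_tmul, map_smul, hm, AlgHom.id_apply, TensorProduct.tmul_zero])
    obtain ⟨h, hh, hhb⟩ := exists_smul_eq_zero ρ h2
    refine ⟨h, hh, away_smul_cancel g₁ (n + m) ?_⟩
    rw [smul_zero, smul_smul, show g₁ ^ (n + m) * h = h * g₁ ^ m * g₁ ^ n by ring, mul_smul, hb,
      ← TensorProduct.tmul_smul, mul_smul, hhb, TensorProduct.tmul_zero]
  choose hh hhn hhk using hk
  let h₂ : R := ∏ k ∈ s.attach, hh k.1 (show k.1 ∈ RingHom.ker ψ₁.toRingHom from hs ▸ Ideal.subset_span k.2)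
  have hkill : ∀ k : L₁ ⊗[R] B, ψ₁ k = 0 → h₂ • k = 0 := by
    intro k hk0
    have hmem : k ∈ Ideal.span (s : Set (L₁ ⊗[R] B)) := by 
      have hs' : Ideal.span (s : Set (L₁ ⊗[R] B)) = RingHom.ker ψ₁.toRingHom := hs
      rw [hs']; exact hk0
    clear hk0
    induction hmem using Submodule.span_induction with
    | mem x hx =>
      obtain ⟨c, hc⟩ : hh x _ ∣ h₂ := Finset.dvd_prod_of_mem
        (fun k : {k // k ∈ s} => hh k.1 (show k.1 ∈ RingHom.ker ψ₁.toRingHom from hs ▸ Ideal.subset_span k.2))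
        (Finset.mem_attach s ⟨x, hx⟩)
      rw [hc, mul_comm, mul_smul, hhk, smul_zero]
    | zero => rw [smul_zero]
    | add a b _ _ ha hb => rw [smul_add, ha, hb, add_zero]
    | smul r a _ ha => rw [smul_eq_mul, ← mul_smul_comm, ha, mul_zero]
  refine ⟨g₁ * h₂, ?_, ?_⟩
  · rw [map_mul, map_mul]
    refine mul_ne_zero ?_ ?_
    · rw [hg₁, map_prod, map_prod]; exact Finset.prod_ne_zero_iff.mpr fun c _ => hgg c
    · rw [map_prod, map_prod]; exact Finset.prod_ne_zero_iff.mpr fun k _ => hhn _ _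
  · let L₂ := Localization.Away (g₁ * h₂)
    let ψ₂ : L₂ ⊗[R] B →ₐ[L₂] L₂ ⊗[R] C := Algebra.TensorProduct.map (AlgHom.id L₂ L₂) ψ
    show Function.Bijective ψ₂
    refine ⟨(injective_iff_map_eq_zero ψ₂).mpr fun z hz => ?_, fun y => ?_⟩
    · obtain ⟨n, b, hb⟩ := away_surj (g₁ * h₂) z
      have h1 : (1 : L₂) ⊗ₜ[R] ψ b = 0 := by
        rw [show (1 : L₂) ⊗ₜ[R] ψ b = ψ₂ ((1 : L₂) ⊗ₜ[R] b) from rfl, ← hb, map_rsmul, hz, smul_zero]
      obtain ⟨m, hm⟩ := (away_tmul_eq_zero_iff (g₁ * h₂) _).mp h1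
      have h2 : ψ₁ ((1 : L₁) ⊗ₜ[R] (h₂ ^ m • b)) = 0 :=
        away_smul_cancel g₁ m (by
          rw [smul_zero, ← map_rsmul, ← TensorProduct.tmul_smul, smul_smul, ← mul_pow]
          simp only [ψ₁, Algebra.TensorProduct.map_tmul, AlgHom.id_apply, map_smul, hm, TensorProduct.tmul_zero])
      have h3 := hkill _ h2
      rw [← TensorProduct.tmul_smul, away_tmul_eq_zero_iff] at h3
      obtain ⟨l, hl⟩ := h3
      refine away_smul_cancel (g₁ * h₂) (n + l + m + 1) ?_
      rw [smul_zero, show n + l + m + 1 = (l + m + 1) + n by ring, pow_add, mul_smul, hb, ← TensorProduct.tmul_smul,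
        show ((g₁ * h₂) ^ (l + m + 1) : R) = (g₁ ^ (m + 1) * h₂ ^ l) * (g₁ ^ l * (h₂ * h₂ ^ m)) by ring]
      simp only [mul_smul]
      rw [hl, smul_zero, smul_zero, TensorProduct.tmul_zero]
    · obtain ⟨n, c, hc⟩ := away_surj (g₁ * h₂) y
      obtain ⟨x, hx⟩ := hsurj ((1 : L₁) ⊗ₜ[R] c)
      obtain ⟨m, b, hb⟩ := away_surj g₁ x
      have h1 : (1 : L₁) ⊗ₜ[R] (ψ b - g₁ ^ m • c) = 0 := by
        rw [TensorProduct.tmul_sub, TensorProduct.tmul_smul, ← hx,
          show (1 : L₁) ⊗ₜ[R] ψ b = ψ₁ ((1 : L₁) ⊗ₜ[R] b) from rfl, ← hb, map_rsmul, sub_self]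
      obtain ⟨l, hl⟩ := (away_tmul_eq_zero_iff g₁ _).mp h1
      rw [smul_sub, sub_eq_zero, smul_smul, ← pow_add] at hl
      have hu : IsUnit (algebraMap R L₂ ((g₁ * h₂) ^ n * g₁ ^ (l + m))) := by
        have hg : IsUnit (algebraMap R L₂ (g₁ * h₂)) := IsLocalization.Away.algebraMap_isUnit _
        rw [map_mul, map_pow, map_pow]
        exact (hg.pow n).mul ((isUnit_of_dvd_unit (map_dvd _ (dvd_mul_right g₁ h₂)) hg).pow _)
      refine ⟨(↑hu.unit⁻¹ : L₂) • ((1 : L₂) ⊗ₜ[R] (g₁ ^ l • b)), hu.smul_left_cancel.mp ?_⟩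
      rw [map_smul, smul_smul, IsUnit.mul_val_inv, one_smul, algebraMap_smul,
        show (g₁ * h₂) ^ n * g₁ ^ (l + m) = g₁ ^ (l + m) * (g₁ * h₂) ^ n from mul_comm _ _, mul_smul, hc,
        ← TensorProduct.tmul_smul, ← hl]
      show ψ₂ ((1 : L₂) ⊗ₜ[R] (g₁ ^ l • b)) = _
      rw [TensorProduct.tmul_smul, TensorProduct.tmul_smul, map_rsmul]
      rfl

/-- Finitely generated group algebras are finitely presented. -/
theorem finitePresentation_monoidAlgebra (R : Type u) [CommRing R] (M : Type u) [CommGroup M] [Group.FG M] :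
    Algebra.FinitePresentation R (MonoidAlgebra R M) := by
  haveI : Monoid.FG M := Group.fg_iff_monoid_fg.mp inferInstance
  haveI : Algebra.FiniteType ℤ (MonoidAlgebra ℤ M) := MonoidAlgebra.finiteType_iff_fg.mpr inferInstance
  haveI : Algebra.FinitePresentation ℤ (MonoidAlgebra ℤ M) := Algebra.FinitePresentation.of_finiteType.mp inferInstance
  exact Algebra.FinitePresentation.equiv (MonoidAlgebra.scalarTensorEquiv ℤ R (M := M))

/-- A finite set of non-trivial elements of a finitely generated abelian group avoids the `N`-th powers for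
some `N > 0`. -/
theorem exists_exponent_avoiding {G : Type u} [CommGroup G] [Group.FG G] (s : Finset G) :
    ∃ N : ℕ, 0 < N ∧ ∀ u ∈ s, u ≠ 1 → u ∉ (powMonoidHom N : G →* G).range := by
  classical
  obtain ⟨n, ι, _, p, hp, e, ⟨f⟩⟩ := AddCommGroup.equiv_free_prod_directSum_zmod (Additive G)
  haveI : ∀ i, NeZero (p i ^ e i) := fun i => ⟨pow_ne_zero _ (hp i).ne_zero⟩
  let T := DirectSum ι fun i => ZMod (p i ^ e i)
  haveI : Finite T := Finite.of_equiv _ DFinsupp.equivFunOnFintype.symm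
  let d : G → ℕ := fun u => ∑ i, ((f (Additive.ofMul u)).1 i).natAbs
  refine ⟨Nat.card T * (∑ u ∈ s, d u + 1), Nat.mul_pos Nat.card_pos (Nat.succ_pos _), ?_⟩
  rintro u hu hu1 ⟨w, rfl⟩
  set N := Nat.card T * (∑ v ∈ s, d v + 1) with hN
  have hf : f (Additive.ofMul ((powMonoidHom N : G →* G) w)) = N • f (Additive.ofMul w) := by
    rw [← map_nsmul, powMonoidHom_apply, ofMul_pow]
  have hfree : (f (Additive.ofMul ((powMonoidHom N : G →* G) w))).1 = 0 := by
    ext i
    by_contra hne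
    have hle : ((f (Additive.ofMul ((powMonoidHom N : G →* G) w))).1 i).natAbs ≤ ∑ v ∈ s, d v :=
      le_trans (Finset.single_le_sum (f := fun i => ((f (Additive.ofMul ((powMonoidHom N : G →* G) w))).1 i).natAbs)
        (fun _ _ => Nat.zero_le _) (Finset.mem_univ i)) (Finset.single_le_sum (f := d) (fun _ _ => Nat.zero_le _) hu)
    rw [hf] at hne hle
    simp only [Prod.smul_fst, Finsupp.smul_apply, Pi.smul_apply, nsmul_eq_mul, Int.natAbs_mul, Int.natAbs_natCast,
      Finsupp.coe_zero, Pi.zero_apply] at hne hle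
    have h1 : 0 < ((f (Additive.ofMul w)).1 i).natAbs :=
      Int.natAbs_pos.mpr fun h => hne (by rw [h, mul_zero])
    have h2 : ∑ v ∈ s, d v + 1 ≤ N := by rw [hN]; exact Nat.le_mul_of_pos_left _ Nat.card_pos
    have h3 := Nat.le_mul_of_pos_right N h1
    omega
  apply hu1
  apply Additive.ofMul.injective
  apply f.injective
  rw [ofMul_one, map_zero]
  refine Prod.ext hfree ?_
  rw [hf, Prod.smul_snd, Prod.snd_zero, hN, mul_comm, mul_smul, card_nsmul_eq_zero', smul_zero]

end Groth.Agent.H83.Quasi
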