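import Groth.Agent.H83.Quasi.Near

/-! Diagonalisation near a point of the base. -/

set_option autoImplicit false

universe u

open TensorProduct

namespace Groth.Agent.H83.Quasi

open MultType

/-- The comparison of an iterated extension of scalars with the change of coefficients. -/
theorem towerEquiv_coeffMap {R L S : Type u} [CommRing R] [CommRing L] [CommRing S] [Algebra R L] [Algebra L S]
    [Algebra R S] [IsScalarTower R L S] {A : Type u} [CommRing A] [HopfAlgebra R A]
    (T : S ⊗[R] A ≃ₐc[S] S ⊗[L] (L ⊗[R] A)) (hT : ∀ (s : S) (a : A), T (s ⊗ₜ[R] a) = s ⊗ₜ[L] ((1 : L) ⊗ₜ[R] a))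
    (v : L ⊗[R] A) : T (coeffMap (IsScalarTower.toAlgHom R L S) v) = (1 : S) ⊗ₜ[L] v := by
  induction v using TensorProduct.induction_on with
  | zero => simp
  | add a b ha hb => simp only [map_add, TensorProduct.tmul_add, ha, hb]
  | tmul l a =>
    rw [coeffMap_tmul, hT, IsScalarTower.coe_toAlgHom', ← mul_one (algebraMap L S l), ← Algebra.smul_def,
      TensorProduct.smul_tmul, TensorProduct.smul_tmul', smul_eq_mul, mul_one]

set_option maxHeartbeats 800000 in
set_option synthInstance.maxHeartbeats 200000 in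
/-- Group-like elements which agree at a point agree near it. -/
theorem exists_away_eq {R : Type u} [CommRing R] {A : Type u} [CommRing A] [HopfAlgebra R A]
    {S : Type u} [CommRing S] [Algebra R S] [Module.FaithfullyFlat R S] {M : Type u} [CommGroup M]
    (e : (S ⊗[R] A) ≃ₐc[S] MonoidAlgebra S M) {κ : Type u} [Field κ] [Algebra R κ] {R' : Type u} [CommRing R'] [Algebra R R']
    (φ : R' →ₐ[R] κ) {u v : R' ⊗[R] A} (hu : IsGroupLikeElem R' u) (hv : IsGroupLikeElem R' v)
    (huv : coeffMap φ u = coeffMap φ v) : ∃ g : R', φ g ≠ 0 ∧ g • u = g • v := by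
  classical
  obtain ⟨L, _, _, _, _, σ₀, K, _, _, ρ₀, α₀, hloc⟩ := @exists_localPoint R' κ (R' ⊗[R] S) _ _ φ.toRingHom.toAlgebra _ _ _
  letI : Algebra R' κ := φ.toRingHom.toAlgebra
  letI : Algebra R L := Algebra.compHom L (algebraMap R R')
  letI : Algebra R K := Algebra.compHom K (algebraMap R R')
  haveI : IsScalarTower R R' L := IsScalarTower.of_algebraMap_eq fun _ => rfl
  haveI : IsScalarTower R R' K := IsScalarTower.of_algebraMap_eq fun _ => rfl
  haveI : IsScalarTower R R' κ := IsScalarTower.of_algebraMap_eq fun r => (φ.commutes r).symm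
  let ρ : L →ₐ[R] K := ρ₀.restrictScalars R
  let α : κ →ₐ[R] K := α₀.restrictScalars R
  let ι : R' →ₐ[R] L := IsScalarTower.toAlgHom R R' L
  have hsq : ρ.comp ι = α.comp φ := AlgHom.ext fun r => (ρ₀.commutes r).trans (α₀.commutes r).symm
  obtain ⟨eL, -⟩ := exists_diag_map ((σ₀.restrictScalars R).comp Algebra.TensorProduct.includeRight) e
  obtain ⟨eK, heK⟩ := exists_diag_map ρ eL
  obtain ⟨a, ha⟩ := groupLike_eq_single ((groupLike_coeffMap ι hu).map eL)
  obtain ⟨b, hb⟩ := groupLike_eq_single ((groupLike_coeffMap ι hv).map eL)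
  have hab : eK (coeffMap ρ (coeffMap ι u)) = eK (coeffMap ρ (coeffMap ι v)) := by
    rw [coeffMap_comp, coeffMap_comp, hsq, ← coeffMap_comp, ← coeffMap_comp, huv]
  rw [heK, heK, ha, hb, coeffGroup_single, coeffGroup_single, map_one] at hab
  have hL : coeffMap ι u = coeffMap ι v := EquivLike.injective eL (by rw [ha, hb, single_eq_single hab])
  obtain ⟨T, hT⟩ := exists_towerEquiv R R' L A
  have hz : (1 : L) ⊗ₜ[R'] (u - v) = 0 := by
    rw [TensorProduct.tmul_sub, ← towerEquiv_coeffMap T hT, ← towerEquiv_coeffMap T hT, hL, sub_self]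
  obtain ⟨g, hg, hguv⟩ := exists_smul_eq_zero ρ₀.toRingHom hz
  refine ⟨g, fun h0 => hg ?_, sub_eq_zero.mp (by rw [← smul_sub]; exact hguv)⟩
  show ρ₀ (algebraMap R' L g) = 0
  rw [ρ₀.commutes, ← α₀.commutes g]
  exact (congrArg α₀ h0).trans (map_zero α₀)

/-- The property of being lifted to a common etale neighbourhood. -/
structure Nbhd (R κ : Type u) [CommRing R] [CommRing κ] [Algebra R κ] where
  R' : Type u
  [cR : CommRing R']
  [aR : Algebra R R']
  [et : Algebra.Etale R R']
  φ : R' →ₐ[R] κ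

attribute [instance] Nbhd.cR Nbhd.aR Nbhd.et

/-- Passing to a basic open around the point. -/
theorem exists_nbhd_away {R κ : Type u} [CommRing R] [Field κ] [Algebra R κ] (N : Nbhd R κ) {g : N.R'} (hg : N.φ g ≠ 0) :
    ∃ (N' : Nbhd R κ) (j : N.R' →ₐ[R] N'.R'), N'.φ.comp j = N.φ ∧ IsUnit (j g) := by
  let R'' := Localization.Away g
  haveI : Algebra.Etale N.R' R'' := Algebra.Etale.of_isLocalizationAway g
  haveI : Algebra.Etale R R'' := Algebra.Etale.comp R N.R' R''
  let φ' : R'' →ₐ[R] κ := IsLocalization.liftAlgHom (M := Submonoid.powers g) (f := N.φ)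
    (by
      rintro ⟨_, n, rfl⟩
      show IsUnit (N.φ (g ^ n))
      rw [map_pow]
      exact (IsUnit.mk0 _ hg).pow n)
  exact ⟨{ R' := R'', φ := φ' }, IsScalarTower.toAlgHom R N.R' R'', AlgHom.ext fun r => IsLocalization.lift_eq _ r,
    IsLocalization.Away.algebraMap_isUnit g⟩

/-- Two neighbourhoods have a common refinement. -/
theorem exists_nbhd_prod {R κ : Type u} [CommRing R] [CommRing κ] [Algebra R κ] (N₁ N₂ : Nbhd R κ) :
    ∃ (N : Nbhd R κ) (j₁ : N₁.R' →ₐ[R] N.R') (j₂ : N₂.R' →ₐ[R] N.R'), N.φ.comp j₁ = N₁.φ ∧ N.φ.comp j₂ = N₂.φ := by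
  haveI : Algebra.Etale R (N₁.R' ⊗[R] N₂.R') := Algebra.Etale.comp R N₁.R' (N₁.R' ⊗[R] N₂.R')
  refine ⟨{ R' := N₁.R' ⊗[R] N₂.R', φ := Algebra.TensorProduct.lift N₁.φ N₂.φ (fun _ _ => by exact Commute.all _ _) },
    Algebra.TensorProduct.includeLeft, Algebra.TensorProduct.includeRight,
    AlgHom.ext fun r => ?_, AlgHom.ext fun r => ?_⟩
  · simp
  · simp

set_option maxHeartbeats 800000 in
set_option synthInstance.maxHeartbeats 200000 in
/-- Finitely many group-like elements at a point extend to a common neighbourhood. -/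
theorem exists_nbhd_lift {R : Type u} [CommRing R] {A : Type u} [CommRing A] [HopfAlgebra R A]
    (hft : Algebra.FiniteType R A) {S : Type u} [CommRing S] [Algebra R S] [Module.FaithfullyFlat R S] {M : Type u}
    [CommGroup M] (e : (S ⊗[R] A) ≃ₐc[S] MonoidAlgebra S M) {κ : Type u} [Field κ] [Algebra R κ]
    (hκ : ∀ z : κ ⊗[R] A, ∃ c : κ, c ≠ 0 ∧ ∃ x : A, c • z = (1 : κ) ⊗ₜ[R] x)
    (s : Finset (κ ⊗[R] A)) (hs : ∀ z ∈ s, IsGroupLikeElem κ z) :
    ∃ N : Nbhd R κ, ∀ z ∈ s, ∃ w : N.R' ⊗[R] A, IsGroupLikeElem N.R' w ∧ coeffMap N.φ w = z := by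
  classical
  induction s using Finset.induction_on with
  | empty => exact ⟨{ R' := R, φ := Algebra.ofId R κ }, by simp⟩
  | insert a s ha ih =>
    obtain ⟨N₁, h₁⟩ := ih fun z hz => hs z (Finset.mem_insert_of_mem hz)
    obtain ⟨R₂, _, _, _, φ₂, w₂, hw₂, hφ₂⟩ := exists_lift_groupLike hft e hκ (hs a (Finset.mem_insert_self a s))
    obtain ⟨N, j₁, j₂, hj₁, hj₂⟩ := exists_nbhd_prod N₁ { R' := R₂, φ := φ₂ }
    refine ⟨N, fun z hz => ?_⟩
    rcases Finset.mem_insert.mp hz with rfl | hz
    · exact ⟨coeffMap j₂ w₂, groupLike_coeffMap j₂ hw₂, by rw [coeffMap_comp, hj₂]; exact hφ₂⟩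
    · obtain ⟨w, hw, hφ⟩ := h₁ z hz
      exact ⟨coeffMap j₁ w, groupLike_coeffMap j₁ hw, by rw [coeffMap_comp, hj₁]; exact hφ⟩

set_option maxHeartbeats 1600000 in
set_option synthInstance.maxHeartbeats 200000 in
/-- A basis of group-like elements at a point is one near that point. -/
theorem exists_bijective_lift {R : Type u} [CommRing R] {A : Type u} [CommRing A] [HopfAlgebra R A]
    (hft : Algebra.FiniteType R A) {S : Type u} [CommRing S] [Algebra R S] [Module.FaithfullyFlat R S] {M : Type u}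
    [CommGroup M] (e : (S ⊗[R] A) ≃ₐc[S] MonoidAlgebra S M) {κ : Type u} [Field κ] [Algebra R κ]
    {M₀ : Type u} [CommGroup M₀] [Group.FG M₀] (e₀ : (κ ⊗[R] A) ≃ₐc[κ] MonoidAlgebra κ M₀) (χ : M₀ →* A)
    (hgl : ∀ m, IsGroupLikeElem R (χ m)) (hχ : ∀ m, e₀ ((1 : κ) ⊗ₜ[R] χ m) = MonoidAlgebra.single m 1) :
    ∃ g : R, algebraMap R κ g ≠ 0 ∧ Function.Bijective (Algebra.TensorProduct.map
      (AlgHom.id (Localization.Away g) (Localization.Away g)) (MonoidAlgebra.lift R A M₀ χ)) := by
  classical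
  obtain ⟨L, _, _, _, _, σ, K, _, _, ρ, α, hloc⟩ := exists_localPoint R κ S
  obtain ⟨eL, -⟩ := exists_diag_map σ e
  obtain ⟨eK, heK⟩ := exists_diag_map ρ eL
  obtain ⟨e₀K, he₀K⟩ := exists_diag_map α e₀
  choose h hh using fun m => groupLike_eq_single ((groupLike_baseChange L (hgl m)).map eL)
  have hK : ∀ m, eK (e₀K.symm (MonoidAlgebra.single m 1)) = MonoidAlgebra.single (h m) 1 := by
    intro m
    have h1 : e₀K (coeffMap α ((1 : κ) ⊗ₜ[R] χ m)) = MonoidAlgebra.single m 1 := by
      rw [he₀K, hχ, coeffGroup_single, map_one]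
    rw [← h1, show e₀K.symm (e₀K (coeffMap α ((1 : κ) ⊗ₜ[R] χ m))) = _ from e₀K.symm_apply_apply _, coeffMap_tmul,
      map_one, show (1 : K) ⊗ₜ[R] χ m = coeffMap ρ ((1 : L) ⊗ₜ[R] χ m) by rw [coeffMap_tmul, map_one], heK, hh,
      coeffGroup_single, map_one]
  have hinj : Function.Injective h := fun a b hab => by
    have h1 := hK a
    rw [hab, ← hK b] at h1
    exact single_eq_single (EquivLike.injective e₀K.symm (EquivLike.injective eK h1))
  have hsurjh : Function.Surjective h := by
    intro p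
    by_contra hp
    simp only [not_exists] at hp
    have hall : ∀ y : MonoidAlgebra K M₀, coeffAt K p (eK (e₀K.symm y)) = 0 := by
      intro y
      induction y using MonoidAlgebra.induction_linear with
      | zero => simp
      | add a b ha hb => simp only [map_add, ha, hb, add_zero]
      | single m r =>
        rw [show MonoidAlgebra.single m r = r • MonoidAlgebra.single m (1 : K) by rw [MonoidAlgebra.smul_single, smul_eq_mul, mul_one],
          map_smul, map_smul, hK, map_smul, coeffAt_single, if_neg (hp m), smul_zero]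
    have h1 := hall (e₀K (eK.symm (MonoidAlgebra.single p 1)))
    rw [show e₀K.symm (e₀K (eK.symm (MonoidAlgebra.single p 1))) = _ from e₀K.symm_apply_apply _,
      show eK (eK.symm (MonoidAlgebra.single p 1)) = _ from eK.apply_symm_apply _, coeffAt_single, if_pos rfl] at h1
    exact one_ne_zero h1
  let ψ : MonoidAlgebra R M₀ →ₐ[R] A := MonoidAlgebra.lift R A M₀ χ
  have hψ : ∀ (T : Type u) [CommRing T] [Algebra R T] (m : M₀) (r : T),
      Algebra.TensorProduct.map (AlgHom.id T T) ψ ((MonoidAlgebra.scalarTensorEquiv R T).symm (MonoidAlgebra.single m r)) =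
        r • ((1 : T) ⊗ₜ[R] χ m) := by
    intro T _ _ m r
    simp [ψ, TensorProduct.smul_tmul']
  have hLbij : Function.Bijective (Algebra.TensorProduct.map (AlgHom.id L L) ψ) := by
    have h1 : (eL : (L ⊗[R] A) → MonoidAlgebra L M) ∘ Algebra.TensorProduct.map (AlgHom.id L L) ψ ∘
        (MonoidAlgebra.scalarTensorEquiv R L (M := M₀)).symm = MonoidAlgebra.mapDomain h := by
      funext y
      simp only [Function.comp_apply]
      induction y using MonoidAlgebra.induction_linear with
      | zero => simp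
      | add a b ha hb => simp only [map_add, MonoidAlgebra.mapDomain_add, ha, hb]
      | single m r =>
        rw [hψ, map_smul, hh, MonoidAlgebra.smul_single, smul_eq_mul, mul_one, MonoidAlgebra.mapDomain_single]
    have h2 : Function.Bijective (MonoidAlgebra.mapDomain h : MonoidAlgebra L M₀ → MonoidAlgebra L M) := by
      refine ⟨MonoidAlgebra.mapDomain_injective hinj, fun y => ?_⟩
      induction y using MonoidAlgebra.induction_linear with
      | zero => exact ⟨0, by simp⟩
      | add a b ha hb =>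
        obtain ⟨x, rfl⟩ := ha
        obtain ⟨z, rfl⟩ := hb
        exact ⟨x + z, MonoidAlgebra.mapDomain_add _ _ _⟩
      | single p r =>
        obtain ⟨m, rfl⟩ := hsurjh p
        exact ⟨MonoidAlgebra.single m r, MonoidAlgebra.mapDomain_single⟩
    rw [← h1] at h2
    exact (Function.Bijective.of_comp_iff _ (MonoidAlgebra.scalarTensorEquiv R L (M := M₀)).symm.bijective).mp
      ((Function.Bijective.of_comp_iff' (EquivLike.bijective eL) _).mp h2)
  haveI : Nontrivial R := (algebraMap R κ).domain_nontrivial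
  haveI : Nontrivial S := (FaithfulSMul.algebraMap_injective R S).nontrivial
  haveI := fg_of_finiteType hft e
  haveI := finitePresentation_monoidAlgebra R M₀
  haveI := finitePresentation_monoidAlgebra S M
  haveI : Algebra.FinitePresentation S (S ⊗[R] A) := Algebra.FinitePresentation.equiv e.toAlgEquiv.symm
  haveI : Algebra.FinitePresentation R A := Algebra.FinitePresentation.of_finitePresentation_tensorProduct_of_faithfullyFlat S
  obtain ⟨g, hg, hbij⟩ := exists_bijective_away ψ ρ.toRingHom hLbij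
  refine ⟨g, fun h0 => hg ?_, hbij⟩
  show ρ (algebraMap R L g) = 0
  rw [ρ.commutes, ← α.commutes g, h0, map_zero]

/-- A bijection of group algebras gives a diagonalisation. -/
theorem isDiag_of_bijective {R : Type u} [CommRing R] {A : Type u} [CommRing A] [HopfAlgebra R A]
    {M₀ : Type u} [CommGroup M₀] (χ : M₀ →* A) (hgl : ∀ m, IsGroupLikeElem R (χ m))
    (h : Function.Bijective (MonoidAlgebra.lift R A M₀ χ)) : SGA3b.IsDiag R A := by
  let Ψ : MonoidAlgebra R M₀ →ₐc[R] A := BialgHom.ofAlgHom (MonoidAlgebra.lift R A M₀ χ)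
    (by
      ext q
      simp [(hgl q).counit_eq_one])
    (by
      ext q
      simp [(hgl q).comul_eq_tmul_self])
  exact ⟨M₀, inferInstance, ⟨(BialgEquiv.ofBijective Ψ h).symm⟩⟩

/-- Bijectivity may be tested on a covering. -/
theorem bijective_of_away {R : Type u} [CommRing R] {B C : Type u} [CommRing B] [Algebra R B] [CommRing C] [Algebra R C]
    (ψ : B →ₐ[R] C) {s : Set R} (hs : Ideal.span s = ⊤)
    (h : ∀ g ∈ s, Function.Bijective (Algebra.TensorProduct.map (AlgHom.id (Localization.Away g) (Localization.Away g)) ψ)) :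
    Function.Bijective ψ := by
  refine ⟨(injective_iff_map_eq_zero ψ).mpr fun b hb => MultType.eq_zero_of_forall_pow_smul hs fun g hg => ?_, fun c => ?_⟩
  · refine (away_tmul_eq_zero_iff g b).mp ((h g hg).1 ?_)
    rw [map_zero, Algebra.TensorProduct.map_tmul, hb, TensorProduct.tmul_zero]
  · have h0 : (LinearMap.range ψ.toLinearMap).mkQ c = 0 := MultType.eq_zero_of_forall_pow_smul hs fun g hg => by
      obtain ⟨x, hx⟩ := (h g hg).2 ((1 : Localization.Away g) ⊗ₜ[R] c)
      obtain ⟨n, b, hb⟩ := away_surj g x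
      have h1 : (1 : Localization.Away g) ⊗ₜ[R] (g ^ n • c - ψ b) = 0 := by
        rw [TensorProduct.tmul_sub, TensorProduct.tmul_smul, ← hx, ← map_rsmul, hb, Algebra.TensorProduct.map_tmul, AlgHom.id_apply, sub_self]
      obtain ⟨m, hm⟩ := (away_tmul_eq_zero_iff g _).mp h1
      refine ⟨m + n, ?_⟩
      rw [smul_sub, sub_eq_zero, smul_smul, ← pow_add] at hm
      rw [← map_smul, Submodule.mkQ_apply, Submodule.Quotient.mk_eq_zero, hm, ← map_smul]
      exact ⟨g ^ m • b, rfl⟩
    rw [Submodule.mkQ_apply, Submodule.Quotient.mk_eq_zero] at h0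
    exact h0

set_option maxHeartbeats 800000 in
set_option synthInstance.maxHeartbeats 200000 in
/-- A basis of group-like elements at a point diagonalises near that point. -/
theorem exists_diag_away {R : Type u} [CommRing R] {A : Type u} [CommRing A] [HopfAlgebra R A]
    (hft : Algebra.FiniteType R A) {S : Type u} [CommRing S] [Algebra R S] [Module.FaithfullyFlat R S] {M : Type u}
    [CommGroup M] (e : (S ⊗[R] A) ≃ₐc[S] MonoidAlgebra S M) {κ : Type u} [Field κ] [Algebra R κ]
    {M₀ : Type u} [CommGroup M₀] [Group.FG M₀] (e₀ : (κ ⊗[R] A) ≃ₐc[κ] MonoidAlgebra κ M₀) (χ : M₀ →* A)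
    (hgl : ∀ m, IsGroupLikeElem R (χ m)) (hχ : ∀ m, e₀ ((1 : κ) ⊗ₜ[R] χ m) = MonoidAlgebra.single m 1) :
    ∃ g : R, algebraMap R κ g ≠ 0 ∧ SGA3b.IsDiag (Localization.Away g) (Localization.Away g ⊗[R] A) := by
  classical
  obtain ⟨g, hg, hbij⟩ := exists_bijective_lift hft e e₀ χ hgl hχ
  refine ⟨g, hg, ?_⟩
  let ψ : MonoidAlgebra R M₀ →ₐ[R] A := MonoidAlgebra.lift R A M₀ χ
  let Rg := Localization.Away g
  let χg : M₀ →* Rg ⊗[R] A := (Algebra.TensorProduct.includeRight : A →ₐ[R] Rg ⊗[R] A).toMonoidHom.comp χ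
  let Ψa : MonoidAlgebra Rg M₀ →ₐ[Rg] Rg ⊗[R] A := MonoidAlgebra.lift Rg _ M₀ χg
  have hglg : ∀ m, IsGroupLikeElem Rg (χg m) := fun m => groupLike_baseChange Rg (hgl m)
  let Ψ : MonoidAlgebra Rg M₀ →ₐc[Rg] Rg ⊗[R] A := BialgHom.ofAlgHom Ψa
    (by
      ext q
      simp [Ψa, (hglg q).counit_eq_one])
    (by
      ext q
      simp [Ψa, (hglg q).comul_eq_tmul_self])
  have hΨ : (Ψ : MonoidAlgebra Rg M₀ → Rg ⊗[R] A) = Algebra.TensorProduct.map (AlgHom.id Rg Rg) ψ ∘
      (MonoidAlgebra.scalarTensorEquiv R Rg (M := M₀)).symm := by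
    funext y
    simp only [Function.comp_apply]
    induction y using MonoidAlgebra.induction_linear with
    | zero => simp
    | add a b ha hb => simp only [map_add, ha, hb]
    | single m r =>
      simp [ψ, TensorProduct.smul_tmul']
      simp [Ψ, Ψa, χg, TensorProduct.smul_tmul']
  have hΨb : Function.Bijective Ψ := by
    rw [hΨ]
    exact hbij.comp (MonoidAlgebra.scalarTensorEquiv R Rg (M := M₀)).symm.bijective
  exact ⟨M₀, inferInstance, ⟨(BialgEquiv.ofBijective Ψ hΨb).symm⟩⟩

end Groth.Agent.H83.Quasi
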