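import Groth.Agent.H83.Quasi.Local
import Groth.Agent.Lib.H58Versch
import Groth.Agent.H83.MultType.KerType
import Mathlib

/-! From fibres over local bases to an arbitrary affine base. -/

set_option autoImplicit false

universe u

open TensorProduct

namespace Groth.Agent.H83.Quasi

open MultType

theorem isMultType_of_equiv {R : Type u} [CommRing R] {A B : Type u} [CommRing A] [HopfAlgebra R A] [CommRing B]
    [HopfAlgebra R B] (e : A ≃ₐc[R] B) (hB : ∀ (S : Type u) [CommRing S] [Algebra R S],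
      Nonempty ((S ⊗[R] A) ≃ₐc[S] (S ⊗[R] B))) (h : SGA3b.IsMultType R B) : SGA3b.IsMultType R A := by
  obtain ⟨s, hs, hc⟩ := h
  refine ⟨s, hs, fun f hf => ?_⟩
  obtain ⟨S, _, _, hff, M, _, ⟨d⟩⟩ := hc f hf
  letI : Algebra R S := Algebra.compHom S (algebraMap R (Localization.Away f))
  haveI : IsScalarTower R (Localization.Away f) S := IsScalarTower.of_algebraMap_eq fun _ => rfl
  obtain ⟨UA, -⟩ := exists_towerEquiv R (Localization.Away f) S A
  obtain ⟨UB, -⟩ := exists_towerEquiv R (Localization.Away f) S B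
  obtain ⟨eS⟩ := hB S
  exact ⟨S, inferInstance, inferInstance, hff, M, inferInstance, ⟨UA.symm.trans (eS.trans (UB.trans d))⟩⟩

theorem torsion_map {R : Type u} [CommRing R] {C : Type u} [CommRing C] [HopfAlgebra R C] (T : Type u) [CommRing T]
    [Algebra R T] (n : ℕ) :
    (SGA3b.torsionIdeal R C n).map (Algebra.TensorProduct.includeRight : C →ₐ[R] T ⊗[R] C) ≤
      SGA3b.torsionIdeal T (T ⊗[R] C) n := by
  unfold SGA3b.torsionIdeal
  rw [Ideal.map_le_iff_le_comap, Ideal.map_le_iff_le_comap]
  intro a ha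
  rw [RingHom.mem_ker] at ha
  show (1 : T) ⊗ₜ[R] SGA3b.powConv R C n a ∈
    Ideal.map (SGA3b.powConv T (T ⊗[R] C) n) (RingHom.ker (Bialgebra.counitAlgHom T (T ⊗[R] C)))
  rw [← Groth.Agent.Lib.H58Versch.powConv_tmul]
  refine Ideal.mem_map_of_mem _ ?_
  rw [RingHom.mem_ker]
  show CoalgebraStruct.counit (R := T) ((1 : T) ⊗ₜ[R] a) = 0
  rw [TensorProduct.counit_tmul, show CoalgebraStruct.counit (R := R) a = 0 from ha, zero_smul]

theorem finite_torsion_baseChange {R : Type u} [CommRing R] {C : Type u} [CommRing C] [HopfAlgebra R C] (T : Type u)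
    [CommRing T] [Algebra R T] (n : ℕ) (h : Module.Finite R (C ⧸ SGA3b.torsionIdeal R C n)) :
    Module.Finite T ((T ⊗[R] C) ⧸ SGA3b.torsionIdeal T (T ⊗[R] C) n) := by
  haveI := h
  let ψ₀ : C →ₐ[R] (T ⊗[R] C) ⧸ SGA3b.torsionIdeal T (T ⊗[R] C) n :=
    ((Ideal.Quotient.mkₐ T _).restrictScalars R).comp Algebra.TensorProduct.includeRight
  let ψ₁ : C ⧸ SGA3b.torsionIdeal R C n →ₐ[R] (T ⊗[R] C) ⧸ SGA3b.torsionIdeal T (T ⊗[R] C) n :=
    Ideal.Quotient.liftₐ _ ψ₀ fun a ha => Ideal.Quotient.eq_zero_iff_mem.mpr (torsion_map T n (Ideal.mem_map_of_mem _ ha))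
  let ψ : T ⊗[R] (C ⧸ SGA3b.torsionIdeal R C n) →ₐ[T] (T ⊗[R] C) ⧸ SGA3b.torsionIdeal T (T ⊗[R] C) n :=
    Algebra.TensorProduct.lift (Algebra.ofId T _) ψ₁ fun _ _ => Commute.all _ _
  refine Module.Finite.of_surjective ψ.toLinearMap fun x => ?_
  obtain ⟨y, rfl⟩ := Ideal.Quotient.mk_surjective x
  induction y using TensorProduct.induction_on with
  | zero => exact ⟨0, map_zero _⟩
  | add a b ha hb => obtain ⟨a', ha⟩ := ha; obtain ⟨b', hb⟩ := hb; exact ⟨a' + b', by rw [map_add, ha, hb, map_add]⟩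
  | tmul t c =>
    refine ⟨t ⊗ₜ[R] Ideal.Quotient.mk _ c, ?_⟩
    show ψ (t ⊗ₜ[R] Ideal.Quotient.mk _ c) = _
    simp only [ψ, Algebra.TensorProduct.lift_tmul]
    show Algebra.ofId T _ t * ψ₀ c = _
    rw [show t ⊗ₜ[R] c = t • ((1 : T) ⊗ₜ[R] c) by rw [TensorProduct.smul_tmul', smul_eq_mul, mul_one]]
    show _ * Ideal.Quotient.mk _ ((1 : T) ⊗ₜ[R] c) = _
    rw [Algebra.smul_def t, map_mul]
    rfl

theorem flat_atPrime {R : Type u} [CommRing R] {C : Type u} [CommRing C] [Algebra R C] [Module.Flat R C] (q : Ideal C)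
    [q.IsPrime] : Module.Flat R (Localization.AtPrime q) := by
  haveI : Module.Flat C (Localization.AtPrime q) := IsLocalization.flat _ q.primeCompl
  exact Module.Flat.trans R C (Localization.AtPrime q)

set_option maxHeartbeats 800000 in
set_option synthInstance.maxHeartbeats 200000 in
theorem isMultType_closedFibre {R : Type u} [CommRing R] {C : Type u} [CommRing C] [HopfAlgebra R C] (p : Ideal R)
    [p.IsPrime] (h : SGA3b.IsMultType p.ResidueField (p.ResidueField ⊗[R] C)) :
    SGA3b.IsMultType (IsLocalRing.ResidueField (Localization.AtPrime p))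
      (IsLocalRing.ResidueField (Localization.AtPrime p) ⊗[Localization.AtPrime p] (Localization.AtPrime p ⊗[R] C)) := by
  obtain ⟨T, -⟩ := exists_towerEquiv R (Localization.AtPrime p) p.ResidueField C
  refine isMultType_of_equiv T.symm (fun S _ _ => ?_) h
  letI : Algebra R S := Algebra.compHom S (algebraMap R p.ResidueField)
  haveI : IsScalarTower R p.ResidueField S := IsScalarTower.of_algebraMap_eq fun _ => rfl
  letI : Algebra (Localization.AtPrime p) S := Algebra.compHom S (algebraMap (Localization.AtPrime p) p.ResidueField)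
  haveI : IsScalarTower (Localization.AtPrime p) p.ResidueField S := IsScalarTower.of_algebraMap_eq fun _ => rfl
  haveI : IsScalarTower R (Localization.AtPrime p) S := IsScalarTower.of_algebraMap_eq fun r => by
    rw [IsScalarTower.algebraMap_apply R p.ResidueField S, IsScalarTower.algebraMap_apply (Localization.AtPrime p) p.ResidueField S,
      ← IsScalarTower.algebraMap_apply R (Localization.AtPrime p) p.ResidueField]
  obtain ⟨U₁, -⟩ := exists_towerEquiv (Localization.AtPrime p) p.ResidueField S (Localization.AtPrime p ⊗[R] C)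
  obtain ⟨U₂, -⟩ := exists_towerEquiv R (Localization.AtPrime p) S C
  obtain ⟨U₃, -⟩ := exists_towerEquiv R p.ResidueField S C
  exact ⟨U₁.symm.trans (U₂.symm.trans U₃)⟩

set_option maxHeartbeats 800000 in
set_option synthInstance.maxHeartbeats 200000 in
theorem connected_fibre_atPrime {R : Type u} [CommRing R] {C : Type u} [CommRing C] [Algebra R C] (p : Ideal R) [p.IsPrime]
    (h : ∀ (q : Ideal R) [q.IsPrime], ConnectedSpace (PrimeSpectrum (q.ResidueField ⊗[R] C)))
    (P : Ideal (Localization.AtPrime p)) [P.IsPrime] :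
    ConnectedSpace (PrimeSpectrum (P.ResidueField ⊗[Localization.AtPrime p] (Localization.AtPrime p ⊗[R] C))) := by
  let q : Ideal R := P.comap (algebraMap R (Localization.AtPrime p))
  haveI := h q
  have hb := (RingHom.surjectiveOnStalks_of_isLocalization p.primeCompl (Localization.AtPrime p)).residueFieldMap_bijective q P rfl
  let σ : q.ResidueField →ₐ[R] P.ResidueField := Ideal.ResidueField.mapₐ q P (Algebra.ofId R (Localization.AtPrime p)) rfl
  let E : P.ResidueField ⊗[Localization.AtPrime p] (Localization.AtPrime p ⊗[R] C) ≃+* q.ResidueField ⊗[R] C :=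
    (Algebra.TensorProduct.cancelBaseChange R (Localization.AtPrime p) P.ResidueField P.ResidueField C).toRingEquiv.trans
      (Algebra.TensorProduct.congr (AlgEquiv.ofBijective σ hb).symm AlgEquiv.refl).toRingEquiv
  exact (PrimeSpectrum.homeomorphOfRingEquiv E).symm.surjective.connectedSpace (Homeomorph.continuous _)

theorem nontrivial_away {R : Type u} [CommRing R] {f : R} (h : ¬IsNilpotent f) : Nontrivial (Localization.Away f) := by
  refine nontrivial_of_ne 0 1 fun h0 => h ?_
  have h1 : algebraMap R (Localization.Away f) 1 = 0 := by rw [map_one]; exact h0.symm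
  obtain ⟨⟨_, k, rfl⟩, hk⟩ := (IsLocalization.map_eq_zero_iff (Submonoid.powers f) _ 1).mp h1
  exact ⟨k, by simpa using hk⟩

/-- Torsion finite + local statement. -/
theorem isMultType_of_torsion {R : Type u} [CommRing R] {C : Type u} [CommRing C] [HopfAlgebra R C] [Coalgebra.IsCocomm R C]
    [Module.Flat R C] (hfp : Algebra.FinitePresentation R C)
    (hlocal : ∀ (R : Type u) [CommRing R] [IsLocalRing R] (C : Type u) [CommRing C] [HopfAlgebra R C] [Coalgebra.IsCocomm R C],
      Algebra.FinitePresentation R C →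
      (∀ (q : Ideal C) [q.IsPrime], Ideal.map (algebraMap R C) (IsLocalRing.maximalIdeal R) ≤ q → Module.Flat R (Localization.AtPrime q)) →
      SGA3b.IsMultType (IsLocalRing.ResidueField R) (IsLocalRing.ResidueField R ⊗[R] C) →
      (∀ n : ℕ, 0 < n → Module.Finite R (C ⧸ SGA3b.torsionIdeal R C n)) → SGA3b.IsMultType R C)
    (hfib : ∀ (p : Ideal R) [p.IsPrime], SGA3b.IsMultType p.ResidueField (p.ResidueField ⊗[R] C))
    (hfin : ∀ n : ℕ, 0 < n → Module.Finite R (C ⧸ SGA3b.torsionIdeal R C n)) : SGA3b.IsMultType R C := by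
  haveI := hfp
  refine isMultType_of_local hfp fun p _ => ?_
  exact hlocal (Localization.AtPrime p) (Localization.AtPrime p ⊗[R] C) inferInstance
    (fun q _ _ => flat_atPrime q) (isMultType_closedFibre p (hfib p)) (fun n hn => finite_torsion_baseChange _ n (hfin n hn))

/-- Connected fibres + local statement. -/
theorem isMultType_of_connected {R : Type u} [CommRing R] {A : Type u} [CommRing A] [HopfAlgebra R A]
    [Module.Flat R A] (hfp : Algebra.FinitePresentation R A)
    (hlocal : ∀ (R : Type u) [CommRing R] [IsLocalRing R] (C : Type u) [CommRing C] [HopfAlgebra R C],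
      Algebra.FinitePresentation R C →
      (∀ (q : Ideal C) [q.IsPrime], Ideal.map (algebraMap R C) (IsLocalRing.maximalIdeal R) ≤ q → Module.Flat R (Localization.AtPrime q)) →
      SGA3b.IsMultType (IsLocalRing.ResidueField R) (IsLocalRing.ResidueField R ⊗[R] C) →
      (∀ (p : Ideal R) [p.IsPrime], ConnectedSpace (PrimeSpectrum (p.ResidueField ⊗[R] C))) → SGA3b.IsMultType R C)
    (hfib : ∀ (p : Ideal R) [p.IsPrime], SGA3b.IsMultType p.ResidueField (p.ResidueField ⊗[R] A) ∧
      ConnectedSpace (PrimeSpectrum (p.ResidueField ⊗[R] A))) : SGA3b.IsMultType R A := by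
  haveI := hfp
  refine isMultType_of_local hfp fun p _ => ?_
  exact hlocal (Localization.AtPrime p) (Localization.AtPrime p ⊗[R] A) inferInstance
    (fun q _ _ => flat_atPrime q) (isMultType_closedFibre p (hfib p).1)
    (fun P _ => connected_fibre_atPrime p (fun q _ => (hfib q).2) P)

theorem exists_domainCongr (L : Type u) [CommRing L] {N : Type*} {N' : Type*} [CommGroup N] [CommGroup N'] (σ : N ≃* N') :
    Nonempty (MonoidAlgebra L N ≃ₐc[L] MonoidAlgebra L N') := by
  refine ⟨BialgEquiv.ofBialgHom (MonoidAlgebra.mapDomainBialgHom L σ.toMonoidHom)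
    (MonoidAlgebra.mapDomainBialgHom L σ.symm.toMonoidHom) ?_ ?_⟩
  · apply BialgHom.ext
    intro y
    induction y using MonoidAlgebra.induction_linear with
    | zero => simp
    | add a b ha hb => simp only [map_add, ha, hb]
    | single p r => simp
  · apply BialgHom.ext
    intro y
    induction y using MonoidAlgebra.induction_linear with
    | zero => simp
    | add a b ha hb => simp only [map_add, ha, hb]
    | single p r => simp

set_option maxHeartbeats 800000 in
set_option synthInstance.maxHeartbeats 200000 in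
/-- A torus over a field is split over some field. -/
theorem exists_field_chart {κ : Type u} [Field κ] {B : Type u} [CommRing B] [HopfAlgebra κ B] (h : SGA3b.IsTorus κ B) :
    ∃ (K : Type u) (_ : Field K) (_ : Algebra κ K) (n : ℕ),
      Nonempty ((K ⊗[κ] B) ≃ₐc[K] MonoidAlgebra K (ULift.{u} (Multiplicative (Fin n → ℤ)))) := by
  obtain ⟨s, hs, hc⟩ := h
  obtain ⟨f, hf, hf0⟩ : ∃ f ∈ s, f ≠ 0 := by
    by_contra hn
    simp only [not_exists, not_and, not_not] at hn
    have : Ideal.span s ≤ ⊥ := Ideal.span_le.mpr fun x hx => by simp [hn x hx]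
    exact absurd (top_le_iff.mp (hs ▸ this)) bot_ne_top
  obtain ⟨S, _, _, hff, n, ⟨e⟩⟩ := hc f hf
  haveI : Nontrivial (Localization.Away f) := nontrivial_away fun ⟨k, hk⟩ => hf0 (eq_zero_of_pow_eq_zero hk)
  haveI := hff
  haveI : Nontrivial S := (PrimeSpectrum.comap_surjective_of_faithfullyFlat (B := S)
    (Classical.arbitrary (PrimeSpectrum (Localization.Away f)))).elim fun P _ => nontrivial_of_ne 0 1 fun h0 => P.isPrime.ne_top ((Ideal.eq_top_iff_one _).mpr (h0 ▸ P.asIdeal.zero_mem))
  obtain ⟨m, hm⟩ := Ideal.exists_maximal S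
  letI : Field (S ⧸ m) := Ideal.Quotient.field m
  letI : Algebra κ S := Algebra.compHom S (algebraMap κ (Localization.Away f))
  haveI : IsScalarTower κ (Localization.Away f) S := IsScalarTower.of_algebraMap_eq fun _ => rfl
  obtain ⟨U, -⟩ := exists_towerEquiv κ (Localization.Away f) S B
  obtain ⟨σ⟩ := exists_domainCongr S (MulEquiv.ulift (α := Multiplicative (Fin n → ℤ))).symm
  obtain ⟨e', -⟩ := exists_diag_map (Ideal.Quotient.mkₐ κ m) (U.trans (e.trans σ))
  exact ⟨S ⧸ m, inferInstance, inferInstance, n, ⟨e'⟩⟩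

/-- Tori have connected fibres and are of multiplicative type. -/
theorem fibre_of_torus {κ : Type u} [Field κ] {B : Type u} [CommRing B] [HopfAlgebra κ B] (h : SGA3b.IsTorus κ B) :
    SGA3b.IsMultType κ B ∧ ConnectedSpace (PrimeSpectrum B) := by
  obtain ⟨K, _, _, n, ⟨e⟩⟩ := exists_field_chart h
  refine ⟨isMultType_of_diag K ⟨_, inferInstance, ⟨e⟩⟩, ?_⟩
  obtain ⟨τ⟩ := exists_domainCongr K (MulEquiv.ulift (α := Multiplicative (Fin n → ℤ)))
  haveI : IsDomain (MonoidAlgebra K (Multiplicative (Fin n → ℤ))) := NoZeroDivisors.to_isDomain _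
  haveI : IsDomain (K ⊗[κ] B) :=
    MulEquiv.isDomain (MonoidAlgebra K (Multiplicative (Fin n → ℤ))) (e.toAlgEquiv.trans τ.toAlgEquiv).toMulEquiv
  haveI : IsDomain B := Function.Injective.isDomain
    (Algebra.TensorProduct.includeRight : B →ₐ[κ] K ⊗[κ] B).toRingHom
    (Algebra.TensorProduct.includeRight_injective (algebraMap κ K).injective)
  infer_instance

set_option maxHeartbeats 800000 in
set_option synthInstance.maxHeartbeats 200000 in
/-- Multiplicative type with torus fibres is a torus. -/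
theorem isTorus_of_fibres {R : Type u} [CommRing R] {A : Type u} [CommRing A] [HopfAlgebra R A]
    (h : SGA3b.IsMultType R A) (hfib : ∀ (p : Ideal R) [p.IsPrime], SGA3b.IsTorus p.ResidueField (p.ResidueField ⊗[R] A)) :
    SGA3b.IsTorus R A := by
  classical
  obtain ⟨s, hs, hc⟩ := h
  refine ⟨{f | f ∈ s ∧ ¬IsNilpotent f}, ?_, ?_⟩
  · by_contra hne
    obtain ⟨m, hm, hle⟩ := Ideal.exists_le_maximal _ hne
    refine hm.ne_top (top_le_iff.mp (hs ▸ Ideal.span_le.mpr fun f hf => ?_))
    by_cases hn : IsNilpotent f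
    · obtain ⟨k, hk⟩ := hn
      exact hm.isPrime.mem_of_pow_mem k (hk ▸ m.zero_mem)
    · exact hle (Ideal.subset_span ⟨hf, hn⟩)
  rintro f ⟨hf, hnil⟩
  obtain ⟨S, _, _, hff, M, _, ⟨e⟩⟩ := hc f hf
  haveI : Nontrivial (Localization.Away f) := nontrivial_away hnil
  obtain ⟨m₀, hm₀⟩ := Ideal.exists_maximal (Localization.Away f)
  haveI := hff
  obtain ⟨⟨P, hP⟩, -⟩ := PrimeSpectrum.comap_surjective_of_faithfullyFlat (B := S) (⟨m₀, hm₀.isPrime⟩ : PrimeSpectrum (Localization.Away f))
  haveI := hP
  letI : Algebra R S := Algebra.compHom S (algebraMap R (Localization.Away f))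
  haveI : IsScalarTower R (Localization.Away f) S := IsScalarTower.of_algebraMap_eq fun _ => rfl
  let p : Ideal R := P.comap (algebraMap R S)
  obtain ⟨K₁, _, _, n, ⟨e₁⟩⟩ := exists_field_chart (hfib p)
  let σ : p.ResidueField →ₐ[R] P.ResidueField := Ideal.ResidueField.mapₐ p P (Algebra.ofId R S) rfl
  letI : Algebra p.ResidueField P.ResidueField := σ.toRingHom.toAlgebra
  haveI : IsScalarTower R p.ResidueField P.ResidueField := IsScalarTower.of_algebraMap_eq fun r => (σ.commutes r).symm
  letI : Algebra R K₁ := Algebra.compHom K₁ (algebraMap R p.ResidueField)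
  haveI : IsScalarTower R p.ResidueField K₁ := IsScalarTower.of_algebraMap_eq fun _ => rfl
  haveI : Nontrivial (P.ResidueField ⊗[p.ResidueField] K₁) := inferInstance
  obtain ⟨m, hm⟩ := Ideal.exists_maximal (P.ResidueField ⊗[p.ResidueField] K₁)
  let K := (P.ResidueField ⊗[p.ResidueField] K₁) ⧸ m
  letI : Field K := Ideal.Quotient.field m
  let j₁ : K₁ →ₐ[R] K := ((Ideal.Quotient.mkₐ p.ResidueField m).comp Algebra.TensorProduct.includeRight).restrictScalars R
  let j₂ : S →ₐ[R] K := (((Ideal.Quotient.mkₐ p.ResidueField m).comp Algebra.TensorProduct.includeLeft).restrictScalars R).comp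
    (IsScalarTower.toAlgHom R S P.ResidueField)
  obtain ⟨U, -⟩ := exists_towerEquiv R (Localization.Away f) S A
  obtain ⟨U₁, -⟩ := exists_towerEquiv R p.ResidueField K₁ A
  obtain ⟨d₁, -⟩ := exists_diag_map j₁ (U₁.trans e₁)
  obtain ⟨d₂, -⟩ := exists_diag_map j₂ (U.trans e)
  obtain ⟨σM⟩ := nonempty_mulEquiv_of_bialgEquiv (d₂.symm.trans d₁)
  obtain ⟨τ⟩ := exists_domainCongr S (σM.trans MulEquiv.ulift)
  exact ⟨S, inferInstance, inferInstance, hff, n, ⟨e.trans τ⟩⟩

end Groth.Agent.H83.Quasi
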