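import Groth.Agent.H83.Quasi.Spread

/-! Multiplicative type is a local property, for algebras of finite presentation. -/

set_option autoImplicit false

universe u

open TensorProduct

namespace Groth.Agent.H83.Quasi

open MultType

set_option maxHeartbeats 1600000 in
set_option synthInstance.maxHeartbeats 200000 in
/-- Multiplicative type over a local ring gives a quasi-isotrivial neighbourhood of its point. -/
theorem exists_quasiConst_of_local {R : Type u} [CommRing R] {A : Type u} [CommRing A] [HopfAlgebra R A]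
    (hfp : Algebra.FinitePresentation R A) (p : Ideal R) [p.IsPrime]
    (h : SGA3b.IsMultType (Localization.AtPrime p) (Localization.AtPrime p ⊗[R] A)) :
    ∃ f : R, f ∉ p ∧ SGA3b.IsQuasiIsotrivialConst (Localization.Away f) (Localization.Away f ⊗[R] A) := by
  classical
  let Rp := Localization.AtPrime p
  obtain ⟨s, hs, hc⟩ := h
  obtain ⟨f₀, hf₀, hf₀u⟩ : ∃ f₀ ∈ s, f₀ ∉ IsLocalRing.maximalIdeal Rp := by
    by_contra hn
    simp only [not_exists, not_and, not_not] at hn
    exact (IsLocalRing.maximalIdeal.isMaximal Rp).ne_top (top_le_iff.mp (hs ▸ Ideal.span_le.mpr hn))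
  have hf₀' : IsUnit f₀ := by_contra fun hn => hf₀u ((IsLocalRing.mem_maximalIdeal _).mpr hn)
  obtain ⟨S, _, _, hff, M, _, ⟨e⟩⟩ := hc f₀ hf₀
  letI : Algebra Rp S := Algebra.compHom S (algebraMap Rp (Localization.Away f₀))
  haveI : IsScalarTower Rp (Localization.Away f₀) S := IsScalarTower.of_algebraMap_eq (R := Rp) (S := Localization.Away f₀) (A := S) fun _ => rfl
  haveI : Module.FaithfullyFlat (Localization.Away f₀) S := hff
  haveI : Module.FaithfullyFlat Rp (Localization.Away f₀) :=
    Module.FaithfullyFlat.of_linearEquiv Rp Rp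
      (IsLocalization.atUnit Rp (Localization.Away f₀) f₀ hf₀').toLinearEquiv.symm
  haveI : Module.FaithfullyFlat Rp S := Module.FaithfullyFlat.trans Rp (Localization.Away f₀) S
  obtain ⟨U, -⟩ := exists_towerEquiv Rp (Localization.Away f₀) S (Rp ⊗[R] A)
  haveI := hfp
  obtain ⟨E, _, _, _, Q, hQ, hQp, M', _, ⟨d⟩⟩ := exists_etale_nhd_diag (inferInstance : Algebra.FiniteType Rp (Rp ⊗[R] A))
    (U.trans e) (IsLocalRing.maximalIdeal Rp)
  haveI := hQ
  letI : Algebra R E := Algebra.compHom E (algebraMap R Rp)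
  haveI : IsScalarTower R Rp E := IsScalarTower.of_algebraMap_eq fun _ => rfl
  let L := Localization.AtPrime Q
  obtain ⟨R', _, _, _, j, hj, hjs⟩ := exists_etale_model p E Q
  haveI : Nontrivial E := nontrivial_of_ne 0 1 fun h0 => hQ.ne_top ((Ideal.eq_top_iff_one Q).mpr (h0 ▸ Q.zero_mem))
  haveI : Group.FG M' := fg_of_finiteType (inferInstance : Algebra.FiniteType Rp (Rp ⊗[R] A)) d
  obtain ⟨UE, -⟩ := exists_towerEquiv R Rp E A
  obtain ⟨dL, -⟩ := exists_diag_map (IsScalarTower.toAlgHom R E L) (UE.trans d)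
  letI : Algebra R' L := j.toRingHom.toAlgebra
  haveI : IsScalarTower R R' L := IsScalarTower.of_algebraMap_eq fun r => (j.commutes r).symm
  haveI : Module.Flat R' L := hj
  haveI : Algebra.FinitePresentation R' (R' ⊗[R] A) := inferInstance
  obtain ⟨UL, -⟩ := exists_towerEquiv R R' L A
  obtain ⟨R'', _, _, _, q, hq, hdiag⟩ := exists_diag_spread (inferInstance : Algebra.FinitePresentation R' (R' ⊗[R] A))
    (L := L) hjs (UL.symm.trans dL)
  letI : Algebra R R'' := Algebra.compHom R'' (algebraMap R R')
  haveI : IsScalarTower R R' R'' := IsScalarTower.of_algebraMap_eq fun _ => rfl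
  haveI : Algebra.Etale R R'' := Algebra.Etale.comp R R' R''
  obtain ⟨U'', -⟩ := exists_towerEquiv R R' R'' A
  obtain ⟨M'', _, ⟨e''⟩⟩ := hdiag
  obtain ⟨f, hf, hconst⟩ := exists_quasiConst_of_point (R' := R'') (A := A) ⟨M'', inferInstance, ⟨U''.trans e''⟩⟩ q
  refine ⟨f, ?_, hconst⟩
  have hcomap : (PrimeSpectrum.comap (algebraMap R R'') q).asIdeal = p := by
    have hloc : RingHom.ker (IsLocalRing.residue L) = IsLocalRing.maximalIdeal L := IsLocalRing.ker_residue
    have hQc : (IsLocalRing.maximalIdeal L).comap (algebraMap E L) = Q :=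
      IsLocalization.AtPrime.under_maximalIdeal L Q
    rw [IsScalarTower.algebraMap_eq R R' R'', PrimeSpectrum.comap_comp_apply, PrimeSpectrum.comap_asIdeal, hq,
      ← RingHom.comap_ker, Ideal.comap_comap, ← IsScalarTower.algebraMap_eq, hloc, IsScalarTower.algebraMap_eq R E L,
      ← Ideal.comap_comap, hQc, IsScalarTower.algebraMap_eq R Rp E, ← Ideal.comap_comap, hQp]
    exact IsLocalization.AtPrime.under_maximalIdeal Rp p
  rwa [hcomap] at hf

/-- An algebra of finite presentation of multiplicative type at every point is of multiplicative type. -/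
theorem isMultType_of_local {R : Type u} [CommRing R] {A : Type u} [CommRing A] [HopfAlgebra R A]
    (hfp : Algebra.FinitePresentation R A)
    (h : ∀ (p : Ideal R) [p.IsPrime], SGA3b.IsMultType (Localization.AtPrime p) (Localization.AtPrime p ⊗[R] A)) :
    SGA3b.IsMultType R A := by
  refine ⟨{f | SGA3b.IsMultTypeConst (Localization.Away f) (Localization.Away f ⊗[R] A)}, ?_, fun f hf => hf⟩
  by_contra hne
  obtain ⟨p, hp, hle⟩ := Ideal.exists_le_maximal _ hne
  haveI := hp.isPrime
  obtain ⟨f, hf, R', _, _, -, hff, hd⟩ := exists_quasiConst_of_local hfp p (h p)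
  exact hf (hle (Ideal.subset_span ⟨R', inferInstance, inferInstance, hff, hd⟩))

end Groth.Agent.H83.Quasi
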