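import Groth.Agent.H83.Quasi.Main
import Groth.Agent.H83.Quasi.PairMain
import Groth.Agent.Lib.Unram.Compositum
import Groth.Agent.Lib.OT67.SplitMult

/-! Groups of multiplicative type over a normal domain are isotrivial. -/

set_option autoImplicit false

universe u

open TensorProduct

namespace Groth.Agent.H83.Quasi

open MultType

set_option maxHeartbeats 1600000 in
set_option synthInstance.maxHeartbeats 200000 in
/-- Over a domain a group of multiplicative type has the type of its generic fibre. -/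
theorem exists_global_chart_domain {R : Type u} [CommRing R] [IsDomain R] {A : Type u} [CommRing A] [HopfAlgebra R A]
    (h : SGA3b.IsMultType R A) {F : Type u} [Field F] [Algebra R F] (hF : Function.Injective (algebraMap R F))
    {M₀ : Type u} [CommGroup M₀] (e₀ : (F ⊗[R] A) ≃ₐc[F] MonoidAlgebra F M₀) :
    ∃ (S : Type u) (_ : CommRing S) (_ : Algebra R S) (M : Type u) (_ : CommGroup M),
      Module.FaithfullyFlat R S ∧ Nonempty ((S ⊗[R] A) ≃ₐc[S] MonoidAlgebra S M) := by
  classical
  obtain ⟨s₀, hs₀, hc⟩ := h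
  obtain ⟨s₁, hsub, hs₁⟩ := (Ideal.span_eq_top_iff_finite s₀).mp hs₀
  let s : Finset R := s₁.filter fun f => f ≠ 0
  have hs : ∀ p : Ideal R, p.IsPrime → ∃ f ∈ s, f ∉ p := by
    intro p hp
    by_contra hcon
    simp only [not_exists, not_and, not_not] at hcon
    refine hp.ne_top (top_le_iff.mp (hs₁ ▸ Ideal.span_le.mpr fun f hf => ?_))
    by_cases hf0 : f = 0
    · rw [hf0]; exact zero_mem _
    · exact hcon f (Finset.mem_filter.mpr ⟨hf, hf0⟩)
  have hloc : ∀ f : {f // f ∈ s}, ∃ (S : Type u) (_ : CommRing S) (_ : Algebra R S), Module.Flat R S ∧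
      (∀ p : PrimeSpectrum R, f.1 ∉ p.asIdeal → p ∈ Set.range (PrimeSpectrum.comap (algebraMap R S))) ∧
      Nonempty ((S ⊗[R] A) ≃ₐc[S] MonoidAlgebra S M₀) := by
    rintro ⟨f, hf⟩
    obtain ⟨hf₁, hf0⟩ := Finset.mem_filter.mp hf
    obtain ⟨S, _, _, hff, P, _, ⟨e⟩⟩ := hc f (hsub hf₁)
    let L := Localization.Away f
    haveI : Module.FaithfullyFlat L S := hff
    letI : Algebra R S := Algebra.compHom S (algebraMap R L)
    haveI : IsScalarTower R L S := IsScalarTower.of_algebraMap_eq fun _ => rfl
    obtain ⟨T, -⟩ := exists_towerEquiv R L S A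
    have hrange : ∀ p : PrimeSpectrum R, f ∉ p.asIdeal → p ∈ Set.range (PrimeSpectrum.comap (algebraMap R S)) := by
      intro p hp
      obtain ⟨p', rfl⟩ : p ∈ Set.range (PrimeSpectrum.comap (algebraMap R L)) := by
        rw [PrimeSpectrum.localization_away_comap_range L f]; exact hp
      obtain ⟨q, rfl⟩ := PrimeSpectrum.comap_surjective_of_faithfullyFlat (B := S) p'
      exact ⟨q, by rw [IsScalarTower.algebraMap_eq R L S, PrimeSpectrum.comap_comp_apply]⟩
    obtain ⟨q, hq⟩ := hrange ⟨⊥, Ideal.isPrime_bot⟩ hf0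
    let K := q.asIdeal.ResidueField
    -- a field over both the residue field and the generic point
    have hinjK : Function.Injective (algebraMap R K) := by
      rw [injective_iff_map_eq_zero]
      intro r hr
      rw [IsScalarTower.algebraMap_apply R S K, Ideal.algebraMap_residueField_eq_zero] at hr
      have h1 : r ∈ (PrimeSpectrum.comap (algebraMap R S) q).asIdeal := hr
      rw [hq] at h1
      exact h1
    letI : Algebra (FractionRing R) K := (IsFractionRing.lift hinjK).toAlgebra
    letI : Algebra (FractionRing R) F := (IsFractionRing.lift hF).toAlgebra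
    haveI : IsScalarTower R (FractionRing R) K := IsScalarTower.of_algebraMap_eq fun r => (IsFractionRing.lift_algebraMap hinjK r).symm
    haveI : IsScalarTower R (FractionRing R) F := IsScalarTower.of_algebraMap_eq fun r => (IsFractionRing.lift_algebraMap hF r).symm
    obtain ⟨mx, hmx⟩ := Ideal.exists_maximal (K ⊗[FractionRing R] F)
    let Ω := (K ⊗[FractionRing R] F) ⧸ mx
    letI : Field Ω := Ideal.Quotient.field mx
    let gK : K →ₐ[R] Ω := (Ideal.Quotient.mkₐ R mx).comp
      ((Algebra.TensorProduct.includeLeft : K →ₐ[FractionRing R] K ⊗[FractionRing R] F).restrictScalars R)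
    let gF : F →ₐ[R] Ω := (Ideal.Quotient.mkₐ R mx).comp
      ((Algebra.TensorProduct.includeRight : F →ₐ[FractionRing R] K ⊗[FractionRing R] F).restrictScalars R)
    obtain ⟨eP, -⟩ := exists_diag_map (gK.comp (IsScalarTower.toAlgHom R S K)) (T.trans e)
    obtain ⟨eM, -⟩ := exists_diag_map gF e₀
    obtain ⟨μ⟩ := nonempty_mulEquiv_of_bialgEquiv (eP.symm.trans eM)
    let up : MonoidAlgebra S P →ₐc[S] MonoidAlgebra S M₀ := MonoidAlgebra.mapDomainBialgHom S μ.toMonoidHom
    have hup : Function.Bijective up := by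
      refine Function.bijective_iff_has_inverse.mpr ⟨MonoidAlgebra.mapDomainBialgHom S μ.symm.toMonoidHom, fun x => ?_, fun x => ?_⟩
      · rw [MonoidAlgebra.mapDomainBialgHom_mapDomainBialgHom, show μ.symm.toMonoidHom.comp μ.toMonoidHom = MonoidHom.id P from
          MonoidHom.ext fun a => μ.symm_apply_apply a, MonoidAlgebra.mapDomainBialgHom_id]
        rfl
      · rw [MonoidAlgebra.mapDomainBialgHom_mapDomainBialgHom, show μ.toMonoidHom.comp μ.symm.toMonoidHom = MonoidHom.id M₀ from
          MonoidHom.ext fun a => μ.apply_symm_apply a, MonoidAlgebra.mapDomainBialgHom_id]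
        rfl
    exact ⟨S, inferInstance, inferInstance, Module.Flat.trans R L S, hrange,
      ⟨(T.trans e).trans (BialgEquiv.ofBijective up hup)⟩⟩
  choose S cS aS hflat hrange hdiag using hloc
  obtain ⟨M, cM, ⟨e⟩⟩ := exists_pi_diag (S := S) fun i => (hdiag i).some
  haveI : Module.Flat R (Π i, S i) := Module.Flat.of_linearEquiv
    (DirectSum.linearEquivFunOnFintype R {f // f ∈ s} S).symm
  haveI : Module.FaithfullyFlat R (Π i, S i) := by
    refine Module.FaithfullyFlat.of_comap_surjective fun p => ?_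
    obtain ⟨f, hf, hfp⟩ := hs p.asIdeal p.isPrime
    obtain ⟨q, hq⟩ := hrange ⟨f, hf⟩ p hfp
    refine ⟨PrimeSpectrum.comap (Pi.evalRingHom S ⟨f, hf⟩) q, ?_⟩
    rw [← hq, ← PrimeSpectrum.comap_comp_apply]
    rfl
  exact ⟨Π i, S i, inferInstance, inferInstance, M, cM, inferInstance, ⟨e⟩⟩

/-- A change of coefficients on which the two inclusions agree descends along an extension of fields. -/
theorem mem_range_of_equalizer {R : Type u} [CommRing R] {A : Type u} [CommRing A] [HopfAlgebra R A]
    {F Ω : Type u} [Field F] [Algebra R F] [Field Ω] [Algebra R Ω] [Algebra F Ω] [IsScalarTower R F Ω] {X : Ω ⊗[R] A}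
    (h : coeffMap ((Algebra.TensorProduct.includeLeft : Ω →ₐ[F] Ω ⊗[F] Ω).restrictScalars R) X =
      coeffMap ((Algebra.TensorProduct.includeRight : Ω →ₐ[F] Ω ⊗[F] Ω).restrictScalars R) X) :
    ∃ z : F ⊗[R] A, coeffMap (IsScalarTower.toAlgHom R F Ω) z = X := by
  classical
  obtain ⟨lam, hlam⟩ : ∃ lam : Ω →ₗ[F] F, lam 1 = 1 := by
    obtain ⟨g, hg⟩ := (LinearMap.toSpanSingleton F Ω 1).exists_leftInverse_of_injective
      (LinearMap.ker_eq_bot.mpr (smul_left_injective F one_ne_zero))
    exact ⟨g, by simpa using LinearMap.congr_fun hg 1⟩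
  refine ⟨(lam.restrictScalars R).rTensor A X, ?_⟩
  let Λ : (Ω ⊗[F] Ω) →ₗ[F] Ω := (TensorProduct.rid F Ω).toLinearMap ∘ₗ LinearMap.lTensor Ω lam
  have h1 : ∀ Y : Ω ⊗[R] A, (Λ.restrictScalars R).rTensor A
      (coeffMap ((Algebra.TensorProduct.includeLeft : Ω →ₐ[F] Ω ⊗[F] Ω).restrictScalars R) Y) = Y := by
    intro Y
    induction Y using TensorProduct.induction_on with
    | zero => simp
    | tmul w a => simp [Λ, coeffMap_tmul, hlam]
    | add a b ha hb => simp only [map_add, ha, hb]
  have h2 : ∀ Y : Ω ⊗[R] A, (Λ.restrictScalars R).rTensor A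
      (coeffMap ((Algebra.TensorProduct.includeRight : Ω →ₐ[F] Ω ⊗[F] Ω).restrictScalars R) Y) =
      coeffMap (IsScalarTower.toAlgHom R F Ω) ((lam.restrictScalars R).rTensor A Y) := by
    intro Y
    induction Y using TensorProduct.induction_on with
    | zero => simp
    | tmul w a => simp [Λ, coeffMap_tmul, Algebra.smul_def]
    | add a b ha hb => simp only [map_add, ha, hb]
  rw [← h2, ← h, h1]

set_option maxHeartbeats 1600000 in
set_option synthInstance.maxHeartbeats 200000 in
/-- A rational character set on which a finite level is constant is rational. -/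
theorem exists_descend {R : Type u} [CommRing R] {A : Type u} [CommRing A] [HopfAlgebra R A] [Module.Flat R A]
    {R' F'' Ω : Type u} [CommRing R'] [Algebra R R'] [Field F''] [Algebra R F''] [Algebra R' F''] [IsScalarTower R R' F'']
    [Field Ω] [Algebra R Ω] [Algebra F'' Ω] [IsScalarTower R F'' Ω]
    {M₀ : Type u} [CommGroup M₀] (e : (Ω ⊗[R] A) ≃ₐc[Ω] MonoidAlgebra Ω M₀) (W : Set A) (T : Finset M₀)
    (hW : ∀ w ∈ W, ∀ p ∉ T, coeffAt Ω p (e ((1 : Ω) ⊗ₜ[R] w)) = 0) (N : ℕ)
    (hT : Set.InjOn (QuotientGroup.mk : M₀ → M₀ ⧸ (powMonoidHom N : M₀ →* M₀).range) T) (J : Ideal A) [J.IsHopfIdeal R]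
    (hJ : J = SGA3b.torsionIdeal R A N) {Q : Type u} [CommGroup Q] (eQ : (R' ⊗[R] (A ⧸ J)) ≃ₐc[R'] MonoidAlgebra R' Q)
    {X : Ω ⊗[R] A} (hX : IsGroupLikeElem Ω X) (hXW : X ∈ Submodule.span Ω ((fun w => (1 : Ω) ⊗ₜ[R] w) '' W)) :
    ∃ z : F'' ⊗[R] A, IsGroupLikeElem F'' z ∧ coeffMap (IsScalarTower.toAlgHom R F'' Ω) z = X := by
  classical
  let l : Ω →ₐ[R] Ω ⊗[F''] Ω := (Algebra.TensorProduct.includeLeft : Ω →ₐ[F''] Ω ⊗[F''] Ω).restrictScalars R
  let r : Ω →ₐ[R] Ω ⊗[F''] Ω := (Algebra.TensorProduct.includeRight : Ω →ₐ[F''] Ω ⊗[F''] Ω).restrictScalars R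
  let i : R' →ₐ[R] Ω := (IsScalarTower.toAlgHom R F'' Ω).comp (IsScalarTower.toAlgHom R R' F'')
  have hlr : l.comp i = r.comp i := AlgHom.ext fun x =>
    ((Algebra.TensorProduct.includeLeft : Ω →ₐ[F''] Ω ⊗[F''] Ω).commutes (algebraMap R' F'' x)).trans
      ((Algebra.TensorProduct.includeRight : Ω →ₐ[F''] Ω ⊗[F''] Ω).commutes (algebraMap R' F'' x)).symm
  obtain ⟨eQΩ, heQΩ⟩ := exists_diag_map i eQ
  obtain ⟨c, hc⟩ := groupLike_eq_single ((groupLike_quotMap J hX).map eQΩ)
  have hπ : quotMap J Ω X = coeffMap i (eQ.symm (MonoidAlgebra.single c 1)) := by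
    apply EquivLike.injective eQΩ
    rw [hc, heQΩ, show eQ (eQ.symm (MonoidAlgebra.single c 1)) = _ from eQ.apply_symm_apply _, coeffGroup_single, map_one]
  obtain ⟨eE, heE⟩ := exists_diag_map l e
  obtain ⟨EE, hEE⟩ := exists_quotEquiv eE N J hJ
  have hsupp : ∀ v ∈ Submodule.span (Ω ⊗[F''] Ω) ((fun w => (1 : Ω ⊗[F''] Ω) ⊗ₜ[R] w) '' W), ∀ p ∉ T,
      coeffAt (Ω ⊗[F''] Ω) p (eE v) = 0 := by
    intro v hv p hp
    induction hv using Submodule.span_induction with
    | mem v hv =>
      obtain ⟨w, hw, rfl⟩ := hv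
      show coeffAt (Ω ⊗[F''] Ω) p (eE ((1 : Ω ⊗[F''] Ω) ⊗ₜ[R] w)) = 0
      rw [show (1 : Ω ⊗[F''] Ω) ⊗ₜ[R] w = coeffMap l ((1 : Ω) ⊗ₜ[R] w) by rw [coeffMap_tmul, map_one], heE,
        coeffAt_coeffGroup, hW w hw p hp, map_zero]
    | zero => simp
    | add a b _ _ ha hb => simp only [map_add, ha, hb, add_zero]
    | smul r a _ ha => rw [map_smul, map_smul, ha, smul_zero]
  have heq : coeffMap l X = coeffMap r X := by
    apply EquivLike.injective eE
    refine eq_of_modPow N T hT (hsupp _ (coeffMap_mem_span l W hXW)) (hsupp _ (coeffMap_mem_span r W hXW)) ?_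
    rw [← hEE, ← hEE, ← quotMap_coeffMap, ← quotMap_coeffMap, hπ, coeffMap_comp, coeffMap_comp, hlr]
  obtain ⟨z, hz⟩ := mem_range_of_equalizer heq
  refine ⟨z, groupLike_of_coeffMap _ (algebraMap F'' Ω).injective (by rw [hz]; exact hX), hz⟩

set_option maxHeartbeats 1600000 in
set_option synthInstance.maxHeartbeats 200000 in
/-- Diagonalisable generic fibre over a normal domain. -/
theorem isDiag_of_generic {R : Type u} [CommRing R] [IsDomain R] [IsIntegrallyClosed R] {A : Type u} [CommRing A]
    [HopfAlgebra R A] (hft : Algebra.FiniteType R A) (h : SGA3b.IsMultType R A) {F : Type u} [Field F] [Algebra R F]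
    [IsFractionRing R F] {M₀ : Type u} [CommGroup M₀] (e₀ : (F ⊗[R] A) ≃ₐc[F] MonoidAlgebra F M₀) :
    SGA3b.IsDiag R A := by
  classical
  obtain ⟨S, _, _, M, _, hff, ⟨e⟩⟩ := exists_global_chart_domain h (IsFractionRing.injective R F) e₀
  haveI := flat_of_equiv S e
  haveI : Nontrivial S := (FaithfulSMul.algebraMap_injective R S).nontrivial
  haveI := fg_of_finiteType hft e
  haveI : Algebra.FiniteType F (F ⊗[R] A) := by haveI := hft; infer_instance
  obtain ⟨T₀, -⟩ := exists_towerEquiv R F F A
  haveI : Group.FG M₀ := fg_of_finiteType (inferInstance : Algebra.FiniteType F (F ⊗[R] A)) (T₀.symm.trans e₀)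
  haveI := finitePresentation_monoidAlgebra R M₀
  haveI := finitePresentation_monoidAlgebra S M
  haveI : Algebra.FinitePresentation S (S ⊗[R] A) := Algebra.FinitePresentation.equiv e.toAlgEquiv.symm
  haveI : Algebra.FinitePresentation R A := Algebra.FinitePresentation.of_finitePresentation_tensorProduct_of_faithfullyFlat S
  have hinjA : Function.Injective fun a : A => (1 : F) ⊗ₜ[R] a := by
    intro a b hab
    have h1 : ((1 : F) ⊗ₜ[R] (a - b)) = 0 := by rw [TensorProduct.tmul_sub]; exact sub_eq_zero.mpr hab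
    obtain ⟨⟨d, hd⟩, hdab⟩ := (IsLocalizedModule.eq_zero_iff (nonZeroDivisors R) (TensorProduct.mk R F A 1)).mp h1
    have hinj := Module.Flat.rTensor_preserves_injective_linearMap (M := A) (LinearMap.mulLeft R d)
      (mul_right_injective₀ (nonZeroDivisors.ne_zero hd))
    have h2 : (LinearMap.mulLeft R d).rTensor A ((1 : R) ⊗ₜ[R] (a - b)) = (LinearMap.mulLeft R d).rTensor A 0 := by
      rw [map_zero, LinearMap.rTensor_tmul, LinearMap.mulLeft_apply, mul_one, ← mul_one d, ← smul_eq_mul,
        TensorProduct.smul_tmul, show d • (a - b) = 0 from hdab, TensorProduct.tmul_zero]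
    have h3 := congrArg (TensorProduct.lid R A) (hinj h2)
    rw [map_zero, TensorProduct.lid_tmul, one_smul, sub_eq_zero] at h3
    exact h3
  -- an etale local domain at every maximal ideal over which the group is diagonalisable
  have hloc : ∀ m : Ideal R, m.IsMaximal → ∃ (C : Type u) (_ : CommRing C) (_ : Algebra R C) (_ : Module.Flat R C)
      (_ : IsLocalRing C) (L : Type u) (_ : Field L) (_ : Algebra R L) (ι : C →ₐ[R] L) (_ : F →ₐ[R] L)
      (K : Type u) (_ : Field K) (ρ : C →+* K) (P : Type u) (_ : CommGroup P) (_ : (C ⊗[R] A) ≃ₐc[C] MonoidAlgebra C P),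
        Function.Injective ι ∧ ∀ g : R, g ∈ m → ρ (algebraMap R C g) = 0 := by
    intro m hm
    haveI := hm.isPrime
    obtain ⟨R₁, _, _, _, q, hq, hqm, P, _, ⟨eP⟩⟩ := exists_etale_nhd_diag hft e m
    haveI := hq
    let C := Localization.AtPrime q
    haveI : IsDomain C := (Lib.FEt.NormalAlg.normal_localization (R := R) R₁ q C).1
    haveI : Module.Flat R C := Module.Flat.trans R R₁ C
    let L := FractionRing C
    haveI : FaithfulSMul R C := by
      rw [faithfulSMul_iff_algebraMap_injective, injective_iff_map_eq_zero]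
      intro a ha
      by_contra hne
      have hinj := Module.Flat.lTensor_preserves_injective_linearMap (M := C) (LinearMap.mulLeft R a)
        (mul_right_injective₀ hne)
      have h1 : LinearMap.lTensor C (LinearMap.mulLeft R a) ((1 : C) ⊗ₜ[R] 1) = LinearMap.lTensor C (LinearMap.mulLeft R a) 0 := by
        rw [map_zero, LinearMap.lTensor_tmul, LinearMap.mulLeft_apply, ← smul_eq_mul, ← TensorProduct.smul_tmul,
          Algebra.smul_def, mul_one, ha, TensorProduct.zero_tmul]
      have h2 := congrArg (TensorProduct.rid R C) (hinj h1)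
      rw [map_zero, TensorProduct.rid_tmul, one_smul] at h2
      exact one_ne_zero h2
    have hRL : Function.Injective (algebraMap R L) := by
      rw [IsScalarTower.algebraMap_eq R C L]
      exact (IsFractionRing.injective C L).comp (FaithfulSMul.algebraMap_injective R C)
    obtain ⟨eC, -⟩ := exists_diag_map (IsScalarTower.toAlgHom R R₁ C) eP
    refine ⟨C, inferInstance, inferInstance, inferInstance, inferInstance, L, inferInstance, inferInstance,
      IsScalarTower.toAlgHom R C L, IsFractionRing.liftAlgHom (g := Algebra.ofId R L) hRL, IsLocalRing.ResidueField C,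
      inferInstance, IsLocalRing.residue C, P, inferInstance, eC, IsFractionRing.injective C L, fun g hg => ?_⟩
    rw [IsLocalRing.residue_eq_zero_iff]
    rw [IsScalarTower.algebraMap_apply R R₁ C, IsLocalization.AtPrime.to_map_mem_maximal_iff C q, ← Ideal.mem_comap, hqm]
    exact hg
  have hlift : ∀ p : M₀, ∃ w : A, IsGroupLikeElem R w ∧ e₀ ((1 : F) ⊗ₜ[R] w) = MonoidAlgebra.single p 1 := by
    intro p
    let z := e₀.symm (MonoidAlgebra.single p 1)
    have hz : IsGroupLikeElem F z := (groupLike_single p).map e₀.symm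
    obtain ⟨⟨a, ⟨d, hd⟩⟩, hda⟩ := IsLocalizedModule.surj (nonZeroDivisors R) (TensorProduct.mk R F A 1) z
    change d • z = (1 : F) ⊗ₜ[R] a at hda
    have hmem : a ∈ LinearMap.range (LinearMap.lsmul R A d) := by
      refine mem_of_forall_maximal _ fun m hm => ?_
      obtain ⟨C, _, _, _, _, L, _, _, ι, j, K, _, ρ, P, _, eC, hι, hρ⟩ := hloc m hm
      obtain ⟨eL, heL⟩ := exists_diag_map ι eC
      obtain ⟨q, hq⟩ := groupLike_eq_single ((groupLike_coeffMap j hz).map eL)
      let γ := eC.symm (MonoidAlgebra.single q 1)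
      have hγ : coeffMap ι γ = coeffMap j z := by
        apply EquivLike.injective eL
        rw [heL, hq, show eC γ = _ from eC.apply_symm_apply _, coeffGroup_single, map_one]
      have hinjι : Function.Injective (coeffMap (A := A) ι) :=
        Module.Flat.rTensor_preserves_injective_linearMap (M := A) ι.toLinearMap hι
      have h1 : (1 : C) ⊗ₜ[R] a = d • γ := hinjι (by
        rw [coeffMap_tmul, map_one, show coeffMap ι (d • γ) = d • coeffMap ι γ from (coeffMap ι).toLinearMap.map_smul d γ, hγ,
          ← show coeffMap j (d • z) = d • coeffMap j z from (coeffMap j).toLinearMap.map_smul d z, hda, coeffMap_tmul, map_one])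
      obtain ⟨g, hg, hga⟩ := exists_smul_mem ρ (LinearMap.range (LinearMap.lsmul R A d)) (z := a) (by
        rw [h1]
        generalize γ = v
        induction v using TensorProduct.induction_on with
        | zero => simp
        | add b c hb hc => rw [smul_add]; exact add_mem hb hc
        | tmul s b =>
          rw [← TensorProduct.tmul_smul, show s ⊗ₜ[R] (d • b) = s • ((1 : C) ⊗ₜ[R] (d • b)) by
            rw [TensorProduct.smul_tmul', smul_eq_mul, mul_one]]
          exact Submodule.smul_mem _ _ (Submodule.subset_span ⟨d • b, ⟨b, rfl⟩, rfl⟩))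
      exact ⟨g, fun hgm => hg (hρ g hgm), hga⟩
    obtain ⟨w, hw⟩ := hmem
    have hwz : (1 : F) ⊗ₜ[R] w = z := by
      have hdu : IsUnit (algebraMap R F d) := IsLocalization.map_units F (⟨d, hd⟩ : nonZeroDivisors R)
      apply hdu.smul_left_cancel.mp
      rw [algebraMap_smul, algebraMap_smul, hda, ← TensorProduct.tmul_smul]
      exact congrArg _ hw
    refine ⟨w, ?_, by rw [hwz]; exact e₀.apply_symm_apply _⟩
    have hRF : Function.Injective (Algebra.ofId R F) := IsFractionRing.injective R F
    have h2 : IsGroupLikeElem R ((1 : R) ⊗ₜ[R] w) := groupLike_of_coeffMap (Algebra.ofId R F) hRF (by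
      rw [coeffMap_tmul, map_one, hwz]; exact hz)
    have h3 := h2.map (Bialgebra.TensorProduct.lid R A)
    rwa [Bialgebra.TensorProduct.lid_tmul, one_smul] at h3
  choose w hw hwe using hlift
  have huniq : ∀ {v : A} (p : M₀), e₀ ((1 : F) ⊗ₜ[R] v) = MonoidAlgebra.single p 1 → w p = v := fun p hv =>
    hinjA (EquivLike.injective e₀ ((hwe p).trans hv.symm))
  let χ : M₀ →* A :=
    { toFun := w
      map_one' := huniq 1 (by rw [← Algebra.TensorProduct.one_def, map_one]; rfl)
      map_mul' := fun a b => huniq (a * b) (by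
        rw [show (1 : F) ⊗ₜ[R] (w a * w b) = ((1 : F) ⊗ₜ[R] w a) * ((1 : F) ⊗ₜ[R] w b) by
          rw [Algebra.TensorProduct.tmul_mul_tmul, one_mul], map_mul, hwe, hwe, MonoidAlgebra.single_mul_single, mul_one]) }
  refine isDiag_of_bijective χ hw (bijective_of_away _ (s := {g | Function.Bijective (Algebra.TensorProduct.map
    (AlgHom.id (Localization.Away g) (Localization.Away g)) (MonoidAlgebra.lift R A M₀ χ))}) ?_ fun g hg => hg)
  by_contra hne
  obtain ⟨m, hm, hle⟩ := Ideal.exists_le_maximal _ hne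
  obtain ⟨C, _, _, _, _, L, _, _, ι, j, K, _, ρ, P, _, eC, hι, hρ⟩ := hloc m hm
  choose hmap hhmap using fun p => groupLike_eq_single ((groupLike_baseChange C (hw p)).map eC)
  obtain ⟨eL, heL⟩ := exists_diag_map ι eC
  obtain ⟨e₀L, he₀L⟩ := exists_diag_map j e₀
  have hL : ∀ p, eL (e₀L.symm (MonoidAlgebra.single p 1)) = MonoidAlgebra.single (hmap p) 1 := by
    intro p
    have h1 : e₀L (coeffMap j ((1 : F) ⊗ₜ[R] w p)) = MonoidAlgebra.single p 1 := by
      rw [he₀L, hwe, coeffGroup_single, map_one]
    rw [← h1, show e₀L.symm (e₀L (coeffMap j ((1 : F) ⊗ₜ[R] w p))) = _ from e₀L.symm_apply_apply _, coeffMap_tmul,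
      map_one, show (1 : L) ⊗ₜ[R] w p = coeffMap ι ((1 : C) ⊗ₜ[R] w p) by rw [coeffMap_tmul, map_one], heL, hhmap,
      coeffGroup_single, map_one]
  have hinj : Function.Injective hmap := fun a b hab => by
    have h1 := hL a
    rw [hab, ← hL b] at h1
    exact single_eq_single (EquivLike.injective e₀L.symm (EquivLike.injective eL h1))
  have hsurj : Function.Surjective hmap := by
    intro q
    by_contra hq
    simp only [not_exists] at hq
    have hall : ∀ y : MonoidAlgebra L M₀, coeffAt L q (eL (e₀L.symm y)) = 0 := by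
      intro y
      induction y using MonoidAlgebra.induction_linear with
      | zero => simp
      | add a b ha hb => simp only [map_add, ha, hb, add_zero]
      | single p r =>
        rw [show MonoidAlgebra.single p r = r • MonoidAlgebra.single p (1 : L) by rw [MonoidAlgebra.smul_single, smul_eq_mul, mul_one],
          map_smul, map_smul, hL, map_smul, coeffAt_single, if_neg (hq p), smul_zero]
    have h1 := hall (e₀L (eL.symm (MonoidAlgebra.single q 1)))
    rw [show e₀L.symm (e₀L (eL.symm (MonoidAlgebra.single q 1))) = _ from e₀L.symm_apply_apply _,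
      show eL (eL.symm (MonoidAlgebra.single q 1)) = _ from eL.apply_symm_apply _, coeffAt_single, if_pos rfl] at h1
    exact one_ne_zero h1
  have hCbij : Function.Bijective (Algebra.TensorProduct.map (AlgHom.id C C) (MonoidAlgebra.lift R A M₀ χ)) := by
    have h1 : (eC : (C ⊗[R] A) → MonoidAlgebra C P) ∘ Algebra.TensorProduct.map (AlgHom.id C C) (MonoidAlgebra.lift R A M₀ χ) ∘
        (MonoidAlgebra.scalarTensorEquiv R C (M := M₀)).symm = MonoidAlgebra.mapDomain hmap := by
      funext y
      simp only [Function.comp_apply]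
      induction y using MonoidAlgebra.induction_linear with
      | zero => simp
      | add a b ha hb => simp only [map_add, MonoidAlgebra.mapDomain_add, ha, hb]
      | single p r =>
        have h0 : Algebra.TensorProduct.map (AlgHom.id C C) (MonoidAlgebra.lift R A M₀ χ)
            ((MonoidAlgebra.scalarTensorEquiv R C).symm (MonoidAlgebra.single p r)) = r • ((1 : C) ⊗ₜ[R] w p) := by
          simp [χ, TensorProduct.smul_tmul']
        rw [h0, map_smul, hhmap, MonoidAlgebra.smul_single, smul_eq_mul, mul_one, MonoidAlgebra.mapDomain_single]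
    have h2 : Function.Bijective (MonoidAlgebra.mapDomain hmap : MonoidAlgebra C M₀ → MonoidAlgebra C P) := by
      refine ⟨MonoidAlgebra.mapDomain_injective hinj, fun y => ?_⟩
      induction y using MonoidAlgebra.induction_linear with
      | zero => exact ⟨0, by simp⟩
      | add a b ha hb =>
        obtain ⟨x, rfl⟩ := ha
        obtain ⟨v, rfl⟩ := hb
        exact ⟨x + v, MonoidAlgebra.mapDomain_add _ _ _⟩
      | single q r =>
        obtain ⟨p, rfl⟩ := hsurj q
        exact ⟨MonoidAlgebra.single p r, MonoidAlgebra.mapDomain_single⟩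
    rw [← h1] at h2
    exact (Function.Bijective.of_comp_iff _ (MonoidAlgebra.scalarTensorEquiv R C (M := M₀)).symm.bijective).mp
      ((Function.Bijective.of_comp_iff' (EquivLike.bijective eC) _).mp h2)
  obtain ⟨g, hg, hbij⟩ := exists_bijective_away (MonoidAlgebra.lift R A M₀ χ) ρ hCbij
  exact hg (hρ g (hle (Ideal.subset_span hbij)))

end Groth.Agent.H83.Quasi
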