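import Groth.Agent.H83.Quasi.Normal
import Groth.Agent.S2969

/-! Isotriviality over a normal domain. -/

set_option autoImplicit false

universe u

open TensorProduct

namespace Groth.Agent.H83.Quasi

open MultType

theorem connectedSpace_of_domain (R : Type u) [CommRing R] [IsDomain R] : ConnectedSpace (PrimeSpectrum R) := by
  haveI : Nonempty (PrimeSpectrum R) := ⟨⟨⊥, Ideal.isPrime_bot⟩⟩
  exact inferInstance

set_option maxHeartbeats 1600000 in
set_option synthInstance.maxHeartbeats 200000 in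
/-- A finite level gives a finite etale domain over a normal domain. -/
theorem exists_level_domain {R : Type u} [CommRing R] [IsDomain R] [IsIntegrallyClosed R] {B : Type u} [CommRing B]
    [HopfAlgebra R B] [Module.Finite R B] (h : SGA3b.IsMultType R B) :
    ∃ (R' : Type u) (_ : CommRing R') (_ : Algebra R R') (_ : IsDomain R') (_ : IsIntegrallyClosed R')
      (Q : Type u) (_ : CommGroup Q), Algebra.Etale R R' ∧ Module.Finite R R' ∧ Module.FaithfullyFlat R R' ∧
        Nonempty ((R' ⊗[R] B) ≃ₐc[R'] MonoidAlgebra R' Q) := by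
  classical
  haveI := connectedSpace_of_domain R
  haveI := Lib.OT67.MultFinite.isCocomm h
  haveI := Lib.OT67.MultFinite.projective h
  haveI := Lib.OT67.MultFinite.etale_dual h
  obtain ⟨T, _, _, _, _, _, Q, _, ⟨e⟩⟩ := Lib.OT67.SplitMult.isIsotrivial_of_etale_dual (R := R) B
  obtain ⟨P, hP⟩ := PrimeSpectrum.comap_surjective_of_faithfullyFlat (B := T) (⟨⊥, Ideal.isPrime_bot⟩ : PrimeSpectrum R)
  have hP0 : P.asIdeal.comap (algebraMap R T) = ⊥ := congrArg PrimeSpectrum.asIdeal hP
  let R' := T ⧸ P.asIdeal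
  haveI : Algebra.Etale R R' := Lib.Unram.Compositum.etale_quotient (R := R) P.asIdeal hP0
  haveI : Module.Finite R R' := inferInstance
  haveI : IsIntegrallyClosed R' := Lib.Unram.Compositum.isIntegrallyClosed_of_etale R R'
  haveI : Module.FaithfullyFlat R R' := by
    refine Module.FaithfullyFlat.of_comap_surjective fun p => ?_
    obtain ⟨q, hq, hqp⟩ := Ideal.exists_ideal_over_prime_of_isIntegral_of_isDomain (S := R') p.asIdeal (by
      intro r hr
      have h1 : algebraMap R T r ∈ P.asIdeal := by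
        rw [← Ideal.Quotient.eq_zero_iff_mem]
        exact hr
      have h2 : r ∈ P.asIdeal.comap (algebraMap R T) := h1
      rw [hP0] at h2
      rw [show r = 0 from h2]
      exact zero_mem _)
    exact ⟨⟨q, hq⟩, PrimeSpectrum.ext hqp⟩
  obtain ⟨e', -⟩ := exists_diag_map (IsScalarTower.toAlgHom R T R') e
  exact ⟨R', inferInstance, inferInstance, inferInstance, inferInstance, Q, inferInstance, inferInstance, inferInstance,
    inferInstance, ⟨e'⟩⟩

set_option maxHeartbeats 1600000 in
set_option synthInstance.maxHeartbeats 200000 in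
/-- Descended characters diagonalise. -/
theorem isDiag_of_descended {R : Type u} [CommRing R] {A : Type u} [CommRing A] [HopfAlgebra R A] [Module.Flat R A]
    {F Ω : Type u} [Field F] [Algebra R F] [Field Ω] [Algebra R Ω] [Algebra F Ω] [IsScalarTower R F Ω]
    {M₀ : Type u} [CommGroup M₀] (e : (Ω ⊗[R] A) ≃ₐc[Ω] MonoidAlgebra Ω M₀) (G : Set M₀) (hG : Subgroup.closure G = ⊤)
    (hdesc : ∀ g ∈ G, ∃ z : F ⊗[R] A, IsGroupLikeElem F z ∧
      coeffMap (IsScalarTower.toAlgHom R F Ω) z = e.symm (MonoidAlgebra.single g 1)) :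
    Nonempty ((F ⊗[R] A) ≃ₐc[F] MonoidAlgebra F M₀) := by
  classical
  let i : F →ₐ[R] Ω := IsScalarTower.toAlgHom R F Ω
  have hi : Function.Injective (coeffMap (A := A) i) := coeffMap_injective_field i
  let X : M₀ →* Ω ⊗[R] A :=
    (e.symm : MonoidAlgebra Ω M₀ →ₐc[Ω] Ω ⊗[R] A).toAlgHom.toMonoidHom.comp (MonoidAlgebra.of Ω M₀)
  have hX : ∀ p, X p = e.symm (MonoidAlgebra.single p 1) := fun p => rfl
  have hall : ∀ p, ∃ z : F ⊗[R] A, IsGroupLikeElem F z ∧ coeffMap i z = X p := by
    intro p
    have hp : p ∈ Subgroup.closure G := by rw [hG]; trivial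
    induction hp using Subgroup.closure_induction with
    | mem x hx => exact hdesc x hx
    | one => exact ⟨1, IsGroupLikeElem.one, by rw [map_one, map_one]⟩
    | mul x y _ _ hx hy =>
      obtain ⟨a, ha, ha'⟩ := hx
      obtain ⟨b, hb, hb'⟩ := hy
      exact ⟨a * b, ha.mul hb, by rw [map_mul, map_mul, ha', hb']⟩
    | inv x _ hx =>
      obtain ⟨a, ha, ha'⟩ := hx
      refine ⟨HopfAlgebraStruct.antipode F a, ha.antipode, ?_⟩
      refine left_inv_eq_right_inv (a := X x) ?_ ?_
      · rw [← ha', ← map_mul, ha.antipode_mul_cancel, map_one]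
      · rw [← map_mul, mul_inv_cancel, map_one]
  choose z hz hzX using hall
  let χ : M₀ →* F ⊗[R] A :=
    { toFun := z
      map_one' := hi (by rw [hzX, map_one, map_one])
      map_mul' := fun a b => hi (by rw [hzX, map_mul, map_mul, hzX, hzX]) }
  let ψa : MonoidAlgebra F M₀ →ₐ[F] F ⊗[R] A := MonoidAlgebra.lift F _ M₀ χ
  have hψ : ∀ y, e (coeffMap i (ψa y)) = coeffGroup i M₀ y := by
    intro y
    induction y using MonoidAlgebra.induction_linear with
    | zero => simp
    | add a b ha hb => simp only [map_add, ha, hb]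
    | single p r =>
      rw [show ψa (MonoidAlgebra.single p r) = r • z p by simp [ψa, χ], smul_coeffMap, map_smul, hzX, hX,
        show e (e.symm (MonoidAlgebra.single p 1)) = _ from e.apply_symm_apply _, coeffGroup_single,
        MonoidAlgebra.smul_single, smul_eq_mul, mul_one]
  let ψ : MonoidAlgebra F M₀ →ₐc[F] F ⊗[R] A := BialgHom.ofAlgHom ψa
    (by
      ext q
      simp [ψa, χ, (hz q).counit_eq_one])
    (by
      ext q
      simp [ψa, χ, (hz q).comul_eq_tmul_self])
  obtain ⟨lam, hlam⟩ : ∃ lam : Ω →ₗ[F] F, lam 1 = 1 := by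
    obtain ⟨g, hg⟩ := (LinearMap.toSpanSingleton F Ω 1).exists_leftInverse_of_injective
      (LinearMap.ker_eq_bot.mpr (smul_left_injective F one_ne_zero))
    exact ⟨g, by simpa using LinearMap.congr_fun hg 1⟩
  have hret : ∀ v : F ⊗[R] A, (lam.restrictScalars R).rTensor A (coeffMap i v) = v := by
    intro v
    induction v using TensorProduct.induction_on with
    | zero => simp
    | tmul c a =>
      rw [coeffMap_tmul, LinearMap.rTensor_tmul, LinearMap.restrictScalars_apply, show i c = c • (1 : Ω) by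
        rw [Algebra.smul_def, mul_one]; rfl, map_smul, hlam, smul_eq_mul, mul_one]
    | add a b ha hb => simp only [map_add, ha, hb]
  have hlamsmul : ∀ (c : Ω) (v : F ⊗[R] A), (lam.restrictScalars R).rTensor A (c • coeffMap i v) = lam c • v := by
    intro c v
    induction v using TensorProduct.induction_on with
    | zero => simp
    | tmul s a =>
      rw [coeffMap_tmul, TensorProduct.smul_tmul', TensorProduct.smul_tmul', LinearMap.rTensor_tmul,
        LinearMap.restrictScalars_apply, show c • i s = s • c by rw [smul_eq_mul, Algebra.smul_def, mul_comm]; rfl,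
        map_smul, smul_eq_mul, smul_eq_mul, mul_comm]
    | add a b ha hb => simp only [map_add, smul_add, ha, hb]
  have hb : Function.Bijective ψ := by
    refine ⟨fun a b hab => ?_, fun v => ?_⟩
    · have h1 : coeffGroup i M₀ a = coeffGroup i M₀ b := by
        rw [← hψ, ← hψ]; exact congrArg (fun t => e (coeffMap i t)) hab
      refine (MonoidAlgebra.coeffLinearEquiv F).injective (Finsupp.ext fun p => ?_)
      have h2 := congrArg (coeffAt Ω p) h1
      rw [coeffAt_coeffGroup, coeffAt_coeffGroup] at h2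
      exact i.toRingHom.injective h2
    · suffices H : ∀ Y : MonoidAlgebra Ω M₀, ∃ y, ψ y = (lam.restrictScalars R).rTensor A (e.symm Y) by
        obtain ⟨y, hy⟩ := H (e (coeffMap i v))
        exact ⟨y, by rw [hy, show e.symm (e (coeffMap i v)) = _ from e.symm_apply_apply _, hret]⟩
      intro Y
      induction Y using MonoidAlgebra.induction_linear with
      | zero => exact ⟨0, by simp⟩
      | add a b ha hb =>
        obtain ⟨x, hx⟩ := ha
        obtain ⟨w, hw⟩ := hb
        exact ⟨x + w, by simp only [map_add, hx, hw]⟩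
      | single p c =>
        refine ⟨MonoidAlgebra.single p (lam c), ?_⟩
        rw [show MonoidAlgebra.single p c = c • MonoidAlgebra.single p (1 : Ω) by rw [MonoidAlgebra.smul_single, smul_eq_mul, mul_one],
          map_smul, ← hX, ← hzX, hlamsmul]
        simp [ψ, ψa, χ]
  exact ⟨(BialgEquiv.ofBijective ψ hb).symm⟩

set_option maxHeartbeats 1600000 in
set_option synthInstance.maxHeartbeats 200000 in
/-- Over a normal domain finite-type groups of multiplicative type are isotrivial. -/
theorem isIsotrivial_of_normal {R : Type u} [CommRing R] [IsDomain R] [IsIntegrallyClosed R] {A : Type u} [CommRing A]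
    [HopfAlgebra R A] (hft : Algebra.FiniteType R A) (h : SGA3b.IsMultType R A) : SGA3b.IsIsotrivial R A := by
  classical
  let F := FractionRing R
  haveI : Algebra.FiniteType F (F ⊗[R] A) := by haveI := hft; infer_instance
  obtain ⟨F', _, _, hfinF, _, M₀, _, hM₀, ⟨d⟩⟩ := Groth.Agent.S2969.result F (F ⊗[R] A) inferInstance (isMultType_baseChange F h)
  letI : Algebra R F' := Algebra.compHom F' (algebraMap R F)
  haveI : IsScalarTower R F F' := IsScalarTower.of_algebraMap_eq fun _ => rfl
  obtain ⟨TF, -⟩ := exists_towerEquiv R F F' A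
  let eF : (F' ⊗[R] A) ≃ₐc[F'] MonoidAlgebra F' M₀ := TF.trans d
  obtain ⟨G, hG⟩ := (Group.fg_def.mp hM₀)
  choose Fx hFx using fun g : M₀ => TensorProduct.exists_finset (eF.symm (MonoidAlgebra.single g (1 : F')))
  let Wf : Finset A := G.biUnion fun g => (Fx g).image Prod.snd
  let W : Set A := ↑Wf
  let T : Finset M₀ := Wf.biUnion fun w => (eF ((1 : F') ⊗ₜ[R] w)).coeff.support
  haveI := hM₀
  obtain ⟨N, hN, hNsep⟩ := exists_exponent_avoiding ((T ×ˢ T).image fun q => q.1⁻¹ * q.2)
  have hT : Set.InjOn (QuotientGroup.mk : M₀ → M₀ ⧸ (powMonoidHom N : M₀ →* M₀).range) T := by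
    intro a ha b hb hab
    by_contra hne
    refine hNsep (a⁻¹ * b) (Finset.mem_image.mpr ⟨(a, b), Finset.mem_product.mpr ⟨ha, hb⟩, rfl⟩) ?_ (QuotientGroup.eq.mp hab)
    exact fun h => hne (inv_mul_eq_one.mp h)
  obtain ⟨S, _, _, M, _, hffS, ⟨eS⟩⟩ : ∃ (S : Type u) (_ : CommRing S) (_ : Algebra R S) (M : Type u) (_ : CommGroup M),
      Module.FaithfullyFlat R S ∧ Nonempty ((S ⊗[R] A) ≃ₐc[S] MonoidAlgebra S M) :=
    exists_global_chart_domain h (F := F') (by
      rw [IsScalarTower.algebraMap_eq R F F']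
      exact (algebraMap F F').injective.comp (IsFractionRing.injective R F)) eF
  haveI := flat_of_equiv S eS
  haveI := isCocomm_of_equiv S eS
  obtain ⟨J, hJ⟩ : ∃ J : Ideal A, J = SGA3b.torsionIdeal R A N := ⟨_, rfl⟩
  haveI : J.IsHopfIdeal R := hJ ▸ isHopfIdeal_torsionIdeal N
  haveI : Module.Finite R (A ⧸ J) := finite_quotient hft h N hN J hJ.ge
  obtain ⟨R', _, _, _, _, Q, _, het, hfin, hff, ⟨eQ⟩⟩ := exists_level_domain (isMultType_quotient_torsion h N J hJ)
  let F'' := FractionRing R'
  haveI : IsScalarTower R R' F'' := inferInstance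
  have hRF'' : Function.Injective (algebraMap R F'') := by
    rw [IsScalarTower.algebraMap_eq R R' F'']
    exact (IsFractionRing.injective R' F'').comp (FaithfulSMul.algebraMap_injective R R')
  letI : Algebra F F'' := (IsFractionRing.lift hRF'').toAlgebra
  haveI : IsScalarTower R F F'' := IsScalarTower.of_algebraMap_eq fun r => (IsFractionRing.lift_algebraMap hRF'' r).symm
  obtain ⟨mx, hmx⟩ := Ideal.exists_maximal (F'' ⊗[F] F')
  let Ω := (F'' ⊗[F] F') ⧸ mx
  letI : Field Ω := Ideal.Quotient.field mx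
  haveI : IsScalarTower R F'' Ω := inferInstance
  let gF : F' →ₐ[R] Ω := (Ideal.Quotient.mkₐ R mx).comp
    ((Algebra.TensorProduct.includeRight : F' →ₐ[F] F'' ⊗[F] F').restrictScalars R)
  obtain ⟨eΩ, heΩ⟩ := exists_diag_map gF eF
  have hW : ∀ w ∈ W, ∀ p ∉ T, coeffAt Ω p (eΩ ((1 : Ω) ⊗ₜ[R] w)) = 0 := by
    intro w hw p hp
    rw [show (1 : Ω) ⊗ₜ[R] w = coeffMap gF ((1 : F') ⊗ₜ[R] w) by rw [coeffMap_tmul, map_one], heΩ, coeffAt_coeffGroup]
    have h0 : coeffAt F' p (eF ((1 : F') ⊗ₜ[R] w)) = 0 := by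
      by_contra h
      exact hp (Finset.mem_biUnion.mpr ⟨w, hw, Finsupp.mem_support_iff.mpr h⟩)
    rw [h0, map_zero]
  have hdesc : ∀ g ∈ (G : Set M₀), ∃ z : F'' ⊗[R] A, IsGroupLikeElem F'' z ∧
      coeffMap (IsScalarTower.toAlgHom R F'' Ω) z = eΩ.symm (MonoidAlgebra.single g 1) := by
    intro g hg
    have hXeq : eΩ.symm (MonoidAlgebra.single g 1) = coeffMap gF (eF.symm (MonoidAlgebra.single g 1)) := by
      apply EquivLike.injective eΩ
      rw [heΩ, show eF (eF.symm (MonoidAlgebra.single g 1)) = _ from eF.apply_symm_apply _,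
        show eΩ (eΩ.symm (MonoidAlgebra.single g 1)) = _ from eΩ.apply_symm_apply _, coeffGroup_single, map_one]
    refine exists_descend eΩ W T hW N hT J hJ eQ ((groupLike_single g).map eΩ.symm) ?_
    rw [hXeq, hFx g, map_sum]
    refine Submodule.sum_mem _ fun i hi => ?_
    rw [coeffMap_tmul, show gF i.1 ⊗ₜ[R] i.2 = gF i.1 • ((1 : Ω) ⊗ₜ[R] i.2) by rw [TensorProduct.smul_tmul', smul_eq_mul, mul_one]]
    exact Submodule.smul_mem _ _ (Submodule.subset_span ⟨i.2, Finset.mem_biUnion.mpr ⟨g, hg, Finset.mem_image.mpr ⟨i, hi, rfl⟩⟩, rfl⟩)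
  obtain ⟨e''⟩ := isDiag_of_descended eΩ (G : Set M₀) hG hdesc
  obtain ⟨T'', -⟩ := exists_towerEquiv R R' F'' A
  haveI : Algebra.FiniteType R' (R' ⊗[R] A) := by haveI := hft; infer_instance
  have hdiag : SGA3b.IsDiag R' (R' ⊗[R] A) :=
    isDiag_of_generic (inferInstance : Algebra.FiniteType R' (R' ⊗[R] A)) (isMultType_baseChange R' h) (T''.symm.trans e'')
  exact ⟨R', inferInstance, inferInstance, het, hfin, hff, hdiag⟩

end Groth.Agent.H83.Quasi
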