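import Groth.Agent.H83.Quasi.Diag
import Groth.Agent.Lib.Henselian.Etale

/-! Group-like elements lift along henselian pairs. -/

set_option autoImplicit false

universe u

open TensorProduct

namespace Groth.Agent.H83.Quasi

open MultType

/-- Two supported elements with the same reduction are equal. -/
theorem eq_of_modPow {S : Type u} [CommRing S] {P : Type u} [CommGroup P] (N : ℕ) (T : Finset P)
    (hT : Set.InjOn (QuotientGroup.mk : P → P ⧸ (powMonoidHom N : P →* P).range) T) {y z : MonoidAlgebra S P}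
    (hy : ∀ p ∉ T, coeffAt S p y = 0) (hz : ∀ p ∉ T, coeffAt S p z = 0) (h : modPow S P N y = modPow S P N z) : y = z := by
  classical
  have key : ∀ v : MonoidAlgebra S P, (∀ p ∉ T, coeffAt S p v = 0) → ∀ t ∈ T,
      coeffAt S (QuotientGroup.mk t) (modPow S P N v) = coeffAt S t v := by
    intro v hv t ht
    have hvT : v = ∑ t ∈ T, MonoidAlgebra.single t (coeffAt S t v) := by
      apply (MonoidAlgebra.coeffLinearEquiv S).injective
      ext p
      show coeffAt S p v = coeffAt S p _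
      rw [map_sum]
      simp only [coeffAt_single]
      rw [Finset.sum_ite_eq']
      split_ifs with h
      · rfl
      · exact hv p h
    conv_lhs => rw [hvT, map_sum, map_sum]
    rw [Finset.sum_eq_single t]
    · rw [modPow_single, coeffAt_single, if_pos rfl]
    · intro t' ht' hne
      rw [modPow_single, coeffAt_single, if_neg fun h => hne (hT ht' ht h)]
    · exact fun h => absurd ht h
  refine (MonoidAlgebra.coeffLinearEquiv S).injective (Finsupp.ext fun p => ?_)
  show coeffAt S p y = coeffAt S p z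
  by_cases hp : p ∈ T
  · rw [← key y hy p hp, ← key z hz p hp, h]
  · rw [hy p hp, hz p hp]

theorem tmul_eq_zero_of_mem {R : Type u} [CommRing R] {I : Ideal R} {Q : Type u} [AddCommGroup Q] [Module R Q] {z : Q}
    (hz : z ∈ I • (⊤ : Submodule R Q)) : (1 : R ⧸ I) ⊗ₜ[R] z = 0 := by
  induction hz using Submodule.smul_induction_on' with
  | smul r hr m _ =>
    rw [← TensorProduct.smul_tmul, Algebra.smul_def, mul_one, Ideal.Quotient.algebraMap_eq,
      Ideal.Quotient.eq_zero_iff_mem.mpr hr, TensorProduct.zero_tmul]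
  | add a _ b _ ha hb => rw [TensorProduct.tmul_add, ha, hb, add_zero]

theorem mem_of_tmul_eq_zero {R : Type u} [CommRing R] {I : Ideal R} {Q : Type u} [AddCommGroup Q] [Module R Q] {z : Q}
    (hz : (1 : R ⧸ I) ⊗ₜ[R] z = 0) : z ∈ I • (⊤ : Submodule R Q) := by
  have h := congrArg (TensorProduct.quotTensorEquivQuotSMul Q I) hz
  rw [map_zero, show (1 : R ⧸ I) = Ideal.Quotient.mk I 1 from rfl, TensorProduct.quotTensorEquivQuotSMul_mk_tmul, one_smul,
    Submodule.Quotient.mk_eq_zero] at h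
  exact h

/-- Reduction of an almost group-like element. -/
theorem groupLike_mod {R : Type u} [CommRing R] {A : Type u} [CommRing A] [HopfAlgebra R A] (I : Ideal R) {x : A}
    (hx : glDefect (R := R) x ∈ I • (⊤ : Submodule R (A ⊗[R] A)))
    (hc : CoalgebraStruct.counit (R := R) x - 1 ∈ I) : IsGroupLikeElem (R ⧸ I) ((1 : R ⧸ I) ⊗ₜ[R] x) := by
  rw [groupLike_iff]
  constructor
  · have h := tmul_eq_zero_of_mem hx
    rw [glDefect, TensorProduct.tmul_sub, sub_eq_zero] at h
    show (1 : R ⧸ I) ⊗ₜ[R] (CoalgebraStruct.comul (R := R) x) = _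
    rw [h]
    simp [inlS, inrS]
  · rw [TensorProduct.counit_tmul, CommSemiring.counit_apply, Algebra.smul_def, mul_one, Ideal.Quotient.algebraMap_eq,
      ← map_one (Ideal.Quotient.mk I), Ideal.Quotient.eq]
    exact hc

/-- A module element which lies in a submodule near every maximal ideal lies in it. -/
theorem mem_of_forall_maximal {R : Type u} [CommRing R] {Q : Type u} [AddCommGroup Q] [Module R Q] (U : Submodule R Q) {z : Q}
    (h : ∀ m : Ideal R, m.IsMaximal → ∃ g : R, g ∉ m ∧ g • z ∈ U) : z ∈ U := by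
  let K : Ideal R := Submodule.comap (LinearMap.toSpanSingleton R Q z) U
  have hK : K = ⊤ := by
    by_contra hne
    obtain ⟨m, hm, hle⟩ := Ideal.exists_le_maximal K hne
    obtain ⟨g, hg, hgz⟩ := h m hm
    exact hg (hle hgz)
  have h1 : (1 : R) ∈ K := hK ▸ Submodule.mem_top
  simpa [K] using h1

set_option maxHeartbeats 1600000 in
set_option synthInstance.maxHeartbeats 200000 in
/-- Almost group-like elements lift along a henselian pair. -/
theorem exists_groupLike_pair {R : Type u} [CommRing R] {A : Type u} [CommRing A] [HopfAlgebra R A]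
    (hft : Algebra.FiniteType R A) {S : Type u} [CommRing S] [Algebra R S] [Module.FaithfullyFlat R S] {M : Type u}
    [CommGroup M] (e : (S ⊗[R] A) ≃ₐc[S] MonoidAlgebra S M) (I : Ideal R) [HenselianRing R I] {x : A}
    (hx : glDefect (R := R) x ∈ I • (⊤ : Submodule R (A ⊗[R] A)))
    (hc : CoalgebraStruct.counit (R := R) x - 1 ∈ I) :
    ∃ w : A, IsGroupLikeElem R w ∧ w - x ∈ I • (⊤ : Submodule R A) := by
  classical
  rcases subsingleton_or_nontrivial R with hR | hR
  · haveI := Module.subsingleton R A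
    haveI := Module.subsingleton R (A ⊗[R] A)
    exact ⟨x, ⟨Subsingleton.elim _ _, Subsingleton.elim _ _⟩, by rw [sub_self]; exact zero_mem _⟩
  haveI := flat_of_equiv S e
  haveI : Nontrivial S := (FaithfulSMul.algebraMap_injective R S).nontrivial
  haveI := fg_of_finiteType hft e
  have hmt : SGA3b.IsMultType R A := isMultType_of_diag S ⟨M, inferInstance, ⟨e⟩⟩
  haveI := isCocomm_of_equiv S e
  obtain ⟨F, hF⟩ := TensorProduct.exists_finset (CoalgebraStruct.comul (R := R) x)
  let W : Set A := ↑(insert x (F.image Prod.snd))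
  let T : Finset M := (insert x (F.image Prod.snd)).biUnion fun w => (e ((1 : S) ⊗ₜ[R] w)).coeff.support
  obtain ⟨N, hN, hNsep⟩ := exists_exponent_avoiding ((T ×ˢ T).image fun q => q.1⁻¹ * q.2)
  have hT : Set.InjOn (QuotientGroup.mk : M → M ⧸ (powMonoidHom N : M →* M).range) T := by
    intro a ha b hb hab
    by_contra hne
    refine hNsep (a⁻¹ * b) (Finset.mem_image.mpr ⟨(a, b), Finset.mem_product.mpr ⟨ha, hb⟩, rfl⟩) ?_ (QuotientGroup.eq.mp hab)
    exact fun h => hne (inv_mul_eq_one.mp h)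
  have hsupp : ∀ {U : Type u} [CommRing U] [Algebra R U] (f : S →ₐ[R] U) (e' : (U ⊗[R] A) ≃ₐc[U] MonoidAlgebra U M),
      (∀ y, e' (coeffMap f y) = coeffGroup f M (e y)) →
      ∀ v ∈ Submodule.span U ((fun w => (1 : U) ⊗ₜ[R] w) '' W), ∀ p ∉ T, coeffAt U p (e' v) = 0 := by
    intro U _ _ f e' he' v hv p hp
    induction hv using Submodule.span_induction with
    | mem v hv =>
      obtain ⟨w, hw, rfl⟩ := hv
      show coeffAt U p (e' ((1 : U) ⊗ₜ[R] w)) = 0
      rw [show (1 : U) ⊗ₜ[R] w = coeffMap f ((1 : S) ⊗ₜ[R] w) by rw [coeffMap_tmul, map_one], he', coeffAt_coeffGroup]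
      have h0 : coeffAt S p (e ((1 : S) ⊗ₜ[R] w)) = 0 := by
        by_contra h
        exact hp (Finset.mem_biUnion.mpr ⟨w, hw, Finsupp.mem_support_iff.mpr h⟩)
      rw [h0, map_zero]
    | zero => simp
    | add a b _ _ ha hb => simp only [map_add, ha, hb, add_zero]
    | smul r a _ ha => rw [map_smul, map_smul, ha, smul_zero]
  obtain ⟨J, hJ⟩ : ∃ J : Ideal A, J = SGA3b.torsionIdeal R A N := ⟨_, rfl⟩
  haveI : J.IsHopfIdeal R := hJ ▸ isHopfIdeal_torsionIdeal N
  haveI : Module.Finite R (A ⧸ J) := finite_quotient hft hmt N hN J hJ.ge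
  have hx0 := groupLike_mod I hx hc
  obtain ⟨R', _, _, _, φ, g, hg, hgz⟩ :=
    exists_etale_point (isMultType_quotient_torsion hmt N J hJ) (groupLike_quotMap J hx0)
  obtain ⟨τ, hτ⟩ := Lib.Henselian.Etale.exists_algHom_lift I φ
  let y : R ⊗[R] (A ⧸ J) := coeffMap τ g
  have hy : IsGroupLikeElem R y := groupLike_coeffMap τ hg
  have hyI : coeffMap (Ideal.Quotient.mkₐ R I) y = quotMap J (R ⧸ I) ((1 : R ⧸ I) ⊗ₜ[R] x) := by
    rw [coeffMap_comp, hτ, hgz]
  let U : Submodule R (R ⊗[R] (A ⧸ J)) :=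
    (Submodule.span R ((fun w => (1 : R) ⊗ₜ[R] w) '' W)).map (quotMap J R).toLinearMap
  have hyU : y ∈ U := by
    refine mem_of_forall_maximal U fun m hm => ?_
    have hIm : I ≤ m := le_trans HenselianRing.jac (sInf_le ⟨bot_le, hm⟩)
    letI : Field (R ⧸ m) := Ideal.Quotient.field m
    let red : R ⧸ I →ₐ[R] R ⧸ m := Ideal.Quotient.factorₐ R hIm
    obtain ⟨L, _, _, _, _, σ, K, _, _, ρ, α, hloc⟩ := exists_localPoint R (R ⧸ m) S
    obtain ⟨eL, heL⟩ := exists_diag_map σ e
    obtain ⟨eK, heK⟩ := exists_diag_map ρ eL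
    obtain ⟨EL, hEL⟩ := exists_quotEquiv eL N J hJ
    obtain ⟨EK, hEK⟩ := exists_quotEquiv eK N J hJ
    obtain ⟨t₀, ht₀⟩ := groupLike_eq_single ((groupLike_coeffMap (α.comp red) hx0).map eK)
    rw [coeffMap_tmul, map_one] at ht₀
    have hρx : ρ (coeffAt L t₀ (eL ((1 : L) ⊗ₜ[R] x))) = 1 := by
      rw [← coeffAt_coeffGroup, ← heK, coeffMap_tmul, map_one, ht₀, coeffAt_single, if_pos rfl]
    have hunit : IsUnit (coeffAt L t₀ (eL ((1 : L) ⊗ₜ[R] x))) := hloc _ (by rw [hρx]; exact one_ne_zero)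
    obtain ⟨wL, hwL, hwLt⟩ : ∃ v ∈ Submodule.span L ((fun w => (1 : L) ⊗ₜ[R] w) '' W),
        eL v = MonoidAlgebra.single t₀ (1 : L) := by
      refine ⟨(↑hunit.unit⁻¹ : L) • ∑ i ∈ F, coeffAt L t₀ (eL ((1 : L) ⊗ₜ[R] i.1)) • ((1 : L) ⊗ₜ[R] i.2), ?_, ?_⟩
      · refine Submodule.smul_mem _ _ (Submodule.sum_mem _ fun i hi => Submodule.smul_mem _ _ (Submodule.subset_span ?_))
        exact ⟨i.2, Finset.mem_insert_of_mem (Finset.mem_image.mpr ⟨i, hi, rfl⟩), rfl⟩
      · rw [map_smul, exists_slice eL x F hF t₀, smul_smul, IsUnit.val_inv_mul, one_smul]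
    have hEcompat : ∀ u : L ⊗[R] (A ⧸ J), EK (coeffMap ρ u) = coeffGroup ρ _ (EL u) := by
      intro u
      obtain ⟨v, rfl⟩ := quotMap_surjective J L u
      rw [quotMap_coeffMap, hEK, heK, hEL]
      generalize eL v = z
      induction z using MonoidAlgebra.induction_linear with
      | zero => simp
      | add a b ha hb => simp only [map_add, ha, hb]
      | single p r => rw [modPow_single, coeffGroup_single, modPow_single, coeffGroup_single]
    let ι : R →ₐ[R] L := Algebra.ofId R L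
    have hsq : ρ.comp ι = (α.comp red).comp (Ideal.Quotient.mkₐ R I) := Subsingleton.elim _ _
    have hyL : coeffMap ι y = quotMap J L wL := by
      obtain ⟨d, hd⟩ := groupLike_eq_single ((groupLike_coeffMap ι hy).map EL)
      apply EquivLike.injective EL
      rw [hd, hEL, hwLt, modPow_single]
      have h1 : EK (coeffMap ρ (coeffMap ι y)) = MonoidAlgebra.single d 1 := by
        rw [hEcompat, hd, coeffGroup_single, map_one]
      rw [coeffMap_comp, hsq, ← coeffMap_comp, hyI, quotMap_coeffMap, hEK, coeffMap_tmul, map_one, ht₀, modPow_single] at h1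
      rw [single_eq_single h1]
    let Θ : L ⊗[R] (R ⊗[R] (A ⧸ J)) ≃ₐ[L] L ⊗[R] (A ⧸ J) := Algebra.TensorProduct.cancelBaseChange R R L L (A ⧸ J)
    have hΘ : ∀ v : R ⊗[R] (A ⧸ J), Θ ((1 : L) ⊗ₜ[R] v) = coeffMap ι v := by
      intro v
      induction v using TensorProduct.induction_on with
      | zero => simp
      | add a b ha hb => simp only [TensorProduct.tmul_add, map_add, ha, hb]
      | tmul r b => simp [Θ, coeffMap_tmul, ι, Algebra.smul_def]
    have hmem : (1 : L) ⊗ₜ[R] y ∈ Submodule.span L ((fun v => (1 : L) ⊗ₜ[R] v) '' U) := by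
      have h1 : (1 : L) ⊗ₜ[R] y = Θ.symm (quotMap J L wL) := by rw [← hyL, ← hΘ, AlgEquiv.symm_apply_apply]
      rw [h1]
      clear h1 hyL hwLt
      induction hwL using Submodule.span_induction with
      | mem v hv =>
        obtain ⟨w, hw, rfl⟩ := hv
        refine Submodule.subset_span ⟨quotMap J R ((1 : R) ⊗ₜ[R] w),
          ⟨_, Submodule.subset_span ⟨w, hw, rfl⟩, rfl⟩, ?_⟩
        apply Θ.injective
        rw [hΘ, AlgEquiv.apply_symm_apply]
        simp [coeffMap_tmul]
      | zero => simp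
      | add a b _ _ ha hb => simp only [map_add]; exact add_mem ha hb
      | smul r a _ ha => rw [map_smul, map_smul]; exact Submodule.smul_mem _ _ ha
    obtain ⟨c, hcne, hcU⟩ := exists_smul_mem ρ.toRingHom U hmem
    refine ⟨c, fun hcm => hcne ?_, hcU⟩
    show ρ (algebraMap R L c) = 0
    rw [ρ.commutes, ← α.commutes c, Ideal.Quotient.algebraMap_eq, Ideal.Quotient.eq_zero_iff_mem.mpr hcm, map_zero]
  obtain ⟨u, hu, huy⟩ := hyU
  have huy' : quotMap J R u = y := huy
  obtain ⟨e', he'⟩ := exists_diag_map (AlgHom.id R S) e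
  let f₁ : R →ₐ[R] S := Algebra.ofId R S
  obtain ⟨E', hE'⟩ := exists_quotEquiv e' N J hJ
  have hgl : IsGroupLikeElem R u := by
    refine groupLike_of_coeffMap f₁ (FaithfulSMul.algebraMap_injective R S) ?_
    have h2 : IsGroupLikeElem S (e' (coeffMap f₁ u)) := by
      refine groupLike_of_modPow N T hT (hsupp _ e' he' _ (coeffMap_mem_span f₁ W hu)) ?_
      rw [← hE', ← quotMap_coeffMap, huy']
      exact (groupLike_coeffMap f₁ hy).map E'
    have h3 := h2.map e'.symm
    rwa [show e'.symm (e' (coeffMap f₁ u)) = coeffMap f₁ u from e'.symm_apply_apply _] at h3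
  refine ⟨Bialgebra.TensorProduct.lid R A u, hgl.map (Bialgebra.TensorProduct.lid R A), ?_⟩
  apply mem_of_tmul_eq_zero
  rw [TensorProduct.tmul_sub, sub_eq_zero]
  have hlid : (1 : R ⧸ I) ⊗ₜ[R] Bialgebra.TensorProduct.lid R A u = coeffMap (Ideal.Quotient.mkₐ R I) u := by
    clear hgl huy' huy hu
    induction u using TensorProduct.induction_on with
    | zero => simp
    | add a b ha hb => simp only [map_add, TensorProduct.tmul_add, ha, hb]
    | tmul r a =>
      rw [Bialgebra.TensorProduct.lid_tmul, coeffMap_tmul, TensorProduct.tmul_smul, TensorProduct.smul_tmul',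
        Algebra.smul_def, mul_one]
      rfl
  rw [hlid]
  let S₀ := (R ⧸ I) ⊗[R] S
  let f₂ : R ⧸ I →ₐ[R] S₀ := Algebra.TensorProduct.includeLeft
  let f₃ : S →ₐ[R] S₀ := Algebra.TensorProduct.includeRight
  have hf₂ : Function.Injective f₂ := fun a b hab => by
    have h1 : (TensorProduct.comm R (R ⧸ I) S) (a ⊗ₜ[R] (1 : S)) = (TensorProduct.comm R (R ⧸ I) S) (b ⊗ₜ[R] (1 : S)) :=
      congrArg _ hab
    simp only [TensorProduct.comm_tmul] at h1
    rw [← sub_eq_zero, ← TensorProduct.tmul_sub, Module.FaithfullyFlat.one_tmul_eq_zero_iff, sub_eq_zero] at h1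
    exact h1
  have hinj : Function.Injective (coeffMap (A := A) f₂) :=
    Module.Flat.rTensor_preserves_injective_linearMap (M := A) f₂.toLinearMap hf₂
  obtain ⟨e₀, he₀⟩ := exists_diag_map f₃ e
  obtain ⟨E₀, hE₀⟩ := exists_quotEquiv e₀ N J hJ
  apply hinj
  apply EquivLike.injective e₀
  refine eq_of_modPow N T hT ?_ ?_ ?_
  · rw [coeffMap_comp]
    exact hsupp f₃ e₀ he₀ _ (coeffMap_mem_span _ W hu)
  · rw [coeffMap_tmul, map_one]
    exact hsupp f₃ e₀ he₀ _ (Submodule.subset_span ⟨x, Finset.mem_insert_self _ _, rfl⟩)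
  · rw [← hE₀, ← hE₀, ← quotMap_coeffMap, ← quotMap_coeffMap, ← quotMap_coeffMap, huy', hyI]

set_option maxHeartbeats 800000 in
/-- Group-like elements congruent modulo a radical ideal are equal. -/
theorem groupLike_eq_pair {R : Type u} [CommRing R] {A : Type u} [CommRing A] [HopfAlgebra R A]
    {S : Type u} [CommRing S] [Algebra R S] [Module.FaithfullyFlat R S] {M : Type u} [CommGroup M]
    (e : (S ⊗[R] A) ≃ₐc[S] MonoidAlgebra S M) (I : Ideal R) (hI : I ≤ Ideal.jacobson ⊥) {u v : A}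
    (hu : IsGroupLikeElem R u) (hv : IsGroupLikeElem R v) (huv : u - v ∈ I • (⊤ : Submodule R A)) : u = v := by
  rw [← sub_eq_zero, ← Submodule.mem_bot R]
  refine mem_of_forall_maximal ⊥ fun m hm => ?_
  have hIm : I ≤ m := le_trans hI (sInf_le ⟨bot_le, hm⟩)
  letI : Field (R ⧸ m) := Ideal.Quotient.field m
  have h0 := tmul_eq_zero_of_mem huv
  rw [TensorProduct.tmul_sub, sub_eq_zero] at h0
  have h1 := congrArg (coeffMap (A := A) (Ideal.Quotient.factorₐ R hIm)) h0
  rw [coeffMap_tmul, coeffMap_tmul, map_one] at h1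
  obtain ⟨g, hg, hguv⟩ := exists_away_eq e (Algebra.ofId R (R ⧸ m)) (groupLike_baseChange R hu) (groupLike_baseChange R hv)
    (by rw [coeffMap_tmul, coeffMap_tmul, map_one]; exact h1)
  refine ⟨g, fun hgm => hg ?_, ?_⟩
  · show algebraMap R (R ⧸ m) g = 0
    rw [Ideal.Quotient.algebraMap_eq, Ideal.Quotient.eq_zero_iff_mem.mpr hgm]
  · have h2 := congrArg (TensorProduct.lid R A) hguv
    simp only [map_smul, TensorProduct.lid_tmul, one_smul] at h2
    rw [Submodule.mem_bot, smul_sub, h2, sub_self]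

end Groth.Agent.H83.Quasi
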