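import Groth.Agent.H83.Quasi.Main
import Groth.Agent.H83.Quasi.Pair

/-! From local rings to neighbourhoods. -/

set_option autoImplicit false

universe u

open TensorProduct

namespace Groth.Agent.H83.Quasi

open MultType

set_option maxHeartbeats 800000 in
/-- An etale algebra over a local ring of `R` is, near any of its points, the localisation of an etale `R`-algebra. -/
theorem exists_etale_model {R : Type u} [CommRing R] (p : Ideal R) [p.IsPrime] (E : Type u) [CommRing E]
    [Algebra (Localization.AtPrime p) E] [Algebra R E] [IsScalarTower R (Localization.AtPrime p) E]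
    [Algebra.Etale (Localization.AtPrime p) E] (Q : Ideal E) [Q.IsPrime] :
    ∃ (R' : Type u) (_ : CommRing R') (_ : Algebra R R') (_ : Algebra.Etale R R') (j : R' →ₐ[R] Localization.AtPrime Q),
      j.toRingHom.Flat ∧ ∀ x, ∃ a c : R', IsUnit (j c) ∧ x * j c = j a := by
  classical
  let Rp := Localization.AtPrime p
  obtain ⟨n, f, hf, hker⟩ := (inferInstance : Algebra.FinitePresentation Rp E).out
  obtain ⟨s, hs⟩ := hker
  let P := MvPolynomial (Fin n) R
  let Pp := MvPolynomial (Fin n) Rp
  let M : Submonoid P := p.primeCompl.map (MvPolynomial.C (σ := Fin n))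
  letI : Algebra P Pp := MvPolynomial.algebraMvPolynomial
  haveI : IsScalarTower R P Pp := IsScalarTower.of_algebraMap_eq fun r => (MvPolynomial.map_C (algebraMap R Rp) r).symm
  haveI : IsLocalization M Pp := MvPolynomial.isLocalization p.primeCompl Rp
  have hlift : ∀ r : Pp, ∃ a : P, ∃ m : M, r * algebraMap P Pp m = algebraMap P Pp a := fun r => by
    obtain ⟨⟨a, m⟩, h⟩ := IsLocalization.surj M r
    exact ⟨a, m, h⟩
  choose a m ham using hlift
  let I : Ideal P := Ideal.span ((s.image a : Finset P) : Set P)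
  let φ : P →ₐ[R] E := (f.restrictScalars R).comp (IsScalarTower.toAlgHom R P Pp)
  have hI : ∀ x ∈ I, φ x = 0 := by
    intro x hx
    refine (Ideal.span_le.mpr fun y hy => ?_ : I ≤ RingHom.ker φ) hx
    obtain ⟨r, hr, rfl⟩ := Finset.mem_image.mp hy
    have h1 : f r = 0 := by
      have h2 : r ∈ RingHom.ker f.toRingHom := hs ▸ Ideal.subset_span hr
      exact h2
    show f (algebraMap P Pp (a r)) = 0
    rw [← ham, map_mul, h1, zero_mul]
  let E₀ := P ⧸ I
  haveI : Algebra.FinitePresentation R E₀ := Algebra.FinitePresentation.quotient ⟨s.image a, rfl⟩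
  let θ : E₀ →ₐ[R] E := Ideal.Quotient.liftₐ I φ hI
  letI : Algebra E₀ E := θ.toRingHom.toAlgebra
  haveI : IsScalarTower R E₀ E := IsScalarTower.of_algebraMap_eq fun r => (θ.commutes r).symm
  let N : Submonoid E₀ := M.map (Ideal.Quotient.mk I)
  have hθ : ∀ x : P, algebraMap E₀ E (Ideal.Quotient.mk I x) = f (algebraMap P Pp x) := fun x => rfl
  haveI : IsLocalization N E :=
    { map_units := by
        rintro ⟨_, x, hx, rfl⟩
        rw [hθ]
        exact (IsLocalization.map_units Pp ⟨x, hx⟩).map f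
      surj := by
        intro z
        obtain ⟨r, rfl⟩ := hf z
        refine ⟨⟨Ideal.Quotient.mk I (a r), ⟨Ideal.Quotient.mk I (m r), ⟨(m r : P), (m r).2, rfl⟩⟩⟩, ?_⟩
        show f r * algebraMap E₀ E (Ideal.Quotient.mk I (m r : P)) = algebraMap E₀ E (Ideal.Quotient.mk I (a r))
        rw [hθ, hθ, ← map_mul, ham]
      exists_of_eq := by
        intro x y hxy
        obtain ⟨x, rfl⟩ := Ideal.Quotient.mk_surjective x
        obtain ⟨y, rfl⟩ := Ideal.Quotient.mk_surjective y
        rw [hθ, hθ] at hxy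
        have h1 : algebraMap P Pp (x - y) ∈ Ideal.span (s : Set Pp) := by
          have h0 : algebraMap P Pp (x - y) ∈ RingHom.ker f.toRingHom := by
            rw [RingHom.mem_ker]
            show f (algebraMap P Pp (x - y)) = 0
            rw [map_sub, map_sub, hxy, sub_self]
          exact hs.symm ▸ h0
        have h2 : Ideal.span (s : Set Pp) ≤ I.map (algebraMap P Pp) := by
          refine Ideal.span_le.mpr fun r hr => ?_
          have h3 : r * algebraMap P Pp (m r) ∈ I.map (algebraMap P Pp) := by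
            rw [ham]
            exact Ideal.mem_map_of_mem _ (Ideal.subset_span (Finset.mem_image_of_mem a hr))
          exact (Ideal.mul_unit_mem_iff_mem _ (IsLocalization.map_units Pp (m r))).mp h3
        obtain ⟨c, hc, hcI⟩ := (IsLocalization.algebraMap_mem_map_algebraMap_iff M Pp I (x - y)).mp (h2 h1)
        refine ⟨⟨Ideal.Quotient.mk I c, ⟨c, hc, rfl⟩⟩, ?_⟩
        show Ideal.Quotient.mk I c * Ideal.Quotient.mk I x = Ideal.Quotient.mk I c * Ideal.Quotient.mk I y
        rw [← map_mul, ← map_mul, Ideal.Quotient.eq, ← mul_sub]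
        exact hcI }
  let Q₀ : Ideal E₀ := Q.comap (algebraMap E₀ E)
  let EQ := Localization.AtPrime Q
  haveI : IsLocalization.AtPrime EQ Q₀ := IsLocalization.isLocalization_isLocalization_atPrime_isLocalization N EQ Q
  haveI : Algebra.FormallyEtale R Rp := Algebra.FormallyEtale.of_isLocalization p.primeCompl
  haveI : Algebra.FormallyEtale Rp EQ := by
    haveI : Algebra.FormallyEtale E EQ := Algebra.FormallyEtale.of_isLocalization Q.primeCompl
    exact Algebra.FormallyEtale.comp Rp E EQ
  haveI : Algebra.FormallyEtale R EQ := Algebra.FormallyEtale.comp R Rp EQ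
  let ε : EQ ≃ₐ[R] Localization.AtPrime Q₀ :=
    (IsLocalization.algEquiv Q₀.primeCompl EQ (Localization.AtPrime Q₀)).restrictScalars R
  haveI : Algebra.IsEtaleAt R Q₀ := Algebra.FormallyEtale.of_equiv ε
  obtain ⟨g, hg, hget⟩ := Algebra.exists_etale_of_isEtaleAt (R := R) Q₀
  let R' := Localization.Away g
  have hgu : IsUnit (algebraMap E₀ EQ g) := IsLocalization.map_units EQ (⟨g, hg⟩ : Q₀.primeCompl)
  let j : R' →ₐ[R] EQ := IsLocalization.liftAlgHom (M := Submonoid.powers g) (f := IsScalarTower.toAlgHom R E₀ EQ)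
    (by
      rintro ⟨_, k, rfl⟩
      show IsUnit (algebraMap E₀ EQ (g ^ k))
      rw [map_pow]
      exact hgu.pow k)
  letI : Algebra R' EQ := j.toRingHom.toAlgebra
  haveI : IsScalarTower E₀ R' EQ := IsScalarTower.of_algebraMap_eq (R := E₀) (S := R') (A := EQ) fun x => (IsLocalization.lift_eq _ x).symm
  have hj : ∀ x : E₀, j (algebraMap E₀ R' x) = algebraMap E₀ EQ x := fun x => IsLocalization.lift_eq _ x
  refine ⟨R', inferInstance, inferInstance, hget, j, ?_, fun x => ?_⟩
  swap
  · obtain ⟨⟨a, c⟩, h⟩ := IsLocalization.surj Q₀.primeCompl x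
    refine ⟨algebraMap E₀ R' a, algebraMap E₀ R' c, ?_, ?_⟩
    · rw [hj]; exact IsLocalization.map_units EQ c
    · rw [hj, hj]; exact h
  haveI : Module.Flat E₀ EQ := IsLocalization.flat EQ Q₀.primeCompl
  have hflat : Module.Flat R' EQ := (Module.flat_iff_of_isLocalization R' (Submonoid.powers g) EQ).mpr inferInstance
  exact hflat

set_option maxHeartbeats 800000 in
set_option synthInstance.maxHeartbeats 200000 in
/-- An etale neighbourhood on which the group is diagonalisable gives a quasi-isotrivial neighbourhood. -/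
theorem exists_quasiConst_of_point {R : Type u} [CommRing R] {A : Type u} [CommRing A] [HopfAlgebra R A]
    {R' : Type u} [CommRing R'] [Algebra R R'] [Algebra.Etale R R'] (hdiag : SGA3b.IsDiag R' (R' ⊗[R] A))
    (q : PrimeSpectrum R') : ∃ f : R, f ∉ (PrimeSpectrum.comap (algebraMap R R') q).asIdeal ∧
      SGA3b.IsQuasiIsotrivialConst (Localization.Away f) (Localization.Away f ⊗[R] A) := by
  classical
  haveI : Algebra.HasGoingDown R R' := Algebra.HasGoingDown.of_flat
  have hopen := PrimeSpectrum.isOpenMap_comap_of_hasGoingDown_of_finitePresentation (R := R) (S := R')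
  obtain ⟨_, ⟨_, ⟨f, rfl⟩, rfl⟩, hfp, hfsub⟩ :=
    PrimeSpectrum.isBasis_basic_opens.exists_subset_of_mem_open
      (show PrimeSpectrum.comap (algebraMap R R') q ∈ Set.range (PrimeSpectrum.comap (algebraMap R R')) from ⟨q, rfl⟩)
      hopen.isOpen_range
  refine ⟨f, hfp, ?_⟩
  let Rf := Localization.Away f
  let R'f := Localization.Away (algebraMap R R' f)
  have hu : IsUnit (algebraMap R R'f f) := by
    rw [IsScalarTower.algebraMap_apply R R' R'f]
    exact IsLocalization.Away.algebraMap_isUnit (algebraMap R R' f)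
  letI : Algebra Rf R'f := (IsLocalization.Away.lift f (g := algebraMap R R'f) hu).toAlgebra
  haveI : IsScalarTower R Rf R'f := IsScalarTower.of_algebraMap_eq fun r => (IsLocalization.Away.lift_eq f hu r).symm
  haveI : Algebra.Etale R' R'f := Algebra.Etale.of_isLocalizationAway (algebraMap R R' f)
  haveI : Algebra.Etale R R'f := Algebra.Etale.comp R R' R'f
  haveI : Algebra.Etale R Rf := Algebra.Etale.of_isLocalizationAway f
  haveI : Algebra.Etale Rf R'f := Algebra.Etale.of_restrictScalars R Rf R'f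
  haveI : Module.FaithfullyFlat Rf R'f := by
    refine Module.FaithfullyFlat.of_comap_surjective fun Q => ?_
    have hQ : PrimeSpectrum.comap (algebraMap R Rf) Q ∈ PrimeSpectrum.basicOpen f := by
      rw [← SetLike.mem_coe, ← PrimeSpectrum.localization_away_comap_range Rf f]
      exact ⟨Q, rfl⟩
    obtain ⟨Q', hQ'⟩ := hfsub hQ
    obtain ⟨Q'', hQ''⟩ : Q' ∈ Set.range (PrimeSpectrum.comap (algebraMap R' R'f)) := by
      rw [PrimeSpectrum.localization_away_comap_range R'f (algebraMap R R' f)]
      show algebraMap R R' f ∉ Q'.asIdeal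
      have h2 : f ∉ (PrimeSpectrum.comap (algebraMap R R') Q').asIdeal := hQ' ▸ hQ
      exact h2
    refine ⟨Q'', PrimeSpectrum.localization_comap_injective Rf (Submonoid.powers f) ?_⟩
    rw [← PrimeSpectrum.comap_comp_apply, ← IsScalarTower.algebraMap_eq, IsScalarTower.algebraMap_eq R R' R'f,
      PrimeSpectrum.comap_comp_apply, hQ'', hQ']
  obtain ⟨M', _, ⟨eM⟩⟩ := hdiag
  obtain ⟨e', -⟩ := exists_diag_map (IsScalarTower.toAlgHom R R' R'f) eM
  obtain ⟨U₁, -⟩ := exists_towerEquiv R Rf R'f A
  exact ⟨R'f, inferInstance, inferInstance, inferInstance, inferInstance, M', inferInstance, ⟨U₁.symm.trans e'⟩⟩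

/-- Denominators of finitely many tensors. -/
theorem exists_common_denom {R : Type u} [CommRing R] {L : Type u} [CommRing L] [Algebra R L] {A : Type u} [AddCommGroup A]
    [Module R A] (hL : ∀ x : L, ∃ a c : R, IsUnit (algebraMap R L c) ∧ x * algebraMap R L c = algebraMap R L a)
    {ι : Type u} (s : Finset ι) (y : ι → L ⊗[R] A) :
    ∃ u : R, IsUnit (algebraMap R L u) ∧ ∀ i ∈ s, ∃ z : A, algebraMap R L u • y i = (1 : L) ⊗ₜ[R] z := by
  classical
  have h1 : ∀ t : L ⊗[R] A, ∃ c : R, IsUnit (algebraMap R L c) ∧ ∃ z : A, algebraMap R L c • t = (1 : L) ⊗ₜ[R] z := by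
    intro t
    induction t using TensorProduct.induction_on with
    | zero => exact ⟨1, by simp, 0, by simp⟩
    | tmul x a =>
      obtain ⟨r, c, hc, h⟩ := hL x
      refine ⟨c, hc, r • a, ?_⟩
      rw [TensorProduct.smul_tmul', smul_eq_mul, mul_comm, h, ← TensorProduct.smul_tmul, ← Algebra.algebraMap_eq_smul_one]
    | add t₁ t₂ h₁ h₂ =>
      obtain ⟨c₁, hc₁, z₁, hz₁⟩ := h₁
      obtain ⟨c₂, hc₂, z₂, hz₂⟩ := h₂
      refine ⟨c₁ * c₂, by rw [map_mul]; exact hc₁.mul hc₂, c₂ • z₁ + c₁ • z₂, ?_⟩
      rw [TensorProduct.tmul_add, TensorProduct.tmul_smul, TensorProduct.tmul_smul, ← hz₁, ← hz₂, map_mul, smul_add]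
      simp only [← algebraMap_smul L (R := R), smul_smul, mul_comm]
  choose c hc z hz using h1
  refine ⟨∏ i ∈ s, c (y i), ?_, fun i hi => ⟨(∏ j ∈ s.erase i, c (y j)) • z (y i), ?_⟩⟩
  · rw [map_prod]; exact IsUnit.prod_iff.mpr fun i _ => hc _
  · rw [TensorProduct.tmul_smul, ← hz, ← algebraMap_smul L (∏ j ∈ s.erase i, c (y j)), smul_smul, ← map_mul,
      Finset.prod_erase_mul _ (fun j => c (y j)) hi]

/-- Finitely many elements vanishing at a flat local test algebra vanish on a neighbourhood of it. -/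
theorem exists_killer {R : Type u} [CommRing R] {L : Type u} [CommRing L] [IsLocalRing L] [Algebra R L] [Module.Flat R L]
    {ι : Type u} (s : Finset ι) {Q : Type u} [AddCommGroup Q] [Module R Q] (x : ι → Q)
    (h : ∀ i ∈ s, (1 : L) ⊗ₜ[R] x i = 0) :
    ∃ g : R, IsUnit (algebraMap R L g) ∧ ∀ (S : Type u) [CommRing S] [Algebra R S], IsUnit (algebraMap R S g) →
      ∀ i ∈ s, (1 : S) ⊗ₜ[R] x i = 0 := by
  classical
  have h1 : ∀ i : s, ∃ g : R, IsUnit (algebraMap R L g) ∧ g • x i.1 = 0 := fun i => by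
    obtain ⟨g, hg, hgx⟩ := exists_smul_eq_zero (IsLocalRing.residue L) (h i.1 i.2)
    exact ⟨g, by_contra fun hn => hg ((IsLocalRing.residue_eq_zero_iff _).mpr hn), hgx⟩
  choose g hg hgx using h1
  refine ⟨∏ i, g i, ?_, fun S _ _ hu i hi => ?_⟩
  · rw [map_prod]; exact IsUnit.prod_iff.mpr fun i _ => hg i
  · rw [map_prod] at hu
    have hi' : IsUnit (algebraMap R S (g ⟨i, hi⟩)) := IsUnit.prod_iff.mp hu _ (Finset.mem_univ _)
    apply hi'.smul_left_cancel.mp
    rw [smul_zero, algebraMap_smul, ← TensorProduct.tmul_smul, hgx ⟨i, hi⟩, TensorProduct.tmul_zero]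

/-- Diagonalisable on an etale neighbourhood of the closed point of a test algebra. -/
def Spreads (R : Type u) [CommRing R] (A : Type u) [CommRing A] [HopfAlgebra R A] (L : Type u) [CommRing L]
    [IsLocalRing L] [Algebra R L] : Prop :=
  ∃ (R'' : Type u) (_ : CommRing R'') (_ : Algebra R R'') (_ : Algebra.Etale R R'') (q : PrimeSpectrum R''),
    (PrimeSpectrum.comap (algebraMap R R'') q).asIdeal = RingHom.ker ((IsLocalRing.residue L).comp (algebraMap R L)) ∧
    SGA3b.IsDiag R'' (R'' ⊗[R] A)

theorem spreads_of_etale {R : Type u} [CommRing R] {A : Type u} [CommRing A] [HopfAlgebra R A] {L : Type u} [CommRing L]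
    [IsLocalRing L] [Algebra R L] (S : Type u) [CommRing S] [Algebra R S] [Algebra.Etale R S] [Algebra S L]
    [IsScalarTower R S L] (h : Spreads S (S ⊗[R] A) L) : Spreads R A L := by
  obtain ⟨R'', _, _, _, q, hq, M, _, ⟨e⟩⟩ := h
  letI : Algebra R R'' := Algebra.compHom R'' (algebraMap R S)
  haveI : IsScalarTower R S R'' := IsScalarTower.of_algebraMap_eq fun _ => rfl
  haveI : Algebra.Etale R R'' := Algebra.Etale.comp R S R''
  obtain ⟨U, -⟩ := exists_towerEquiv R S R'' A
  refine ⟨R'', inferInstance, inferInstance, inferInstance, q, ?_, M, inferInstance, ⟨U.trans e⟩⟩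
  rw [IsScalarTower.algebraMap_eq R S R'', PrimeSpectrum.comap_comp_apply, PrimeSpectrum.comap_asIdeal, hq,
    RingHom.comap_ker, RingHom.comp_assoc, ← IsScalarTower.algebraMap_eq]

theorem spreads_of_forall {R : Type u} [CommRing R] {A : Type u} [CommRing A] [HopfAlgebra R A] {L : Type u} [CommRing L]
    [IsLocalRing L] [Algebra R L] [Module.Flat R L] (g : R) (hg : IsUnit (algebraMap R L g))
    (h : ∀ (S : Type u) [CommRing S] [Algebra R S] [Algebra S L] [IsScalarTower R S L] [Module.Flat S L],
      IsUnit (algebraMap R S g) → Spreads S (S ⊗[R] A) L) : Spreads R A L := by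
  let S := Localization.Away g
  letI : Algebra S L := (IsLocalization.Away.lift g (g := algebraMap R L) hg).toAlgebra
  haveI : IsScalarTower R S L := IsScalarTower.of_algebraMap_eq fun r => (IsLocalization.Away.lift_eq g hg r).symm
  haveI : Module.Flat S L := (Module.flat_iff_of_isLocalization S (Submonoid.powers g) L).mpr inferInstance
  haveI : Algebra.Etale R S := Algebra.Etale.of_isLocalizationAway g
  exact spreads_of_etale S (h S (IsLocalization.Away.algebraMap_isUnit g))

set_option maxHeartbeats 800000 in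
set_option synthInstance.maxHeartbeats 200000 in
theorem spreads_of_hom {R : Type u} [CommRing R] {A : Type u} [CommRing A] [HopfAlgebra R A] [Algebra.FinitePresentation R A]
    {L : Type u} [CommRing L] [IsLocalRing L] [Algebra R L] [Module.Flat R L]
    {M : Type u} [CommGroup M] [Group.FG M] (e : (L ⊗[R] A) ≃ₐc[L] MonoidAlgebra L M)
    (χ : M →* A) (hgl : ∀ m, IsGroupLikeElem R (χ m)) (hχ : ∀ m, e ((1 : L) ⊗ₜ[R] χ m) = MonoidAlgebra.single m 1) :
    Spreads R A L := by
  haveI := finitePresentation_monoidAlgebra R M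
  have hbij : Function.Bijective (Algebra.TensorProduct.map (AlgHom.id L L) (MonoidAlgebra.lift R A M χ)) := by
    have h1 : (e : (L ⊗[R] A) → MonoidAlgebra L M) ∘ Algebra.TensorProduct.map (AlgHom.id L L) (MonoidAlgebra.lift R A M χ) ∘
        (MonoidAlgebra.scalarTensorEquiv R L (M := M)).symm = id := by
      funext y
      simp only [Function.comp_apply, id_eq]
      induction y using MonoidAlgebra.induction_linear with
      | zero => simp
      | add a b ha hb => simp only [map_add, ha, hb]
      | single m r =>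
        have h0 : Algebra.TensorProduct.map (AlgHom.id L L) (MonoidAlgebra.lift R A M χ)
            ((MonoidAlgebra.scalarTensorEquiv R L).symm (MonoidAlgebra.single m r)) = r • ((1 : L) ⊗ₜ[R] χ m) := by
          simp [TensorProduct.smul_tmul']
        rw [h0, map_smul, hχ, MonoidAlgebra.smul_single, smul_eq_mul, mul_one]
    have h2 : Function.Bijective (id : MonoidAlgebra L M → MonoidAlgebra L M) := Function.bijective_id
    rw [← h1] at h2
    exact (Function.Bijective.of_comp_iff _ (MonoidAlgebra.scalarTensorEquiv R L (M := M)).symm.bijective).mp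
      ((Function.Bijective.of_comp_iff' (EquivLike.bijective e) _).mp h2)
  obtain ⟨g, hg, hbij'⟩ := exists_bijective_away (MonoidAlgebra.lift R A M χ) (IsLocalRing.residue L) hbij
  have hgu : IsUnit (algebraMap R L g) := by_contra fun hn => hg ((IsLocalRing.residue_eq_zero_iff _).mpr hn)
  let S := Localization.Away g
  let f : S →+* L := IsLocalization.Away.lift g (g := algebraMap R L) hgu
  have hf : f.comp (algebraMap R S) = algebraMap R L := IsLocalization.Away.lift_comp g hgu
  haveI : Algebra.Etale R S := Algebra.Etale.of_isLocalizationAway g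
  refine ⟨S, inferInstance, inferInstance, inferInstance,
    ⟨RingHom.ker ((IsLocalRing.residue L).comp f), RingHom.ker_isPrime _⟩, ?_, ?_⟩
  · rw [PrimeSpectrum.comap_asIdeal, RingHom.comap_ker, RingHom.comp_assoc, hf]
  let χ' : M →* S ⊗[R] A := (Algebra.TensorProduct.includeRight : A →ₐ[R] S ⊗[R] A).toMonoidHom.comp χ
  refine isDiag_of_bijective χ' (fun m => groupLike_baseChange S (hgl m)) ?_
  have h1 : (MonoidAlgebra.lift S (S ⊗[R] A) M χ' : MonoidAlgebra S M → S ⊗[R] A) =
      Algebra.TensorProduct.map (AlgHom.id S S) (MonoidAlgebra.lift R A M χ) ∘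
        (MonoidAlgebra.scalarTensorEquiv R S (M := M)).symm := by
    funext y
    simp only [Function.comp_apply]
    induction y using MonoidAlgebra.induction_linear with
    | zero => simp
    | add a b ha hb => simp only [map_add, ha, hb]
    | single m r => simp [χ', TensorProduct.smul_tmul']
  rw [h1]
  exact hbij'.comp (MonoidAlgebra.scalarTensorEquiv R S (M := M)).symm.bijective

set_option maxHeartbeats 800000 in
set_option synthInstance.maxHeartbeats 200000 in
theorem spreads_of_groupLike {R : Type u} [CommRing R] {A : Type u} [CommRing A] [HopfAlgebra R A] [Algebra.FinitePresentation R A]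
    {L : Type u} [CommRing L] [IsLocalRing L] [Algebra R L] [Module.Flat R L]
    {M : Type u} [CommGroup M] [Group.FG M] (e : (L ⊗[R] A) ≃ₐc[L] MonoidAlgebra L M)
    (G : Finset M) (hG : Subgroup.closure (G : Set M) = ⊤) (w : M → A) (hgl : ∀ m ∈ G, IsGroupLikeElem R (w m))
    (hw : ∀ m ∈ G, e ((1 : L) ⊗ₜ[R] w m) = MonoidAlgebra.single m 1) : Spreads R A L := by
  classical
  obtain ⟨π, hπ⟩ := exists_lattice_hom (fun m : G => m.1)
  have hπs : Function.Surjective π := by
    rw [← MonoidHom.range_eq_top, eq_top_iff, ← hG, Subgroup.closure_le]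
    exact fun m hm => ⟨_, hπ ⟨m, hm⟩⟩
  letI : CommGroup (GroupLike R A) := GroupLike.instCommGroup
  obtain ⟨χ₀, hχ₀⟩ := exists_lattice_hom (fun m : G => (⟨_, hgl m.1 m.2⟩ : GroupLike R A))
  have hχL : ∀ f, e ((1 : L) ⊗ₜ[R] (χ₀ f).val) = MonoidAlgebra.single (π f) 1 := by
    let lhs : (↥G → Multiplicative ℤ) →* MonoidAlgebra L M :=
      { toFun := fun f => e ((1 : L) ⊗ₜ[R] (χ₀ f).val)
        map_one' := by rw [map_one]; exact map_one e
        map_mul' := fun a b => by
          rw [map_mul, GroupLike.val_mul, show (1 : L) ⊗ₜ[R] ((χ₀ a).val * (χ₀ b).val) =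
            ((1 : L) ⊗ₜ[R] (χ₀ a).val) * ((1 : L) ⊗ₜ[R] (χ₀ b).val) by rw [Algebra.TensorProduct.tmul_mul_tmul, one_mul]]
          exact map_mul e _ _ }
    suffices h : lhs.toHomUnits = ((MonoidAlgebra.of L M).comp π).toHomUnits from
      fun f => congrArg Units.val (DFunLike.congr_fun h f)
    apply MonoidHom.pi_ext
    intro m t
    have h1 : lhs.toHomUnits (Pi.mulSingle m (Multiplicative.ofAdd 1)) =
        ((MonoidAlgebra.of L M).comp π).toHomUnits (Pi.mulSingle m (Multiplicative.ofAdd 1)) := by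
      refine Units.ext ?_
      show e ((1 : L) ⊗ₜ[R] (χ₀ _).val) = MonoidAlgebra.single (π _) 1
      rw [hχ₀, hπ]
      exact hw m.1 m.2
    rw [show t = Multiplicative.ofAdd (1 : ℤ) ^ t.toAdd from by apply Multiplicative.toAdd.injective; simp,
      show Pi.mulSingle m (Multiplicative.ofAdd (1 : ℤ) ^ t.toAdd) =
        (MonoidHom.mulSingle (fun _ : G => Multiplicative ℤ) m) (Multiplicative.ofAdd (1 : ℤ) ^ t.toAdd) from rfl,
      map_zpow, map_zpow, map_zpow]
    exact congrArg (· ^ t.toAdd) h1
  obtain ⟨ker, hker⟩ : ∃ ker : Finset (↥G → Multiplicative ℤ), Subgroup.closure (ker : Set (↥G → Multiplicative ℤ)) = π.ker := by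
    haveI : Module.Finite ℤ (Additive (↥G → Multiplicative ℤ)) :=
      Module.Finite.of_surjective
        (AddMonoidHom.toIntLinearMap ({ toFun := fun v => Additive.ofMul (fun i => Multiplicative.ofAdd (v i)),
                                        map_zero' := rfl, map_add' := fun _ _ => rfl } : (↥G → ℤ) →+ Additive (↥G → Multiplicative ℤ)))
        (fun x => ⟨fun i => (x.toMul i).toAdd, rfl⟩)
    obtain ⟨t, ht⟩ := IsNoetherian.noetherian (AddSubgroup.toIntSubmodule (Subgroup.toAddSubgroup π.ker))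
    refine ⟨t.map Additive.toMul.toEmbedding, ?_⟩
    apply Subgroup.toAddSubgroup.injective
    rw [Subgroup.toAddSubgroup_closure]
    apply AddSubgroup.toIntSubmodule.injective
    rw [← ht, ← Submodule.span_int_eq_addSubgroupClosure]
    ext x
    simp
  obtain ⟨g, hg, hgE⟩ := exists_killer (L := L) ker (fun f => (χ₀ f).val - 1) fun f hf => by
    apply EquivLike.injective e
    rw [TensorProduct.tmul_sub, map_sub, hχL, show π f = 1 from (hker ▸ Subgroup.subset_closure hf : f ∈ π.ker), map_zero,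
      ← Algebra.TensorProduct.one_def, map_one]
    exact sub_self _
  refine spreads_of_forall g hg ?_
  intro S _ _ _ _ _ hgu
  obtain ⟨T, hT⟩ := exists_towerEquiv R S L A
  letI : CommGroup (GroupLike S (S ⊗[R] A)) := GroupLike.instCommGroup
  let jG : GroupLike R A →* GroupLike S (S ⊗[R] A) :=
    { toFun := fun a => ⟨(1 : S) ⊗ₜ[R] a.val, groupLike_baseChange S a.2⟩
      map_one' := GroupLike.val_injective rfl
      map_mul' := fun a b => GroupLike.val_injective (by
        show (1 : S) ⊗ₜ[R] (a.val * b.val) = ((1 : S) ⊗ₜ[R] a.val) * ((1 : S) ⊗ₜ[R] b.val)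
        rw [Algebra.TensorProduct.tmul_mul_tmul, one_mul]) }
  have hkill : π.ker ≤ MonoidHom.ker (jG.comp χ₀) := by
    rw [← hker, Subgroup.closure_le]
    intro f hf
    refine GroupLike.val_injective ?_
    show (1 : S) ⊗ₜ[R] (χ₀ f).val = 1
    have h := hgE S hgu f hf
    rw [TensorProduct.tmul_sub, sub_eq_zero] at h
    rw [h]
    rfl
  let χG : M →* GroupLike S (S ⊗[R] A) := MonoidHom.liftOfSurjective π hπs ⟨_, hkill⟩
  refine spreads_of_hom (T.symm.trans e) ((GroupLike.valMonoidHom S (S ⊗[R] A)).comp χG) (fun m => (χG m).2) fun m => ?_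
  obtain ⟨f, rfl⟩ := hπs m
  rw [show ((GroupLike.valMonoidHom S (S ⊗[R] A)).comp χG) (π f) = (1 : S) ⊗ₜ[R] (χ₀ f).val from
    congrArg GroupLike.val (MonoidHom.liftOfRightInverse_comp_apply π _ (Function.rightInverse_surjInv hπs) ⟨_, hkill⟩ f)]
  show e (T.symm ((1 : L) ⊗ₜ[S] ((1 : S) ⊗ₜ[R] (χ₀ f).val))) = _
  rw [← hT, show T.symm (T ((1 : L) ⊗ₜ[R] (χ₀ f).val)) = _ from T.symm_apply_apply _, hχL]

set_option maxHeartbeats 800000 in
set_option synthInstance.maxHeartbeats 200000 in
theorem spreads_of_lift {R : Type u} [CommRing R] {A : Type u} [CommRing A] [HopfAlgebra R A] [Algebra.FinitePresentation R A]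
    {L : Type u} [CommRing L] [IsLocalRing L] [Algebra R L] [Module.Flat R L]
    {M : Type u} [CommGroup M] [Group.FG M] (e : (L ⊗[R] A) ≃ₐc[L] MonoidAlgebra L M)
    (G : Finset M) (hG : Subgroup.closure (G : Set M) = ⊤) (w : M → A)
    (hw : ∀ m ∈ G, e ((1 : L) ⊗ₜ[R] w m) = MonoidAlgebra.single m 1) : Spreads R A L := by
  classical
  have hgl : ∀ m ∈ G, IsGroupLikeElem L ((1 : L) ⊗ₜ[R] w m) := fun m hm => by
    have h := (groupLike_single (S := L) m).map e.symm
    rwa [← hw m hm, show e.symm (e ((1 : L) ⊗ₜ[R] w m)) = _ from e.symm_apply_apply _] at h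
  obtain ⟨g₁, hg₁, hgD⟩ := exists_killer (R := R) (L := L) (Q := A ⊗[R] A) G (fun m => CoalgebraStruct.comul (R := R) (w m) - w m ⊗ₜ[R] w m) fun m hm => by
    have h := ((groupLike_iff _).mp (hgl m hm)).1
    rw [TensorProduct.tmul_sub, sub_eq_zero]
    refine (show (1 : L) ⊗ₜ[R] CoalgebraStruct.comul (R := R) (w m) = _ from h).trans ?_
    simp [inlS, inrS]
  obtain ⟨g₂, hg₂, hgC⟩ := exists_killer (R := R) (L := L) (Q := R) G (fun m => CoalgebraStruct.counit (R := R) (w m) - 1) fun m hm => by
    have h := ((groupLike_iff _).mp (hgl m hm)).2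
    rw [TensorProduct.counit_tmul, CommSemiring.counit_apply] at h
    apply (TensorProduct.rid R L).injective
    rw [map_zero, TensorProduct.rid_tmul, sub_smul, one_smul, h, sub_self]
  refine spreads_of_forall (g₁ * g₂) (by rw [map_mul]; exact hg₁.mul hg₂) ?_
  intro S _ _ _ _ _ hgu
  rw [map_mul, IsUnit.mul_iff] at hgu
  obtain ⟨T, hT⟩ := exists_towerEquiv R S L A
  refine spreads_of_groupLike (T.symm.trans e) G hG (fun m => (1 : S) ⊗ₜ[R] w m) (fun m hm => ?_) (fun m hm => ?_)
  · rw [groupLike_iff]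
    constructor
    · have h := hgD S hgu.1 m hm
      rw [TensorProduct.tmul_sub, sub_eq_zero] at h
      refine (show comulS S ((1 : S) ⊗ₜ[R] w m) = _ from h).trans ?_
      simp [inlS, inrS]
    · have h := congrArg (TensorProduct.rid R S) (hgC S hgu.2 m hm)
      rw [map_zero, TensorProduct.rid_tmul, sub_smul, one_smul, sub_eq_zero] at h
      rw [TensorProduct.counit_tmul, CommSemiring.counit_apply]
      exact h
  · show e (T.symm ((1 : L) ⊗ₜ[S] ((1 : S) ⊗ₜ[R] w m))) = _
    rw [← hT, show T.symm (T ((1 : L) ⊗ₜ[R] w m)) = _ from T.symm_apply_apply _, hw m hm]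

set_option maxHeartbeats 800000 in
set_option synthInstance.maxHeartbeats 200000 in
/-- Diagonalisability at a flat local test algebra of fractions spreads out to an etale neighbourhood. -/
theorem exists_diag_spread {R : Type u} [CommRing R] {A : Type u} [CommRing A] [HopfAlgebra R A]
    (hfp : Algebra.FinitePresentation R A) {L : Type u} [CommRing L] [IsLocalRing L] [Algebra R L] [Module.Flat R L]
    (hL : ∀ x : L, ∃ a c : R, IsUnit (algebraMap R L c) ∧ x * algebraMap R L c = algebraMap R L a)
    {M : Type u} [CommGroup M] [Group.FG M] (e : (L ⊗[R] A) ≃ₐc[L] MonoidAlgebra L M) : Spreads R A L := by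
  classical
  haveI := hfp
  obtain ⟨G, hG⟩ := Group.fg_def.mp (inferInstance : Group.FG M)
  obtain ⟨u, hu, hz⟩ := exists_common_denom hL G (fun m => e.symm (MonoidAlgebra.single m 1))
  have hz' : ∀ m, ∃ z : A, m ∈ G → e ((1 : L) ⊗ₜ[R] z) = algebraMap R L u • MonoidAlgebra.single m 1 := fun m => by
    by_cases hm : m ∈ G
    · obtain ⟨z, hz⟩ := hz m hm
      refine ⟨z, fun _ => ?_⟩
      rw [← hz, map_smul, show e (e.symm (MonoidAlgebra.single m 1)) = _ from e.apply_symm_apply _]
    · exact ⟨0, fun h => absurd h hm⟩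
  choose z hz using hz'
  refine spreads_of_forall u hu ?_
  intro S _ _ _ _ _ hu₁
  obtain ⟨T, hT⟩ := exists_towerEquiv R S L A
  refine spreads_of_lift (T.symm.trans e) G hG (fun m => (↑hu₁.unit⁻¹ : S) • ((1 : S) ⊗ₜ[R] z m)) fun m hm => ?_
  show e (T.symm ((1 : L) ⊗ₜ[S] ((↑hu₁.unit⁻¹ : S) • ((1 : S) ⊗ₜ[R] z m)))) = _
  rw [TensorProduct.tmul_smul, ← algebraMap_smul L (↑hu₁.unit⁻¹ : S), map_smul, map_smul, ← hT,
    show T.symm (T ((1 : L) ⊗ₜ[R] z m)) = _ from T.symm_apply_apply _, hz m hm, smul_smul,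
    IsScalarTower.algebraMap_apply R S L, ← map_mul, IsUnit.val_inv_mul, map_one, one_smul]

end Groth.Agent.H83.Quasi
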